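import Mathlib

/-!
# A square zero map commuting with one member of a pair of matrix units
-/

set_option autoImplicit false

namespace CfsgLib.QuadPair

variable {k : Type*} [Field k] {M : Type*} [AddCommGroup M] [Module k M]

/-- Three orthogonal idempotents with sum `1`. -/
structure OrthoTriple (p q r : (M →ₗ[k] M)) : Prop where
  sum : p + q + r = 1
  pp : p * p = p
  qq : q * q = q
  rr : r * r = r
  pq : p * q = 0
  qp : q * p = 0
  pr : p * r = 0
  rp : r * p = 0
  qr : q * r = 0
  rq : r * q = 0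

theorem orthoTriple_of_units {a d : (M →ₗ[k] M)} (ha : a * a = 0) (hd : d * d = 0) (h1 : a * d * a = a) (h2 : d * a * d = d) :
    OrthoTriple (a * d) (d * a) (1 - a * d - d * a) := by
  have e1 : a * d * (a * d) = a * d := by rw [← mul_assoc, h1]
  have e2 : d * a * (d * a) = d * a := by rw [← mul_assoc, h2]
  have e3 : a * d * (d * a) = 0 := by rw [mul_assoc, ← mul_assoc d, hd, zero_mul, mul_zero]
  have e4 : d * a * (a * d) = 0 := by rw [mul_assoc, ← mul_assoc a, ha, zero_mul, mul_zero]
  refine ⟨by abel, e1, e2, ?_, e3, e4, ?_, ?_, ?_, ?_⟩ <;>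
    simp only [mul_sub, sub_mul, mul_one, one_mul, e1, e2, e3, e4] <;> abel

variable {p q r c : (M →ₗ[k] M)}

/-- The pieces of weight 2, 1 and 0. -/
def w2 (p q c : (M →ₗ[k] M)) : (M →ₗ[k] M) := p * c * q

/-- The piece of weight 1. -/
def w1 (p q r c : (M →ₗ[k] M)) : (M →ₗ[k] M) := p * c * r + r * c * q

/-- The piece of weight 0. -/
def w0 (p q r c : (M →ₗ[k] M)) : (M →ₗ[k] M) := p * c * p + r * c * r + q * c * q

/-- The map scaled along the grading. -/
def graded (p q r c : (M →ₗ[k] M)) (s : k) : (M →ₗ[k] M) := (s * s) • w2 p q c + s • w1 p q r c + w0 p q r c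

variable (T : OrthoTriple p q r) (z1 : q * c * p = 0) (z2 : q * c * r = 0) (z3 : r * c * p = 0)
include T z1 z2 z3

theorem decomp : c = w2 p q c + w1 p q r c + w0 p q r c := by
  calc c = (p + q + r) * c * (p + q + r) := by rw [T.sum, one_mul, mul_one]
    _ = _ := by simp only [w2, w1, w0, add_mul, mul_add, z1, z2, z3]; abel

theorem conj_eq {s : k} (hs : s ≠ 0) :
    (s • p + s⁻¹ • q + r) * c * (s⁻¹ • p + s • q + r) = graded p q r c s := by
  simp only [add_mul, mul_add, smul_mul_assoc, mul_smul_comm, smul_smul, z1, z2, z3, smul_zero, graded, w2, w1, w0,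
    inv_mul_cancel₀ hs, mul_inv_cancel₀ hs, one_smul, smul_add]
  abel

theorem graded_mul (hc : c * c = 0) (s : k) :
    graded p q r c 1 * graded p q r c s = graded p q r c s * graded p q r c 1 →
    s * s ≠ 1 → (2 : k) ≠ 0 → ∀ u w : k,
      graded p q r c u * graded p q r c w = ((u - w) * (u - w)) • (p * c * q * (q * c * q)) := by
  intro hcomm hs h2 u w
  have a1 := T.pp; have a2 := T.qq; have a3 := T.rr; have a4 := T.pq; have a5 := T.qp
  have a6 := T.pr; have a7 := T.rp; have a8 := T.qr; have a9 := T.rq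
  have b1 : ∀ x : (M →ₗ[k] M), p * (p * x) = p * x := fun x => by rw [← mul_assoc, a1]
  have b2 : ∀ x : (M →ₗ[k] M), q * (q * x) = q * x := fun x => by rw [← mul_assoc, a2]
  have b3 : ∀ x : (M →ₗ[k] M), r * (r * x) = r * x := fun x => by rw [← mul_assoc, a3]
  have b4 : ∀ x : (M →ₗ[k] M), p * (q * x) = 0 := fun x => by rw [← mul_assoc, a4, zero_mul]
  have b5 : ∀ x : (M →ₗ[k] M), q * (p * x) = 0 := fun x => by rw [← mul_assoc, a5, zero_mul]
  have b6 : ∀ x : (M →ₗ[k] M), p * (r * x) = 0 := fun x => by rw [← mul_assoc, a6, zero_mul]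
  have b7 : ∀ x : (M →ₗ[k] M), r * (p * x) = 0 := fun x => by rw [← mul_assoc, a7, zero_mul]
  have b8 : ∀ x : (M →ₗ[k] M), q * (r * x) = 0 := fun x => by rw [← mul_assoc, a8, zero_mul]
  have b9 : ∀ x : (M →ₗ[k] M), r * (q * x) = 0 := fun x => by rw [← mul_assoc, a9, zero_mul]
  have y1 : q * (c * p) = 0 := by rw [← mul_assoc, z1]
  have y2 : q * (c * r) = 0 := by rw [← mul_assoc, z2]
  have y3 : r * (c * p) = 0 := by rw [← mul_assoc, z3]
  have y1' : ∀ x : (M →ₗ[k] M), q * (c * (p * x)) = 0 := fun x => by rw [← mul_assoc c, ← mul_assoc q, y1, zero_mul]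
  have y2' : ∀ x : (M →ₗ[k] M), q * (c * (r * x)) = 0 := fun x => by rw [← mul_assoc c, ← mul_assoc q, y2, zero_mul]
  have y3' : ∀ x : (M →ₗ[k] M), r * (c * (p * x)) = 0 := fun x => by rw [← mul_assoc c, ← mul_assoc r, y3, zero_mul]
  have hmid : ∀ i j : (M →ₗ[k] M), i * (c * (p * (c * j))) + i * (c * (q * (c * j))) + i * (c * (r * (c * j))) = 0 := by
    intro i j
    rw [← mul_add, ← mul_add, ← mul_add, ← mul_add, ← add_mul, ← add_mul, T.sum, one_mul, ← mul_assoc c c, hc,
      zero_mul, mul_zero]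
  have g11 := hmid p p
  have g00 := hmid r r
  have g22 := hmid q q
  have g10 := hmid p r
  have g02 := hmid r q
  have g12 := hmid p q
  simp only [y1, y2, y3, y1', y2', y3', mul_zero, add_zero, zero_add] at g11 g00 g22 g10 g02 g12
  have c10 := congrArg (fun z => p * z * r) hcomm
  have c02 := congrArg (fun z => r * z * q) hcomm
  have c12 := congrArg (fun z => p * z * q) hcomm
  simp only [graded, w2, w1, w0, add_mul, mul_add, smul_mul_assoc, mul_smul_comm, smul_smul, mul_assoc,
    a1, a2, a3, a4, a5, a6, a7, a8, a9, b1, b2, b3, b4, b5, b6, b7, b8, b9, mul_zero, smul_zero, zero_mul,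
    add_zero, zero_add, one_mul, mul_one, one_smul, y1, y2, y3, y1', y2', y3'] at c10 c02 c12
  have hs1 : (1 - s : k) ≠ 0 := fun e => hs (by rw [← sub_eq_zero.1 e, one_mul])
  have hs2 : (1 - s * s : k) ≠ 0 := fun e => hs (sub_eq_zero.1 e).symm
  set x10 := p * (c * (p * (c * r))) with hx10
  set y10 := p * (c * (r * (c * r))) with hy10
  set x02 := r * (c * (r * (c * q))) with hx02
  set y02 := r * (c * (q * (c * q))) with hy02
  set x12 := p * (c * (p * (c * q))) with hx12
  set m12 := p * (c * (r * (c * q))) with hm12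
  set y12 := p * (c * (q * (c * q))) with hy12
  have e10 : x10 = 0 ∧ y10 = 0 := by
    have h : y10 = -x10 := eq_neg_of_add_eq_zero_right g10
    have h' : (2 * (1 - s)) • x10 = 0 := by
      rw [h] at c10
      linear_combination (norm := module) -c10
    have := (smul_eq_zero.1 h').resolve_left (mul_ne_zero h2 hs1)
    exact ⟨this, by rw [h, this, neg_zero]⟩
  have e02 : x02 = 0 ∧ y02 = 0 := by
    have h : y02 = -x02 := eq_neg_of_add_eq_zero_left g02
    have h' : (2 * (1 - s)) • x02 = 0 := by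
      rw [h] at c02
      linear_combination (norm := module) -c02
    have := (smul_eq_zero.1 h').resolve_left (mul_ne_zero h2 hs1)
    exact ⟨this, by rw [h, this, neg_zero]⟩
  have e12 : x12 = y12 ∧ m12 = -((2 : k) • y12) := by
    have h' : (1 - s * s) • (x12 - y12) = 0 := by linear_combination (norm := module) -c12
    have h := sub_eq_zero.1 ((smul_eq_zero.1 h').resolve_left hs2)
    refine ⟨h, ?_⟩
    rw [h] at g12
    linear_combination (norm := module) g12
  simp only [graded, w2, w1, w0, add_mul, mul_add, smul_mul_assoc, mul_smul_comm, smul_smul, mul_assoc,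
    a1, a2, a3, a4, a5, a6, a7, a8, a9, b1, b2, b3, b4, b5, b6, b7, b8, b9, mul_zero, smul_zero, zero_mul,
    add_zero, zero_add, g11, g00, g22, ← hx10, ← hy10, ← hx02, ← hy02, ← hx12, ← hm12, ← hy12,
    e10.1, e10.2, e02.1, e02.2]
  rw [e12.1, e12.2]
  module

theorem finrank_w0_le [FiniteDimensional k M] :
    Module.finrank k (LinearMap.range (w0 p q r c)) ≤ Module.finrank k (LinearMap.range c) ∧
    (w0 p q r c = 0 →
      Module.finrank k (LinearMap.range (w1 p q r c)) ≤ Module.finrank k (LinearMap.range c)) := by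
  have hmap : ∀ (f : (M →ₗ[k] M)) (V : Submodule k M),
      Module.finrank k (V.map f) + Module.finrank k (V ⊓ LinearMap.ker f : Submodule k M) = Module.finrank k V := by
    intro f V
    have h := LinearMap.finrank_range_add_finrank_ker (f.domRestrict V)
    have e : (LinearMap.ker (f.domRestrict V)).map V.subtype = V ⊓ LinearMap.ker f := by
      ext x
      constructor
      · rintro ⟨⟨y, hy⟩, hy0, rfl⟩
        exact ⟨hy, hy0⟩
      · rintro ⟨hx, hx0⟩
        exact ⟨⟨x, hx⟩, hx0, rfl⟩
    rw [LinearMap.range_domRestrict] at h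
    rw [← e, Submodule.finrank_map_subtype_eq]
    exact h
  set V := LinearMap.range c with hV
  set N1 := V ⊓ LinearMap.ker q with hN1
  set N2 := N1 ⊓ LinearMap.ker r with hN2
  have k1 := hmap q V
  have k2 := hmap r N1
  rw [← hN1] at k1
  rw [← hN2] at k2
  have hp : ∀ m, c (p m) ∈ N2 := fun m =>
    ⟨⟨⟨_, rfl⟩, LinearMap.congr_fun z1 m⟩, LinearMap.congr_fun z3 m⟩
  have hr : ∀ m, c (r m) ∈ N1 := fun m => ⟨⟨_, rfl⟩, LinearMap.congr_fun z2 m⟩
  refine ⟨?_, fun h0 => ?_⟩
  · refine le_trans (Submodule.finrank_mono (t := N2.map p ⊔ N1.map r ⊔ V.map q) ?_) ?_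
    · rintro _ ⟨m, rfl⟩
      exact Submodule.add_mem_sup (Submodule.add_mem_sup (Submodule.mem_map_of_mem (hp m))
        (Submodule.mem_map_of_mem (hr m))) (Submodule.mem_map_of_mem ⟨q m, rfl⟩)
    · refine (Submodule.finrank_add_le_finrank_add_finrank _ _).trans ?_
      refine le_trans (Nat.add_le_add_right ((Submodule.finrank_add_le_finrank_add_finrank _ _).trans
        (Nat.add_le_add_right (Submodule.finrank_map_le _ _) _)) _) ?_
      omega
  · have hrr : r * c * r = 0 := by
      have h := congrArg (fun z => r * z * r) h0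
      simpa only [w0, mul_add, add_mul, mul_assoc, T.rr, T.rq, T.rp, T.pr, T.qr, ← mul_assoc r r, zero_mul, mul_zero,
        ← mul_assoc r p, ← mul_assoc r q, add_zero, zero_add] using h
    have hqq : q * c * q = 0 := by
      have h := congrArg (fun z => q * z * q) h0
      simpa only [w0, mul_add, add_mul, mul_assoc, T.qq, T.qr, T.qp, T.pq, T.rq, ← mul_assoc q q, zero_mul, mul_zero,
        ← mul_assoc q p, ← mul_assoc q r, add_zero, zero_add] using h
    refine le_trans (Submodule.finrank_mono (t := N2.map p ⊔ N1.map r) ?_) ?_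
    · rintro _ ⟨m, rfl⟩
      exact Submodule.add_mem_sup (Submodule.mem_map_of_mem ⟨hr m, LinearMap.congr_fun hrr m⟩)
        (Submodule.mem_map_of_mem ⟨⟨_, rfl⟩, LinearMap.congr_fun hqq m⟩)
    · refine (Submodule.finrank_add_le_finrank_add_finrank _ _).trans ?_
      refine le_trans (Nat.add_le_add_right (Submodule.finrank_map_le _ _) _) ?_
      omega

end CfsgLib.QuadPair
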