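import Cfsg.Agent.Lib.QuadPair.Component
import Cfsg.Agent.Lib.QuadPair.Grading
import Cfsg.Agent.S5037

/-!
# Members of a component are determined by the members commuting with them
-/

set_option autoImplicit false

namespace CfsgLib.QuadPair

open Cfsg Polynomial
open scoped commutatorElement MatrixGroups

variable {k : Type*} [Field k] {M : Type*} [AddCommGroup M] [Module k M]

section Units

theorem oneAdd_inv_neg {γ : M →ₗ[k] M} (h : γ * γ = 0) (c : k) :
    (oneAdd (c • γ) (smul_sq h c))⁻¹ = oneAdd ((-c) • γ) (smul_sq h (-c)) := by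
  refine inv_eq_of_mul_eq_one_right (Units.ext ?_)
  rw [Units.val_mul, Units.val_one, oneAdd_val, oneAdd_val]
  simp only [add_mul, mul_add, one_mul, mul_one, smul_mul_assoc, mul_smul_comm, h, smul_zero, add_zero]
  module

theorem oneAdd_add_smul {γ : M →ₗ[k] M} (h : γ * γ = 0) (c c' : k) :
    oneAdd (c • γ) (smul_sq h c) * oneAdd (c' • γ) (smul_sq h c') = oneAdd ((c + c') • γ) (smul_sq h (c + c')) := by
  refine Units.ext ?_
  rw [Units.val_mul, oneAdd_val, oneAdd_val, oneAdd_val]
  simp only [add_mul, mul_add, one_mul, mul_one, smul_mul_assoc, mul_smul_comm, h, smul_zero, add_zero]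
  module

theorem alpha_oneAdd {γ : M →ₗ[k] M} (h : γ * γ = 0) : alpha (oneAdd γ h) = γ := by
  simp [alpha, oneAdd_val]

/-- The diagonal matrix. -/
def diagSL (s : k) (hs : s ≠ 0) : SL(2, k) := ⟨!![s, 0; 0, s⁻¹], by simp [Matrix.det_fin_two, hs]⟩

theorem diagSL_inv (s : k) (hs : s ≠ 0) : (diagSL s hs)⁻¹ = diagSL s⁻¹ (inv_ne_zero hs) := by
  refine inv_eq_of_mul_eq_one_right (Subtype.ext ?_)
  show !![s, 0; 0, s⁻¹] * !![s⁻¹, 0; 0, s⁻¹⁻¹] = (1 : Matrix (Fin 2) (Fin 2) k)
  ext i j
  fin_cases i <;> fin_cases j <;> simp [Matrix.mul_apply, Fin.sum_univ_two, hs]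

variable [FiniteDimensional k M]

theorem unitsHom_diag_val {a d : M →ₗ[k] M} (ha : a * a = 0) (hd : d * d = 0) (h1 : a * d * a = a)
    (h2 : d * a * d = d) (s : k) (hs : s ≠ 0) :
    ((unitsHom ha hd h1 h2 (diagSL s hs) : LinearMap.GeneralLinearGroup k M) : M →ₗ[k] M) =
      s • (a * d) + s⁻¹ • (d * a) + (1 - a * d - d * a) := by
  show unitsFun a d !![s, 0; 0, s⁻¹] = _
  simp only [unitsFun, Matrix.of_apply, Matrix.cons_val', Matrix.cons_val_zero, Matrix.cons_val_one,
    Matrix.empty_val', Matrix.cons_val_fin_one]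
  module

theorem unitsHom_mem {a d : M →ₗ[k] M} (ha : a * a = 0) (hd : d * d = 0) (h1 : a * d * a = a)
    (h2 : d * a * d = d) {H : Subgroup (LinearMap.GeneralLinearGroup k M)}
    (hA : ∀ c : k, oneAdd (c • a) (smul_sq ha c) ∈ H) (hD : ∀ c : k, oneAdd (c • d) (smul_sq hd c) ∈ H)
    (g : SL(2, k)) : unitsHom ha hd h1 h2 g ∈ H := by
  have : H.comap (unitsHom ha hd h1 h2) = ⊤ := by
    refine eq_top_of_elementary _ (fun c => ?_) (fun c => ?_) <;> rw [Subgroup.mem_comap]
    · convert hA c using 1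
      exact Units.ext (by show unitsFun a d _ = 1 + c • a; simp [unitsFun, upper_val])
    · convert hD c using 1
      exact Units.ext (by show unitsFun a d _ = 1 + c • d; simp [unitsFun, lower_val])
  exact (this ▸ Subgroup.mem_top g : g ∈ H.comap (unitsHom ha hd h1 h2))

end Units

theorem graded_facts {p q r c : M →ₗ[k] M} (T : OrthoTriple p q r) (z1 : q * c * p = 0) (z2 : q * c * r = 0) (z3 : r * c * p = 0)
    (h2 : (2 : k) ≠ 0)
    (hmul : ∀ u w : k, graded p q r c u * graded p q r c w = ((u - w) * (u - w)) • (p * c * q * (q * c * q))) :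
    let A := w2 p q c
    let B := w1 p q r c
    let C := w0 p q r c
    A * A = 0 ∧ A * B = 0 ∧ B * A = 0 ∧ C * C = 0 ∧ A * C = C * A ∧ B * C = 0 ∧ C * B = 0 ∧
      B * B = -((2 : k) • (A * C)) := by
  intro A B C
  have hA : A * A = 0 := by
    show p * c * q * (p * c * q) = 0
    rw [show p * c * q * (p * c * q) = p * c * (q * p) * c * q by noncomm_ring, T.qp]; simp
  have hAB : A * B = 0 := by
    show p * c * q * (p * c * r + r * c * q) = 0
    rw [show p * c * q * (p * c * r + r * c * q) = p * c * (q * p) * c * r + p * c * (q * r) * c * q by noncomm_ring,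
      T.qp, T.qr]; simp
  have hBA : B * A = 0 := by
    show (p * c * r + r * c * q) * (p * c * q) = 0
    rw [show (p * c * r + r * c * q) * (p * c * q) = p * c * (r * p) * c * q + r * c * (q * p) * c * q by noncomm_ring,
      T.qp, T.rp]; simp
  have hC : C * C = 0 := by
    have h := hmul 0 0
    simpa [graded] using h
  have hg : ∀ u : k, graded p q r c u = (u * u) • A + u • B + C := fun u => rfl
  have h10 := hmul 1 0
  have h01 := hmul 0 1
  have hm0 := hmul (-1) 0
  have h0m := hmul 0 (-1)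
  have h11 := hmul 1 1
  simp only [hg, add_mul, mul_add, smul_mul_assoc, mul_smul_comm, smul_zero, zero_smul, zero_add, add_zero, hC,
    sub_zero, zero_sub, mul_zero, zero_mul, one_smul, mul_one, one_mul, neg_mul, mul_neg, neg_neg, sub_self,
    hA, hAB, hBA, smul_smul] at h10 h01 hm0 h0m h11
  set x := p * c * q * (q * c * q)
  have eAC : A * C = x := by
    have : (2 : k) • (A * C - x) = 0 := by linear_combination (norm := module) h10 + hm0
    exact sub_eq_zero.1 ((smul_eq_zero.1 this).resolve_left h2)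
  have eCA : C * A = x := by
    have : (2 : k) • (C * A - x) = 0 := by linear_combination (norm := module) h01 + h0m
    exact sub_eq_zero.1 ((smul_eq_zero.1 this).resolve_left h2)
  have eBC : B * C = 0 := by linear_combination (norm := module) h10 - eAC
  have eCB : C * B = 0 := by linear_combination (norm := module) h01 - eCA
  refine ⟨hA, hAB, hBA, hC, eAC.trans eCA.symm, eBC, eCB, ?_⟩
  rw [eAC]
  linear_combination (norm := module) h11 - eAC - eCA - eBC - eCB

variable [FiniteDimensional k M] {G : Subgroup (LinearMap.GeneralLinearGroup k M)}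

/-- A quadratic element of rank at most that of a minimal one is minimal. -/
theorem minimal_of_family {σ : LinearMap.GeneralLinearGroup k M} (hσ : σ ∈ minimalQuadraticElements G)
    {γ : M →ₗ[k] M} (hsq : γ * γ = 0) (hne : γ ≠ 0) (hfam : ∀ t : k, oneAdd (t • γ) (smul_sq hsq t) ∈ G)
    (hle : Module.finrank k (LinearMap.range γ) ≤ Module.finrank k (LinearMap.range (alpha σ))) :
    oneAdd γ hsq ∈ minimalQuadraticElements G := by
  refine ⟨⟨?_, ⟨?_, ?_⟩, ?_⟩, fun t ht => le_trans ?_ (hσ.2 t ht)⟩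
  · convert hfam 1 using 1
    exact Units.ext (by simp [oneAdd_val])
  · show alpha (oneAdd γ hsq) * alpha (oneAdd γ hsq) = 0
    rw [alpha_oneAdd, hsq]
  · show alpha (oneAdd γ hsq) ≠ 0
    rw [alpha_oneAdd]; exact hne
  · rintro u ⟨t, ht⟩
    have : u = oneAdd (t • γ) (smul_sq hsq t) := Units.ext (by
      rw [ht]
      show 1 + t • alpha (oneAdd γ hsq) = _
      rw [alpha_oneAdd]; rfl)
    rw [this]; exact hfam t
  · show Module.finrank k (LinearMap.range (alpha (oneAdd γ hsq))) ≤ Module.finrank k (LinearMap.range (alpha σ))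
    rwa [alpha_oneAdd]

variable (h2 : (2 : k) ≠ 0) (h3 : Nat.card k ≠ 3)
include h2 h3

theorem rootSet_dichotomy (hG : IsQuadraticPair G) (A : Subgroup (LinearMap.GeneralLinearGroup k M)) :
    IsDegenerateRootSet ((fun B : Subgroup (LinearMap.GeneralLinearGroup k M) => B.subgroupOf (componentJoin G A)) ''
        component G A) ∨
      IsNondegenerateRootSet ((fun B : Subgroup (LinearMap.GeneralLinearGroup k M) => B.subgroupOf (componentJoin G A)) ''
        component G A) := by
  refine or_iff_not_imp_left.2 fun hd => ?_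
  have hS := isRootSubgroupSet_component h2 h3 hG A
  unfold IsDegenerateRootSet at hd
  push Not at hd
  obtain ⟨X, hX, Y, hY, hXY⟩ := hd
  obtain ⟨B, hB, rfl⟩ := hX
  obtain ⟨Q, hQ, hBQ⟩ := exists_partner_component h2 h3 hG hB.1
  rw [component_eq_of_mem hB] at hQ
  exact ⟨⟨_, ⟨B, hB, rfl⟩, _, hXY.1, RootSub.case_ne hXY hS, RootSub.commutator_eq_bot_of_commute
      fun x hx c hc => (RootSub.case_central hXY hc (Subgroup.mem_sup_left hx)).symm⟩,
    ⟨_, ⟨B, hB, rfl⟩, _, ⟨Q, hQ, rfl⟩, rankOnePair_subgroupOf (le_componentJoin hB) (le_componentJoin hQ) hBQ⟩,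
    _, ⟨B, hB, rfl⟩, Y, hY, hXY⟩

theorem centralizing_converse (hG : IsQuadraticPair G) {A D : Subgroup (LinearMap.GeneralLinearGroup k M)}
    (hA : A ∈ quadraticRootSubgroups G) (hD : D ∈ component G A)
    (h : ∀ F ∈ component G A, ⁅F, A⁆ = ⊥ → ⁅F, D⁆ = ⊥) : ∀ F ∈ component G A, ⁅F, D⁆ = ⊥ → ⁅F, A⁆ = ⊥ := by
  rcases eq_or_ne D A with rfl | hne
  · exact fun F _ hF => hF
  set X := componentJoin G A
  set S := (fun B : Subgroup (LinearMap.GeneralLinearGroup k M) => B.subgroupOf X) '' component G A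
  have hinj : ∀ {U V : Subgroup (LinearMap.GeneralLinearGroup k M)}, U ∈ component G A → V ∈ component G A →
      U.subgroupOf X = V.subgroupOf X → U = V := fun hU hV e => by
    rw [← map_subgroupOf_le (le_componentJoin hU), e, map_subgroupOf_le (le_componentJoin hV)]
  have hiff : ∀ {U V : Subgroup (LinearMap.GeneralLinearGroup k M)}, U ∈ component G A → V ∈ component G A →
      (U.subgroupOf X ∈ centralizingMembers S (V.subgroupOf X) ↔ ⁅U, V⁆ = ⊥) := by
    intro U V hU hV
    rw [RootSub.mem_centralizingMembers, commutator_subgroupOf (le_componentJoin hU) (le_componentJoin hV)]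
    constructor
    · rintro ⟨-, e⟩
      have e' := congrArg (fun Z : Subgroup ↥X => Z.map X.subtype) e
      simp only [Subgroup.map_bot] at e'
      rwa [map_subgroupOf_le] at e'
      exact (Subgroup.commutator_mono (le_componentJoin hU) (le_componentJoin hV)).trans
        (Subgroup.commutator_le.2 fun a ha b hb => mul_mem (mul_mem (mul_mem ha hb) (inv_mem ha)) (inv_mem hb))
    · intro e
      exact ⟨⟨U, hU, rfl⟩, by rw [e, Subgroup.bot_subgroupOf]⟩
  have hAA := mem_component_self hA
  have h' := (Cfsg.Agent.S5037.result (isRootSubgroupClass_component h2 h3 hG hA) (rootSet_dichotomy h2 h3 hG A)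
    (A := A.subgroupOf X) (C := D.subgroupOf X) ⟨A, hAA, rfl⟩ ⟨D, hD, rfl⟩
    (fun e => hne (hinj hAA hD e).symm)).1 ?_
  · intro F hF hFD
    exact (hiff hF hAA).1 (h' ▸ (hiff hF hD).2 hFD)
  · intro U hU
    obtain ⟨F, hF, rfl⟩ := hU.1
    exact (hiff hF hD).2 (h F hF ((hiff hF hAA).1 hU))

/-- **Members with the same commuting members are equal.** -/
theorem eq_of_centralizing (hG : IsQuadraticPair G) {σ τ : LinearMap.GeneralLinearGroup k M}
    (hσ : σ ∈ minimalQuadraticElements G) (hτ : τ ∈ minimalQuadraticElements G)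
    (hC : sameActionSubgroup G τ ∈ component G (sameActionSubgroup G σ))
    (h : ∀ F ∈ component G (sameActionSubgroup G σ), ⁅F, sameActionSubgroup G σ⁆ = ⊥ →
      ⁅F, sameActionSubgroup G τ⁆ = ⊥) : sameActionSubgroup G τ = sameActionSubgroup G σ := by
  set A := sameActionSubgroup G σ with hAdef
  have hAm : A ∈ quadraticRootSubgroups G := ⟨σ, hσ, rfl⟩
  set K := componentJoin G A
  obtain ⟨v, hv, e1, e2, hP⟩ := exists_opposite_component h2 h3 hG hσ
  rw [← hAdef] at hP
  set a := alpha σ with hadef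
  set d := alpha v with hddef
  set c := alpha τ with hcdef
  have ha : a * a = 0 := sq_of_min hσ
  have hd : d * d = 0 := sq_of_min hv
  have hc : c * c = 0 := sq_of_min hτ
  have hAA : ⁅A, A⁆ = ⊥ := RootSub.commutator_eq_bot_of_commute fun x hx y hy => sameAction_comm hσ hx hy
  have hAC := h A (mem_component_self hAm) hAA
  have hca : c * a = a * c := sub_eq_zero.1 (bracket_of_comm (RootSub.commute_of_commutator_eq_bot hAC
    (self_mem_sameAction hσ) (self_mem_sameAction hτ)).symm)
  set p := a * d with hp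
  set q := d * a with hq
  set r := 1 - a * d - d * a with hr
  have T : OrthoTriple p q r := orthoTriple_of_units ha hd e1 e2
  have hpa : p * a = a := e1
  have hqa : q * a = 0 := by rw [hq, mul_assoc, ha, mul_zero]
  have hra : r * a = 0 := by rw [hr, sub_mul, sub_mul, one_mul, e1, mul_assoc d, ha, mul_zero]; abel
  have hap : a * p = 0 := by rw [hp, ← mul_assoc, ha, zero_mul]
  have haq : a * q = a := by rw [hq, ← mul_assoc, e1]
  have har : a * r = 0 := by rw [hr, mul_sub, mul_sub, mul_one, ← mul_assoc, ha, zero_mul, ← mul_assoc, e1]; abel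
  have hpd : p * d = 0 := by rw [hp, mul_assoc, hd, mul_zero]
  have hqd : q * d = d := e2
  have hrd : r * d = 0 := by rw [hr, sub_mul, sub_mul, one_mul, e2, mul_assoc a, hd, mul_zero]; abel
  have hdp : d * p = d := by rw [hp, ← mul_assoc, e2]
  have hdq : d * q = 0 := by rw [hq, ← mul_assoc, hd, zero_mul]
  have hdr : d * r = 0 := by rw [hr, mul_sub, mul_sub, mul_one, ← mul_assoc, e2, ← mul_assoc, hd, zero_mul]; abel
  have z1 : q * c * p = 0 := by
    rw [hq, hp, show d * a * c * (a * d) = d * (a * c) * a * d by noncomm_ring, ← hca, mul_assoc d, mul_assoc c, ha]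
    simp
  have z2 : q * c * r = 0 := by
    rw [hq, show d * a * c * r = d * (a * c) * r by noncomm_ring, ← hca, mul_assoc d, mul_assoc c, har]
    simp
  have z3 : r * c * p = 0 := by
    rw [hp, show r * c * (a * d) = r * (c * a) * d by noncomm_ring, hca, ← mul_assoc r, hra]
    simp
  -- the group of elements commuting with every member that commutes with `A`
  set Z : Subgroup (LinearMap.GeneralLinearGroup k M) :=
    ⨆ F ∈ {F | F ∈ component G A ∧ ⁅F, A⁆ = ⊥}, F with hZ
  set W := K ⊓ Subgroup.centralizer (Z : Set (LinearMap.GeneralLinearGroup k M)) with hW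
  have hWG : W ≤ G := inf_le_left.trans (componentJoin_le A)
  have hCZ : sameActionSubgroup G τ ≤ Z := by
    refine le_iSup₂_of_le _ ⟨hC, ?_⟩ le_rfl
    rw [Subgroup.commutator_comm]
    exact hAC
  have hτW : ∀ t : k, oneAdd (t • c) (smul_sq hc t) ∈ W := by
    intro t
    have hm : oneAdd (t • c) (smul_sq hc t) ∈ sameActionSubgroup G τ := (mem_sameAction_iff hτ).2
      (by rw [alpha_oneAdd]; exact Submodule.smul_mem _ _ (alpha_mem_actSpace hτ))
    refine ⟨le_componentJoin hC hm, Subgroup.mem_centralizer_iff.2 fun z hz => ?_⟩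
    have hle : Z ≤ Subgroup.centralizer (sameActionSubgroup G τ : Set (LinearMap.GeneralLinearGroup k M)) :=
      iSup₂_le fun F hF => (Subgroup.commutator_eq_bot_iff_le_centralizer).1 (h F hF.1 hF.2)
    exact (Subgroup.mem_centralizer_iff.1 (hle hz) _ hm).symm
  let hh : ∀ s : k, s ≠ 0 → LinearMap.GeneralLinearGroup k M := fun s hs => unitsHom ha hd e1 e2 (diagSL s hs)
  have hfamA : ∀ t : k, oneAdd (t • a) (smul_sq ha t) ∈ A := fun t => (mem_sameAction_iff hσ).2
    (by rw [alpha_oneAdd]; exact Submodule.smul_mem _ _ (alpha_mem_actSpace hσ))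
  have hfamP : ∀ t : k, oneAdd (t • d) (smul_sq hd t) ∈ sameActionSubgroup G v := fun t => (mem_sameAction_iff hv).2
    (by rw [alpha_oneAdd]; exact Submodule.smul_mem _ _ (alpha_mem_actSpace hv))
  have hhK : ∀ s (hs : s ≠ 0), hh s hs ∈ K := fun s hs => unitsHom_mem ha hd e1 e2
    (fun t => le_componentJoin (mem_component_self hAm) (hfamA t)) (fun t => le_componentJoin hP (hfamP t)) _
  have hhinv : ∀ s (hs : s ≠ 0), (hh s hs)⁻¹ = hh s⁻¹ (inv_ne_zero hs) := fun s hs => by
    show (unitsHom ha hd e1 e2 _)⁻¹ = unitsHom ha hd e1 e2 _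
    rw [← map_inv, diagSL_inv]
  have hhval : ∀ s (hs : s ≠ 0), ((hh s hs : LinearMap.GeneralLinearGroup k M) : M →ₗ[k] M) =
      s • p + s⁻¹ • q + r := fun s hs => unitsHom_diag_val ha hd e1 e2 s hs
  have hhA : ∀ s (hs : s ≠ 0), conjBy A (hh s hs) = A := by
    intro s hs
    have hG' : hh s hs ∈ G := componentJoin_le A (hhK s hs)
    rw [hAdef, conjBy_sameAction hG']
    refine (sameAction_eq_of_mem hσ ((mem_sameAction_iff hσ).2 ?_) fun e => ?_).2
    · have : alpha (hh s hs * σ * (hh s hs)⁻¹) = (s * s) • a := by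
        rw [alpha, Units.val_mul, Units.val_mul, alpha_add_one σ, ← hadef, mul_add, add_mul, mul_one, Units.mul_inv,
          add_sub_cancel_left, hhinv s hs, hhval, hhval]
        simp only [add_mul, mul_add, smul_mul_assoc, mul_smul_comm, smul_smul, hpa, hqa, hra, haq, har, hap,
          inv_inv, smul_zero, add_zero, zero_add]
      rw [this]
      exact Submodule.smul_mem _ _ (alpha_mem_actSpace hσ)
    · have : σ = 1 := by
        have e' := congrArg (fun x => (hh s hs)⁻¹ * x * hh s hs) e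
        simpa [mul_assoc] using e'
      exact alpha_ne_zero hσ (by rw [this, alpha_one])
  have hWh : ∀ s (hs : s ≠ 0), ∀ u ∈ W, hh s hs * u * (hh s hs)⁻¹ ∈ W := by
    intro s hs u hu
    refine Subgroup.mem_inf.2 ⟨mul_mem (mul_mem (hhK s hs) (Subgroup.mem_inf.1 hu).1) (inv_mem (hhK s hs)),
      Subgroup.mem_centralizer_iff.2 fun z hz => ?_⟩
    have hle : conjBy Z (hh s hs)⁻¹ ≤ Z := by
      rw [hZ, conjBy]
      simp only [Subgroup.map_iSup]
      refine iSup₂_le fun F hF => le_iSup₂_of_le _ ⟨conjBy_mem_component h2 h3 hG hF.1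
        (componentJoin_le_rootJoinQ A (inv_mem (hhK s hs))), ?_⟩ le_rfl
      have e := RootSub.commutator_conjBy_bot hF.2 (hh s hs)⁻¹
      rwa [hhinv s hs, hhA, ← hhinv s hs] at e
    have hz' : (hh s hs)⁻¹ * z * hh s hs ∈ Z := hle ⟨z, hz, by simp⟩
    have e := Subgroup.mem_centralizer_iff.1 hu.2 _ hz'
    calc z * (hh s hs * u * (hh s hs)⁻¹) = hh s hs * ((hh s hs)⁻¹ * z * hh s hs * u) * (hh s hs)⁻¹ := by group
      _ = hh s hs * (u * ((hh s hs)⁻¹ * z * hh s hs)) * (hh s hs)⁻¹ := by rw [e]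
      _ = hh s hs * u * (hh s hs)⁻¹ * z := by group
  have hg1 : graded p q r c (1 : k) = c := by
    conv_rhs => rw [decomp T z1 z2 z3]
    simp [graded]
  have hgW : ∀ s : k, s ≠ 0 → ∀ t : k, ∃ u ∈ W, (u : M →ₗ[k] M) = 1 + t • graded p q r c s := by
    intro s hs t
    refine ⟨_, hWh s hs _ (hτW t), ?_⟩
    rw [Units.val_mul, Units.val_mul, oneAdd_val, mul_add, add_mul, mul_one, Units.mul_inv, hhinv s hs, hhval, hhval,
      inv_inv, mul_smul_comm, smul_mul_assoc, conj_eq T z1 z2 z3 hs]
  obtain ⟨s, hs, hs2⟩ := exists_sq_ne_one (card_eq_zero_or (k := k) (F := k) h2 h3)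
  have hss : s * s ≠ 1 := by rwa [← sq]
  obtain ⟨us, hus, eus⟩ := hgW s hs 1
  have hcomm : graded p q r c 1 * graded p q r c s = graded p q r c s * graded p q r c 1 := by
    have e := Subgroup.mem_centralizer_iff.1 hus.2 τ (hCZ (self_mem_sameAction hτ))
    have e' := sub_eq_zero.1 (bracket_of_comm e)
    have hus' : alpha us = graded p q r c s := by rw [alpha, eus, one_smul, add_sub_cancel_left]
    rw [hg1]
    rwa [hus', ← hcdef] at e'
  have hmul := graded_mul T z1 z2 z3 hc s hcomm hss h2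
  obtain ⟨hA2, hAB, hBA, hC2, hAC', hBC, hCB, hBB⟩ := graded_facts T z1 z2 z3 h2 hmul
  set w₂ := w2 p q c with hw₂
  set w₁ := w1 p q r c with hw₁
  set w₀ := w0 p q r c with hw₀
  have hgr : ∀ u : k, graded p q r c u = (u * u) • w₂ + u • w₁ + w₀ := fun u => rfl
  -- the weight two and weight zero elements
  have hpair : ∀ u : k, u ≠ 0 → ∀ t : k,
      oneAdd ((2 * t * (u * u)) • w₂) (smul_sq hA2 _) * oneAdd ((2 * t) • w₀) (smul_sq hC2 _) ∈ W := by
    intro u hu t
    obtain ⟨u1, hu1, eu1⟩ := hgW u hu t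
    obtain ⟨u2, hu2, eu2⟩ := hgW (-u) (neg_ne_zero.2 hu) t
    convert mul_mem hu1 hu2 using 1
    refine Units.ext ?_
    rw [Units.val_mul, Units.val_mul, eu1, eu2, oneAdd_val, oneAdd_val, hgr, hgr]
    simp only [add_mul, mul_add, one_mul, mul_one, smul_mul_assoc, mul_smul_comm, smul_smul, smul_add, hA2, hAB, hBA,
      hC2, hBC, hCB, hBB, ← hAC', smul_zero, add_zero, zero_add]
    module
  have hW2 : ∀ t : k, oneAdd (t • w₂) (smul_sq hA2 _) ∈ W := by
    intro t
    set t' := t / (2 * (1 - s * s))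
    have hne : 2 * (1 - s * s) ≠ 0 := mul_ne_zero h2 (sub_ne_zero.2 (Ne.symm hss))
    have e : oneAdd (t • w₂) (smul_sq hA2 _) = (oneAdd ((2 * t' * (1 * 1)) • w₂) (smul_sq hA2 _) *
        oneAdd ((2 * t') • w₀) (smul_sq hC2 _)) * (oneAdd ((2 * t' * (s * s)) • w₂) (smul_sq hA2 _) *
        oneAdd ((2 * t') • w₀) (smul_sq hC2 _))⁻¹ := by
      rw [mul_inv_rev, mul_assoc, mul_inv_cancel_left, oneAdd_inv_neg hA2,
        oneAdd_add_smul hA2]
      congr 2
      rw [show 2 * t' * (1 * 1) + -(2 * t' * (s * s)) = t' * (2 * (1 - s * s)) by ring]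
      exact (div_mul_cancel₀ t hne).symm
    rw [e]
    exact mul_mem (hpair 1 one_ne_zero t') (inv_mem (hpair s hs t'))
  have hW0 : ∀ t : k, oneAdd (t • w₀) (smul_sq hC2 _) ∈ W := by
    intro t
    have h' := mul_mem (inv_mem (hW2 (2 * (t / 2) * (1 * 1)))) (hpair 1 one_ne_zero (t / 2))
    rw [inv_mul_cancel_left] at h'
    convert h' using 3
    field_simp
  have hrank := finrank_w0_le T z1 z2 z3
  have hmember : ∀ {γ : M →ₗ[k] M} (hsq : γ * γ = 0), γ ≠ 0 → (∀ t : k, oneAdd (t • γ) (smul_sq hsq t) ∈ W) →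
      Module.finrank k (LinearMap.range γ) ≤ Module.finrank k (LinearMap.range c) →
      oneAdd γ hsq ∈ minimalQuadraticElements G ∧
      sameActionSubgroup G (oneAdd γ hsq) ∈ component G A ∧
      (∀ F ∈ component G A, ⁅F, sameActionSubgroup G (oneAdd γ hsq)⁆ = ⊥ → ⁅F, A⁆ = ⊥) := by
    intro γ hsq hne hf hle
    have hu := minimal_of_family hτ hsq hne (fun t => hWG (hf t)) hle
    have huW : oneAdd γ hsq ∈ W := by
      convert hf 1 using 1
      exact Units.ext (by simp [oneAdd_val])
    have hu1 : oneAdd γ hsq ≠ 1 := fun e => hne (by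
      have := congrArg alpha e
      rwa [alpha_oneAdd, alpha_one] at this)
    have hDc : sameActionSubgroup G (oneAdd γ hsq) ∈ component G A :=
      mem_component_of_mem h2 h3 hG ⟨_, hu, rfl⟩ (self_mem_sameAction hu) hu1 huW.1
    refine ⟨hu, hDc, centralizing_converse h2 h3 hG hAm hDc fun F hF hFA => ?_⟩
    obtain ⟨f, hf', hf1⟩ := exists_elem hF.1
    refine commute_of_elem h2 h3 hG hF.1 ⟨_, hu, rfl⟩ hf' hf1 (self_mem_sameAction hu) hu1 ?_
    have hFZ : F ≤ Z := le_iSup₂_of_le F ⟨hF, hFA⟩ le_rfl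
    exact Subgroup.mem_centralizer_iff.1 huW.2 f (hFZ hf')
  have hAP : ⁅sameActionSubgroup G v, A⁆ ≠ ⊥ := fun hb => alpha_ne_zero hσ (by
    show a = 0
    have hcda : d * a = a * d := sub_eq_zero.1 (bracket_of_comm
      (RootSub.commute_of_commutator_eq_bot hb (self_mem_sameAction hv) (self_mem_sameAction hσ)))
    rw [← e1, hp, ← hcda, mul_assoc d a a, ha, mul_zero])
  -- the weight zero part vanishes
  have h0 : w₀ = 0 := by
    by_contra hne
    obtain ⟨hu, hDc, hconv⟩ := hmember hC2 hne hW0 hrank.1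
    have hcd : bracket w₀ d = 0 := by
      have l1 : w₀ * d = q * c * d := by
        simp only [hw₀, w0, add_mul, mul_assoc, hpd, hqd, hrd, mul_zero, add_zero, zero_add]
      have l2 : d * w₀ = d * c * p := by
        simp only [hw₀, w0, mul_add, ← mul_assoc, hdp, hdq, hdr, zero_mul, add_zero, zero_add]
      rw [bracket, l1, l2, hq, hp, mul_assoc d a c, ← hca, sub_eq_zero]
      noncomm_ring
    refine hAP (hconv _ hP (commute_of_elem h2 h3 hG ⟨v, hv, rfl⟩ ⟨_, hu, rfl⟩ (self_mem_sameAction hv)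
      (fun e => alpha_ne_zero hv (by rw [e, alpha_one])) (self_mem_sameAction hu)
      (fun e => alpha_ne_zero hu (by rw [e, alpha_one])) ?_))
    refine (comm_of_bracket_zero ?_).symm
    rw [alpha_oneAdd]
    exact hcd
  -- the weight one part vanishes
  have h1 : w₁ = 0 := by
    by_contra hne
    have hB2 : w₁ * w₁ = 0 := by rw [hBB, h0, mul_zero, smul_zero, neg_zero]
    have hW1 : ∀ t : k, oneAdd (t • w₁) (smul_sq hB2 t) ∈ W := by
      intro t
      have h' := mul_mem (inv_mem (hW2 t)) (hτW t)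
      convert h' using 1
      rw [oneAdd_inv_neg hA2]
      refine Units.ext ?_
      rw [Units.val_mul, oneAdd_val, oneAdd_val, oneAdd_val, ← hg1, hgr, h0]
      simp only [add_mul, mul_add, one_mul, mul_one, smul_mul_assoc, mul_smul_comm, smul_smul, smul_add, hA2, hAB,
        smul_zero, add_zero, zero_add]
      module
    obtain ⟨hu, hDc, hconv⟩ := hmember hB2 hne hW1 (hrank.2 h0)
    set u := oneAdd w₁ hB2 with hudef
    have hαu : alpha u = w₁ := alpha_oneAdd hB2
    have hwd : w₁ * d = r * c * d := by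
      simp only [hw₁, w1, add_mul, mul_assoc, hqd, hrd, mul_zero, add_zero, zero_add]
    have hdwd : d * (w₁ * d) = 0 := by rw [hwd, ← mul_assoc, ← mul_assoc, hdr, zero_mul, zero_mul]
    have hX : (w₁ * d) * (w₁ * d) * w₁ = 0 := by rw [mul_assoc w₁ d (w₁ * d), hdwd, mul_zero, zero_mul]
    rcases root_pair_cases h2 h3 hu hv with hb | ⟨hn, hb⟩ | ⟨f, hf⟩
    · refine hAP (hconv _ hP ?_)
      rw [Subgroup.commutator_comm]
      exact hb
    · have hcase := rootCommutatorCase_of_nil h2 h3 hG hu hv hn hb (class_two h2 h3 hG hu hv hn hb).2.1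
      have hHc := (case_component h2 h3 hG ⟨u, hu, rfl⟩ ⟨v, hv, rfl⟩ hcase).1
      rw [component_eq_of_mem hDc] at hHc
      have hHD : ⁅⁅sameActionSubgroup G u, sameActionSubgroup G v⁆, sameActionSubgroup G u⁆ = ⊥ :=
        RootSub.commutator_eq_bot_of_commute fun x hx y hy => hcase.2.1 x hx y (Subgroup.mem_sup_left hy)
      have hHA := hconv _ hHc hHD
      have hεm : commElt u v ∈ ⁅sameActionSubgroup G u, sameActionSubgroup G v⁆ := by
        rw [(class_two h2 h3 hG hu hv hn hb).1]
        exact self_mem_sameAction (commData hu hv hn hb).mem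
      have e := bracket_of_comm (RootSub.commute_of_commutator_eq_bot hHA hεm (self_mem_sameAction hσ))
      rw [(commData hu hv hn hb).eq, hαu] at e
      have l1 : a * w₁ = 0 := by
        simp only [hw₁, w1, mul_add, ← mul_assoc, hap, har, zero_mul, add_zero]
      have l2 : w₁ * a = 0 := by
        simp only [hw₁, w1, add_mul, mul_assoc, hqa, hra, mul_zero, add_zero]
      have l3 : bracket (bracket w₁ d) a = w₁ * (d * a) + a * d * w₁ := by
        rw [bracket, bracket, sub_mul, mul_sub, mul_assoc d w₁ a, l2, mul_zero, ← mul_assoc a w₁ d, l1, zero_mul]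
        noncomm_ring
      rw [← hadef, ← hddef, l3, ← hp, ← hq] at e
      have l4 : w₁ * q + p * w₁ = w₁ := by
        have l5 : w₁ * q = r * c * q := by
          simp only [hw₁, w1, add_mul, mul_assoc, T.qq, T.rq, mul_zero, zero_add]
        have l6 : p * w₁ = p * c * r := by
          simp only [hw₁, w1, mul_add, ← mul_assoc, T.pp, T.pr, zero_mul, add_zero]
        rw [l5, l6, hw₁, w1, add_comm]
      exact hne (l4 ▸ e)
    · have hXf : f ∣ X := hf.dvd_of_mul_X (by
        rw [hαu, aeval_X]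
        exact hX)
      exact hf.not_dvd (Irreducible.associated_of_dvd hf.irred Polynomial.irreducible_X hXf).symm.dvd
  have hceq : c = p * c * q := by
    conv_lhs => rw [decomp T z1 z2 z3]
    show w₂ + w₁ + w₀ = _
    rw [h1, h0, add_zero, add_zero]; rfl
  refine (sameAction_eq_of_mem hσ ((mem_sameAction_iff hσ).2 ⟨?_, ?_, ?_⟩)
    fun e => alpha_ne_zero hτ (by rw [e, alpha_one])).2
  · rintro _ ⟨m, rfl⟩
    rw [← hcdef, hceq]
    exact ⟨_, rfl⟩
  · intro m hm
    rw [LinearMap.mem_ker, ← hcdef, hceq]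
    show (p * c * (d * a)) m = 0
    simp only [Module.End.mul_apply]
    rw [show a m = 0 from LinearMap.mem_ker.1 hm]
    simp
  · exact fun t => ((alpha_mem_actSpace hτ).2.2 t)

end CfsgLib.QuadPair
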