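import Cfsg.Agent.Lib.QuadPair.Centralizing

/-!
# Splitting quadratic elements along the components
-/

set_option autoImplicit false

namespace CfsgLib.QuadPair

open Cfsg Polynomial
open scoped commutatorElement MatrixGroups

variable {k : Type*} [Field k] {M : Type*} [AddCommGroup M] [Module k M] [FiniteDimensional k M]
variable {G : Subgroup (LinearMap.GeneralLinearGroup k M)}

theorem alpha_oneAdd_conj {γ δ : M →ₗ[k] M} (hγ : γ * γ = 0) (hδ : δ * δ = 0) :
    alpha (oneAdd γ hγ * oneAdd δ hδ * (oneAdd γ hγ)⁻¹) = δ + (γ * δ - δ * γ) - γ * δ * γ := by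
  have hinv : (((oneAdd γ hγ)⁻¹ : LinearMap.GeneralLinearGroup k M) : M →ₗ[k] M) = 1 - γ := rfl
  rw [alpha, Units.val_mul, Units.val_mul, hinv, oneAdd_val, oneAdd_val]
  simp only [add_mul, mul_add, mul_sub, one_mul, mul_one, hγ]
  abel

theorem oneAdd_alpha {q : LinearMap.GeneralLinearGroup k M} (h : alpha q * alpha q = 0) : oneAdd (alpha q) h = q :=
  Units.ext (by rw [oneAdd_val, ← alpha_add_one])

theorem family_mem {q : LinearMap.GeneralLinearGroup k M} (hq : q ∈ quadraticElements G) (t : k) :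
    oneAdd (t • alpha q) (smul_sq (show alpha q * alpha q = 0 from hq.2.1.1) t) ∈ G :=
  hq.2.2 (oneAdd_mem_scalarFamily (show alpha q * alpha q = 0 from hq.2.1.1) t)

theorem quadratic_of_family {γ : M →ₗ[k] M} (hsq : γ * γ = 0) (hne : γ ≠ 0)
    (hfam : ∀ t : k, oneAdd (t • γ) (smul_sq hsq t) ∈ G) : oneAdd γ hsq ∈ quadraticElements G := by
  refine ⟨?_, ⟨?_, ?_⟩, ?_⟩
  · convert hfam 1 using 1
    exact Units.ext (by simp [oneAdd_val])
  · show alpha (oneAdd γ hsq) * alpha (oneAdd γ hsq) = 0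
    rw [alpha_oneAdd, hsq]
  · show alpha (oneAdd γ hsq) ≠ 0
    rw [alpha_oneAdd]; exact hne
  · rintro u ⟨t, ht⟩
    have : u = oneAdd (t • γ) (smul_sq hsq t) := Units.ext (by
      rw [ht]
      show 1 + t • alpha (oneAdd γ hsq) = _
      rw [alpha_oneAdd]; rfl)
    rw [this]; exact hfam t

/-- A conjugation invariant family of pairwise unipotent subgroups is trivial. -/
theorem trivial_of_unipotent_pairs (hG : IsQuadraticPair G)
    {W : Set (Subgroup (LinearMap.GeneralLinearGroup k M))} (hWG : ∀ A ∈ W, A ≤ G)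
    (hWW : ∀ A ∈ W, ∀ B ∈ W, IsUnipotentOn (A ⊔ B)) (hWconj : ∀ A ∈ W, ∀ g ∈ G, conjBy A g ∈ W)
    {A : Subgroup (LinearMap.GeneralLinearGroup k M)} (hA : A ∈ W) {u : LinearMap.GeneralLinearGroup k M}
    (hu : u ∈ A) : alpha u = 0 := by
  have hU := baer hWG hWW hWconj
  obtain ⟨⟨m, hm⟩, hirr⟩ := hG.1
  obtain ⟨v, -, hv, hv'⟩ := hasFixedSections_of_unipotent hU ⊥ ⊤
    (fun g _ w hw => by rw [Submodule.mem_bot] at hw ⊢; rw [hw, map_zero]) (fun _ _ _ _ => Submodule.mem_top)
    (fun h => hm ((Submodule.mem_bot k).1 (h Submodule.mem_top)))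
  set U := ⨆ A ∈ W, A with hUdef
  have hUn : ∀ g ∈ G, ∀ u ∈ U, g * u * g⁻¹ ∈ U := by
    intro g hg u hu
    have hle : U ≤ U.comap (MulAut.conj g).toMonoidHom := iSup₂_le fun A hA y hy =>
      (le_iSup₂_of_le (conjBy A g) (hWconj A hA g hg) le_rfl : _ ≤ U) ⟨y, hy, rfl⟩
    exact hle hu
  rcases hirr (fixedMod (U : Set (LinearMap.GeneralLinearGroup k M)) ⊥) (fun g hg w hw => by
    rw [mem_fixedMod] at hw ⊢
    intro u hu
    have h1 := hw _ (hUn g⁻¹ (inv_mem hg) u hu)
    rw [inv_inv, Submodule.mem_bot] at h1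
    rw [Submodule.mem_bot]
    have e : alpha u * (g : M →ₗ[k] M) = (g : M →ₗ[k] M) * alpha (g⁻¹ * u * g) := by
      simp only [alpha, sub_mul, mul_sub, one_mul, mul_one, Units.val_mul, ← mul_assoc, Units.mul_inv]
    rw [← Module.End.mul_apply, e, Module.End.mul_apply, h1, map_zero]) with h | h
  · exact absurd (by rw [← h]; exact mem_fixedMod.2 hv') hv
  · exact LinearMap.ext fun x => (Submodule.mem_bot k).1 (mem_fixedMod.1 (h ▸ Submodule.mem_top :
      x ∈ fixedMod (U : Set (LinearMap.GeneralLinearGroup k M)) ⊥) u ((le_iSup₂_of_le A hA le_rfl : A ≤ U) hu))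

variable (h2 : (2 : k) ≠ 0) (h3 : Nat.card k ≠ 3)
include h2 h3

/-- A quadratic element annihilated by all minimal ones commutes with all of them. -/
theorem inert_commute (hG : IsQuadraticPair G) {q : LinearMap.GeneralLinearGroup k M}
    (hq : q ∈ quadraticElements G)
    (hin : ∀ d ∈ minimalQuadraticElements G, alpha q * alpha d * alpha q = 0)
    {σ : LinearMap.GeneralLinearGroup k M} (hσ : σ ∈ minimalQuadraticElements G) :
    alpha q * alpha σ = alpha σ * alpha q := by
  set L := Submodule.span k (alpha '' minimalQuadraticElements G) with hL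
  let N : Set (LinearMap.GeneralLinearGroup k M) := {u | u ∈ quadraticElements G ∧ alpha u ∈ L ∧
    ∀ d ∈ minimalQuadraticElements G, alpha u * alpha d * alpha u = 0}
  have hspan : ∀ {γ : M →ₗ[k] M}, (∀ d ∈ minimalQuadraticElements G, γ * alpha d * γ = 0) →
      ∀ X ∈ L, γ * X * γ = 0 := by
    intro γ h X hX
    induction hX using Submodule.span_induction with
    | mem z hz => obtain ⟨d, hd, rfl⟩ := hz; exact h d hd
    | zero => simp
    | add z w _ _ hz hw => rw [mul_add, add_mul, hz, hw, add_zero]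
    | smul c z _ hz => rw [mul_smul_comm, smul_mul_assoc, hz, smul_zero]
  have hinconj : ∀ {u g : LinearMap.GeneralLinearGroup k M}, g ∈ G →
      (∀ d ∈ minimalQuadraticElements G, alpha u * alpha d * alpha u = 0) →
      ∀ d ∈ minimalQuadraticElements G, alpha (g * u * g⁻¹) * alpha d * alpha (g * u * g⁻¹) = 0 := by
    intro u g hg h d hd
    have h1 := h _ (conj_mem_minimal (inv_mem hg) hd)
    rw [alpha_conj, inv_inv] at h1
    rw [alpha_conj]
    calc _ = (g : M →ₗ[k] M) * (alpha u * (((g⁻¹ : LinearMap.GeneralLinearGroup k M) : M →ₗ[k] M) * alpha d *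
          (g : M →ₗ[k] M)) * alpha u) * ((g⁻¹ : LinearMap.GeneralLinearGroup k M) : M →ₗ[k] M) := by
            simp only [mul_assoc]
      _ = 0 := by rw [h1, mul_zero, zero_mul]
  have hN : ∀ u ∈ N, False := by
    intro u hu
    refine hu.1.2.1.2 ?_
    refine trivial_of_unipotent_pairs hG (W := (fun u => Subgroup.closure (scalarFamily u)) '' N) ?_ ?_ ?_
      ⟨u, hu, rfl⟩ (Subgroup.subset_closure (self_mem_scalarFamily u))
    · rintro _ ⟨w, hw, rfl⟩
      exact (Subgroup.closure_le _).2 hw.1.2.2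
    · rintro _ ⟨w, hw, rfl⟩ _ ⟨w', hw', rfl⟩
      simp only [← Subgroup.closure_union]
      exact unipotent_of_triple_zero hw.1.2.1.1 hw'.1.2.1.1 (hspan hw.2.2 _ hw'.2.1) (hspan hw'.2.2 _ hw.2.1)
    · rintro _ ⟨w, hw, rfl⟩ g hg
      refine ⟨g * w * g⁻¹, ⟨conj_mem_quadratic hg hw.1, ?_, hinconj hg hw.2.2⟩, ?_⟩
      · rw [alpha_conj]
        have hmap : L ≤ L.comap ((LinearMap.mulRight k ((g⁻¹ : LinearMap.GeneralLinearGroup k M) : M →ₗ[k] M)).comp
            (LinearMap.mulLeft k (g : M →ₗ[k] M))) := by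
          refine Submodule.span_le.2 ?_
          rintro _ ⟨d, hd, rfl⟩
          refine Submodule.subset_span ⟨_, conj_mem_minimal hg hd, ?_⟩
          rw [alpha_conj]; rfl
        exact hmap hw.2.1
      · simp only [conjBy, MonoidHom.map_closure]
        congr 1
        ext y
        constructor
        · rintro ⟨c, hc⟩
          refine ⟨g⁻¹ * y * g, ⟨c, ?_⟩, by simp [mul_assoc]⟩
          rw [Units.val_mul, Units.val_mul, hc]
          show _ * (1 + c • alpha (g * w * g⁻¹)) * _ = 1 + c • alpha w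
          rw [alpha_conj, mul_add, add_mul, mul_one, Units.inv_mul, mul_smul_comm, smul_mul_assoc]
          congr 2
          simp only [← mul_assoc, Units.inv_mul, one_mul]
          rw [mul_assoc, Units.inv_mul, mul_one]
        · rintro ⟨z, ⟨c, hc⟩, rfl⟩
          refine ⟨c, ?_⟩
          show (g : M →ₗ[k] M) * (z : M →ₗ[k] M) * ((g⁻¹ : LinearMap.GeneralLinearGroup k M) : M →ₗ[k] M) =
            1 + c • alpha (g * w * g⁻¹)
          rw [hc, alpha_conj, mul_add, add_mul, mul_one, Units.mul_inv, mul_smul_comm, smul_mul_assoc]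
          rfl
  set γ := alpha q with hγdef
  have hγ : γ * γ = 0 := hq.2.1.1
  set a := alpha σ with hadef
  have ha : a * a = 0 := sq_of_min hσ
  have hgag : γ * a * γ = 0 := hin σ hσ
  set D := γ * a - a * γ with hD
  set τ := q * σ * q⁻¹ with hτdef
  have hτ : τ ∈ minimalQuadraticElements G := conj_mem_minimal hq.1 hσ
  have hατ : alpha τ = a + D := by
    rw [hτdef, ← oneAdd_alpha (show alpha q * alpha q = 0 from hγ), ← oneAdd_alpha (show alpha σ * alpha σ = 0 from ha),
      alpha_oneAdd_conj, ← hγdef, ← hadef, hgag, sub_zero]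
  have hgag' : γ * (a * γ) = 0 := by rw [← mul_assoc]; exact hgag
  have haga : a * γ * a = 0 := by
    by_contra hne
    have hn : IsNilPair a (alpha τ) := by
      rw [hατ]
      constructor
      · simp only [hD, mul_add, add_mul, mul_sub, sub_mul, ← mul_assoc, ha, zero_mul, zero_add]
        rw [mul_assoc (a * γ), ha, mul_zero, sub_zero]
      · have hDa0 : D * a = -(a * γ * a) := by rw [hD, sub_mul, mul_assoc γ a a, ha, mul_zero, zero_sub]
        have haD0 : a * D = a * γ * a := by rw [hD, mul_sub, ← mul_assoc, ← mul_assoc, ha, zero_mul, sub_zero]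
        rw [add_mul a D a, ha, zero_add, hDa0, neg_mul, mul_add, mul_assoc (a * γ) a a, ha, mul_zero, zero_add,
          mul_assoc (a * γ) a D, haD0, show a * γ * (a * γ * a) = a * (γ * a * γ) * a by noncomm_ring, hgag]
        simp
    have hb : bracket a (alpha τ) = (2 : k) • (a * γ * a) := by
      rw [hατ, bracket, hD]
      simp only [mul_add, add_mul, mul_sub, sub_mul, ← mul_assoc, ha, zero_mul, zero_add]
      rw [mul_assoc γ a a, ha, mul_zero, two_smul]
      abel
    have hb0 : bracket a (alpha τ) ≠ 0 := by rw [hb]; exact smul_ne_zero h2 hne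
    have Dd := commData hσ hτ hn hb0
    set ε := commElt σ τ
    have heps : alpha ε = (2 : k) • (a * γ * a) := by rw [Dd.eq, hb]
    have hact : alpha ε ∈ actSpace G σ (sq_of_min hσ) := by
      refine ⟨?_, ?_, fun t => (alpha_mem_actSpace Dd.mem).2.2 t⟩
      · rintro _ ⟨m, rfl⟩
        exact ⟨(2 : k) • γ (a m), by rw [heps, map_smul]; rfl⟩
      · intro m hm
        rw [LinearMap.mem_ker] at hm ⊢
        rw [heps, LinearMap.smul_apply, Module.End.mul_apply, show a m = 0 from hm, map_zero, smul_zero]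
    have hcl := mem_class_of_actSpace hσ hact (alpha_ne_zero Dd.mem)
    have hk : LinearMap.ker (alpha ε) = LinearMap.ker a := hcl.2.1
    have hr : LinearMap.range (alpha ε) = LinearMap.range a := hcl.2.2
    have hετ := bracket_right (sq_of_min hτ) hn
    rw [← Dd.eq] at hετ
    refine hb0 ?_
    have l1 : alpha τ * a = 0 := LinearMap.ext fun m => by
      obtain ⟨w, hw⟩ := hr ▸ LinearMap.mem_range_self a m
      rw [Module.End.mul_apply, ← hw, ← Module.End.mul_apply, hετ.1]; simp
    have l2 : a * alpha τ = 0 := LinearMap.ext fun m => by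
      rw [Module.End.mul_apply, LinearMap.zero_apply]
      refine LinearMap.mem_ker.1 (hk ▸ ?_)
      rw [LinearMap.mem_ker, ← Module.End.mul_apply, hετ.2, LinearMap.zero_apply]
    rw [bracket, l1, l2, sub_zero]
  have haga' : a * (γ * a) = 0 := by rw [← mul_assoc]; exact haga
  have haD : a * D = 0 := by rw [hD, mul_sub, haga', ← mul_assoc, ha, zero_mul, sub_zero]
  have hDa : D * a = 0 := by rw [hD, sub_mul, mul_assoc γ, ha, mul_zero, haga, sub_zero]
  have hDD : D * D = 0 := by
    rw [show D * D = D * (γ * a) - D * (a * γ) by rw [← mul_sub], ← mul_assoc D a γ, hDa, zero_mul, sub_zero, hD,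
      sub_mul, mul_assoc γ a (γ * a), haga', mul_zero, mul_assoc a γ (γ * a), ← mul_assoc γ γ a, hγ, zero_mul,
      mul_zero, sub_zero]
  by_contra hne
  have hD0 : D ≠ 0 := fun e => hne (sub_eq_zero.1 e)
  refine hN (oneAdd D hDD) ⟨quadratic_of_family hDD hD0 fun t => ?_, ?_, fun d hd => ?_⟩
  · have h1 := mul_mem (family_mem hτ.1 t) (inv_mem (family_mem hσ.1 t))
    convert h1 using 1
    rw [oneAdd_inv_neg (show alpha σ * alpha σ = 0 from ha)]
    refine Units.ext ?_
    rw [Units.val_mul, oneAdd_val, oneAdd_val, oneAdd_val, hατ, ← hadef]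
    simp only [add_mul, mul_add, one_mul, mul_one, smul_add, smul_mul_assoc, mul_smul_comm, ha, hDa, smul_zero, add_zero]
    module
  · rw [alpha_oneAdd]
    have : D = alpha τ - alpha σ := by rw [hατ, ← hadef]; abel
    rw [this]
    exact sub_mem (Submodule.subset_span ⟨τ, hτ, rfl⟩) (Submodule.subset_span ⟨σ, hσ, rfl⟩)
  · rw [alpha_oneAdd]
    have key : ∀ s : k, (γ - s • D) * alpha d * (γ - s • D) = 0 := by
      intro s
      have h1 := hinconj (family_mem hσ.1 s) hin d hd
      have e : alpha (oneAdd (s • a) (smul_sq ha s) * q * (oneAdd (s • a) (smul_sq ha s))⁻¹) = γ - s • D := by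
        rw [← oneAdd_alpha (show alpha q * alpha q = 0 from hγ), alpha_oneAdd_conj, ← hγdef, hD]
        simp only [smul_mul_assoc, mul_smul_comm, smul_smul, haga, smul_zero, sub_zero]
        module
      rw [e] at h1
      exact h1
    have k1 := key 1
    have k2 := key (-1)
    have k3 := hin d hd
    simp only [one_smul, neg_smul, sub_neg_eq_add, add_mul, mul_add, sub_mul, mul_sub, ← hγdef] at k1 k2 k3
    have : (2 : k) • (D * alpha d * D) = 0 := by linear_combination (norm := module) k1 + k2 - (2 : k) • k3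
    exact (smul_eq_zero.1 this).resolve_left h2

/-- A quadratic element not annihilated by a minimal one dominates a minimal one. -/
theorem exists_member_below {q σ : LinearMap.GeneralLinearGroup k M} (hq : q ∈ quadraticElements G)
    (hσ : σ ∈ minimalQuadraticElements G) (hne : alpha q * alpha σ * alpha q ≠ 0) :
    ∃ e ∈ minimalQuadraticElements G, LinearMap.range (alpha e) ≤ LinearMap.range (alpha q) ∧
      LinearMap.ker (alpha q) ≤ LinearMap.ker (alpha e) := by
  classical
  set γ := alpha q with hγdef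
  set b := alpha σ with hbdef
  have hγ : γ * γ = 0 := hq.2.1.1
  have hb : b * b = 0 := sq_of_min hσ
  obtain ⟨f, hf⟩ := exists_annPoly γ b
  obtain ⟨p, h, hh, hXp, hfp, hc⟩ : ∃ (p : k[X]) (h : SL(2, k[X])), h ∈ polyPair k ∧ X ∣ p ∧ ¬ f ∣ p ∧
      ∀ u : kˣ, act γ b (scale (Units.map (C : k →+* k[X]).toMonoidHom u) h) =
        1 + (u : k) • (aeval (γ * b) p * γ) := by
    obtain ⟨g, hfg, hg⟩ := Polynomial.exists_eq_pow_rootMultiplicity_mul_and_not_dvd f hf.1 0
    rw [map_zero, sub_zero] at hfg hg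
    set n := f.rootMultiplicity 0
    have hg0 : g ≠ 0 := fun e => hg (e ▸ dvd_zero X)
    by_cases hgu : IsUnit g
    · have hn : 2 ≤ n := by
        by_contra hlt
        refine hne ?_
        have hd : f ∣ X := by
          rw [hfg]
          have : (X : k[X]) ^ n ∣ X := by
            conv_rhs => rw [← pow_one (X : k[X])]
            exact pow_dvd_pow X (by omega)
          exact hgu.mul_right_dvd.2 this
        simpa using (hf.2 X).1 hd
      obtain ⟨h, hh, he⟩ := dense h2 (n + 1) (upper (X ^ (n - 1))) (upper_mem_cong _)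
      have hXf : X * (X * f) ∣ (X : k[X]) ^ (n + 1 + 1) := by
        rw [pow_succ' X (n + 1), pow_succ' X n, hfg]
        exact mul_dvd_mul_left _ (mul_dvd_mul_left _ (hgu.mul_right_dvd.2 dvd_rfl))
      obtain ⟨c0, c1, c2, c3⟩ := divX_congr_of_entries (polyPair_le hh) (trunc_eq_iff.1 he) hXf
      refine ⟨_, h, hh, dvd_pow_self X (by omega), fun hd => ?_, act_scale_of_congr hf c0 c1 c2 c3⟩
      rw [hfg] at hd
      have := (pow_dvd_pow_iff X_ne_zero Polynomial.not_isUnit_X).1 ((dvd_mul_right _ g).trans hd)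
      omega
    · obtain ⟨h, hh, p₀, hp₀, hdv⟩ := exists_deep_upper h2 h3 hg0 hgu hg (n + 2)
      have hhP := derivedIter_le _ _ hh
      have hT : ∀ i j, (X : k[X]) ^ (n + 2) ∣
          (h : Matrix (Fin 2) (Fin 2) k[X]) i j - (1 : SL(2, k[X])) i j :=
        trunc_eq_iff.1 ((derivedIter_trunc (n + 2) (by omega) h (derivedIter_mono polyPair_le _ hh)).trans
          (map_one _).symm)
      have hco : IsCoprime ((X : k[X]) ^ (n + 2)) g :=
        ((Polynomial.prime_X.irreducible.coprime_iff_not_dvd).2 hg).pow_left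
      obtain ⟨u, v, huv⟩ := id hco
      set p := u * X ^ (n + 2) * p₀ with hp
      have hboth : ∀ i j, (X : k[X]) ^ (n + 2) * g ∣
          (h : Matrix (Fin 2) (Fin 2) k[X]) i j - (upper p : Matrix (Fin 2) (Fin 2) k[X]) i j := by
        intro i j
        refine hco.mul_dvd ?_ ?_
        · have h1 := hT i j
          fin_cases i <;> fin_cases j <;> simp [upper_val] at h1 ⊢ <;>
            first | exact h1 | exact dvd_sub h1 ⟨u * p₀, by rw [hp]; ring⟩
        · have h1 := hdv i j
          fin_cases i <;> fin_cases j <;> simp [upper_val] at h1 ⊢ <;>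
            first
            | exact h1
            | (obtain ⟨w, hw⟩ := h1
               exact ⟨w + v * p₀, by rw [hp]; linear_combination hw - p₀ * huv⟩)
      have hXf : X * (X * f) ∣ (X : k[X]) ^ (n + 2) * g := ⟨1, by rw [hfg]; ring⟩
      obtain ⟨c0, c1, c2, c3⟩ := divX_congr_of_entries (polyPair_le hhP) hboth hXf
      refine ⟨p, h, hhP, ⟨u * X ^ (n + 1) * p₀, by rw [hp]; ring⟩, fun hd => hp₀ ?_,
        act_scale_of_congr hf c0 c1 c2 c3⟩
      have h1 : g ∣ p := by rw [hfg] at hd; exact (dvd_mul_left g _).trans hd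
      have h4 : p₀ = p + g * (v * p₀) := by rw [hp]; linear_combination -p₀ * huv
      rw [h4]; exact dvd_add h1 (dvd_mul_right _ _)
  set e := aeval (γ * b) p * γ with hedef
  have he0 : e ≠ 0 := fun e' => hfp ((hf.2 p).2 e')
  obtain ⟨p1, hp1⟩ := hXp
  have heq : e = aeval (γ * b) p1 * γ * (b * γ) := by
    rw [hedef, hp1, mul_comm X p1, map_mul, aeval_X]
    simp only [mul_assoc]
  have heq' : e = γ * (b * aeval (γ * b) p1 * γ) := by
    rw [hedef, hp1, map_mul, aeval_X]
    simp only [mul_assoc]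
  have hsq : e * e = 0 := by
    rw [hedef, mul_assoc, ← mul_assoc γ, left_mul_aeval γ b hγ, smul_mul_assoc, hγ, smul_zero, mul_zero]
  have hle : Subgroup.closure (scalarFamily q ∪ scalarFamily σ) ≤ G :=
    (Subgroup.closure_le _).2 (Set.union_subset hq.2.2 hσ.1.2.2)
  have hfam : ∀ c : k, oneAdd (c • e) (smul_sq hsq c) ∈ G := by
    intro c
    rcases eq_or_ne c 0 with rfl | hc0
    · convert one_mem G using 1
      exact Units.ext (by simp [oneAdd_val])
    · refine hle ?_
      rw [← rho_range hγ hb]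
      refine ⟨⟨_, polyPair_scale (Units.mk0 c hc0) hh⟩, Units.ext ?_⟩
      rw [rho_val, oneAdd_val]
      exact hc (Units.mk0 c hc0)
  have hrk : Module.finrank k (LinearMap.range e) ≤ Module.finrank k (LinearMap.range b) := by
    rw [heq, Module.End.mul_eq_comp (aeval (γ * b) p1 * γ), LinearMap.range_comp]
    exact (Submodule.finrank_map_le _ _).trans (Submodule.finrank_mono (LinearMap.range_comp_le_range _ _))
  refine ⟨oneAdd e hsq, minimal_of_family hσ hsq he0 hfam hrk, ?_, ?_⟩
  · rw [alpha_oneAdd, heq']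
    exact LinearMap.range_comp_le_range _ _
  · intro m hm
    rw [alpha_oneAdd, LinearMap.mem_ker, hedef, Module.End.mul_apply, show γ m = 0 from hm, map_zero]

/-- **Splitting off the part along a minimal element.** -/
theorem split_off {q ε v : LinearMap.GeneralLinearGroup k M} (hq : q ∈ quadraticElements G)
    (hε : ε ∈ minimalQuadraticElements G) (hv : v ∈ minimalQuadraticElements G)
    (e1 : alpha ε * alpha v * alpha ε = alpha ε) (e2 : alpha v * alpha ε * alpha v = alpha v)
    (hr : LinearMap.range (alpha ε) ≤ LinearMap.range (alpha q))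
    (hk : LinearMap.ker (alpha q) ≤ LinearMap.ker (alpha ε))
    {N : Subgroup (LinearMap.GeneralLinearGroup k M)} (hNG : ∀ g ∈ G, ∀ u ∈ N, g * u * g⁻¹ ∈ N) (hN : N ≤ G)
    (hεN : sameActionSubgroup G ε ≤ N) (hvN : sameActionSubgroup G v ≤ N) :
    ∃ x z : M →ₗ[k] M, ∃ (hx : x * x = 0) (hz : z * z = 0), x ≠ 0 ∧ alpha q = x + z ∧ x * z = 0 ∧ z * x = 0 ∧
      (∀ t : k, oneAdd (t • x) (smul_sq hx t) ∈ N) ∧ (∀ t : k, oneAdd (t • z) (smul_sq hz t) ∈ G) ∧
      Module.finrank k (LinearMap.range z) < Module.finrank k (LinearMap.range (alpha q)) := by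
  set c := alpha q with hcdef
  set a := alpha ε with hadef
  set d := alpha v with hddef
  have hc : c * c = 0 := hq.2.1.1
  have ha : a * a = 0 := sq_of_min hε
  have hd : d * d = 0 := sq_of_min hv
  have hca : c * a = 0 := LinearMap.ext fun m => by
    obtain ⟨w, hw⟩ := hr (LinearMap.mem_range_self a m)
    rw [Module.End.mul_apply, ← hw, ← Module.End.mul_apply, hc, LinearMap.zero_apply, LinearMap.zero_apply]
  have hac : a * c = 0 := LinearMap.ext fun m => LinearMap.mem_ker.1
    (hk (LinearMap.mem_ker.2 (by rw [← Module.End.mul_apply, hc]; rfl)))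
  set p := a * d with hp
  set q' := d * a with hq'
  set r := 1 - a * d - d * a with hr'
  have T : OrthoTriple p q' r := orthoTriple_of_units ha hd e1 e2
  have hcp : c * p = 0 := by rw [hp, ← mul_assoc, hca, zero_mul]
  have hqc : q' * c = 0 := by rw [hq', mul_assoc, hac, mul_zero]
  have hra : r * a = 0 := by rw [hr', sub_mul, sub_mul, one_mul, ← hp, e1, mul_assoc d, ha, mul_zero]; abel
  have z1 : q' * c * p = 0 := by rw [hqc, zero_mul]
  have z2 : q' * c * r = 0 := by rw [hqc, zero_mul]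
  have z3 : r * c * p = 0 := by rw [mul_assoc, hcp, mul_zero]
  have a1 := T.pp; have a2 := T.qq; have a3 := T.rr; have a4 := T.pq; have a5 := T.qp
  have a6 := T.pr; have a7 := T.rp; have a8 := T.qr; have a9 := T.rq
  have hcrc : c * (r * c) = 0 := by
    have h1 : c * c = c * ((q' + r) * ((p + r) * c)) := by
      have l1 : c * (q' + r) = c := by
        conv_rhs => rw [← mul_one c, ← T.sum]
        rw [add_assoc p q' r, mul_add c p, hcp, zero_add]
      have l2 : (p + r) * c = c := by
        conv_rhs => rw [← one_mul c, ← T.sum]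
        rw [add_right_comm p q' r, add_mul (p + r) q' c, hqc, add_zero]
      rw [l2, ← mul_assoc, l1]
    have l3 : (q' + r) * ((p + r) * c) = r * c := by
      rw [← mul_assoc, add_mul, mul_add, mul_add, a5, a8, a7, a3]
      simp
    rw [l3, hc] at h1
    exact h1.symm
  have hpc : p * c * p = 0 := by rw [mul_assoc, hcp, mul_zero]
  have hqcq : q' * c * q' = 0 := by rw [hqc, zero_mul]
  set w₂ := w2 p q' c with hw₂
  set w₁ := w1 p q' r c with hw₁
  have hw₀ : w0 p q' r c = r * c * r := by rw [w0, hpc, hqcq, zero_add, add_zero]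
  set w₀ := r * c * r with hw₀'
  have hcrc' : ∀ x : M →ₗ[k] M, c * (r * (c * x)) = 0 := fun x => by
    rw [← mul_assoc r, ← mul_assoc, hcrc, zero_mul]
  have b4 : ∀ x : M →ₗ[k] M, p * (q' * x) = 0 := fun x => by rw [← mul_assoc, a4, zero_mul]
  have b5 : ∀ x : M →ₗ[k] M, q' * (p * x) = 0 := fun x => by rw [← mul_assoc, a5, zero_mul]
  have b6 : ∀ x : M →ₗ[k] M, p * (r * x) = 0 := fun x => by rw [← mul_assoc, a6, zero_mul]
  have b7 : ∀ x : M →ₗ[k] M, r * (p * x) = 0 := fun x => by rw [← mul_assoc, a7, zero_mul]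
  have b8 : ∀ x : M →ₗ[k] M, q' * (r * x) = 0 := fun x => by rw [← mul_assoc, a8, zero_mul]
  have b9 : ∀ x : M →ₗ[k] M, r * (q' * x) = 0 := fun x => by rw [← mul_assoc, a9, zero_mul]
  have b3 : ∀ x : M →ₗ[k] M, r * (r * x) = r * x := fun x => by rw [← mul_assoc, a3]
  obtain ⟨p22, p21, p20, p12, p11, p10, p02, p01, p00⟩ :
      w₂ * w₂ = 0 ∧ w₂ * w₁ = 0 ∧ w₂ * w₀ = 0 ∧ w₁ * w₂ = 0 ∧ w₁ * w₁ = 0 ∧ w₁ * w₀ = 0 ∧
      w₀ * w₂ = 0 ∧ w₀ * w₁ = 0 ∧ w₀ * w₀ = 0 := by
    refine ⟨?_, ?_, ?_, ?_, ?_, ?_, ?_, ?_, ?_⟩ <;>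
      simp only [hw₂, hw₁, hw₀', w2, w1, add_mul, mul_add, mul_assoc, b3, b4, b5, b6, b7, b8, b9, hcrc', hcrc,
        mul_zero, add_zero]
  have hg : ∀ s : k, graded p q' r c s = (s * s) • w₂ + s • w₁ + w₀ := fun s => by rw [graded, hw₀]
  have hdec : c = w₂ + w₁ + w₀ := by rw [← hw₀]; exact decomp T z1 z2 z3
  let hh : ∀ s : k, s ≠ 0 → LinearMap.GeneralLinearGroup k M := fun s hs => unitsHom ha hd e1 e2 (diagSL s hs)
  have hhN : ∀ s (hs : s ≠ 0), hh s hs ∈ N := fun s hs => unitsHom_mem ha hd e1 e2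
    (fun t => hεN ((mem_sameAction_iff hε).2
      (by rw [alpha_oneAdd]; exact Submodule.smul_mem _ _ (alpha_mem_actSpace hε))))
    (fun t => hvN ((mem_sameAction_iff hv).2
      (by rw [alpha_oneAdd]; exact Submodule.smul_mem _ _ (alpha_mem_actSpace hv)))) _
  have hhinv : ∀ s (hs : s ≠ 0), (hh s hs)⁻¹ = hh s⁻¹ (inv_ne_zero hs) := fun s hs => by
    show (unitsHom ha hd e1 e2 _)⁻¹ = unitsHom ha hd e1 e2 _
    rw [← map_inv, diagSL_inv]
  have hcomm : ∀ s : k, s ≠ 0 → ∀ t : k, ∃ u ∈ N,
      (u : M →ₗ[k] M) = 1 + t • ((1 - s * s) • w₂ + (1 - s) • w₁) := by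
    intro s hs t
    set qt := oneAdd (t • c) (smul_sq hc t)
    have hqt : qt ∈ G := family_mem hq t
    refine ⟨qt * hh s hs * qt⁻¹ * (hh s hs)⁻¹, mul_mem (hNG qt hqt _ (hhN s hs)) (inv_mem (hhN s hs)), ?_⟩
    rw [mul_assoc qt, mul_assoc qt, oneAdd_inv_neg hc, Units.val_mul qt, Units.val_mul, Units.val_mul,
      oneAdd_val (-t • c), mul_add, add_mul, mul_one, Units.mul_inv, hhinv s hs,
      unitsHom_diag_val ha hd e1 e2 s hs, unitsHom_diag_val ha hd e1 e2 s⁻¹ (inv_ne_zero hs), inv_inv,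
      mul_smul_comm, smul_mul_assoc, ← hp, ← hq', ← hr', conj_eq T z1 z2 z3 hs, oneAdd_val, hg, hdec]
    simp only [add_mul, mul_add, one_mul, mul_one, smul_mul_assoc, mul_smul_comm, smul_smul, smul_add, p22, p21, p20,
      p12, p11, p10, p02, p01, p00, smul_zero, add_zero]
    module
  obtain ⟨s, hs, hs2⟩ := exists_sq_ne_one (card_eq_zero_or (k := k) (F := k) h2 h3)
  have hss : (1 - s * s : k) ≠ 0 := sub_ne_zero.2 (fun e => hs2 (by rw [sq, ← e]))
  have hN1 : ∀ t : k, oneAdd (t • w₁) (smul_sq p11 t) ∈ N := by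
    intro t
    obtain ⟨u, hu, eu⟩ := hcomm (-1) (neg_ne_zero.2 one_ne_zero) (t / 2)
    convert hu using 1
    refine Units.ext ?_
    rw [eu, oneAdd_val]
    simp only [neg_mul_neg, one_mul, sub_self, zero_smul, zero_add, sub_neg_eq_add, smul_smul]
    congr 2
    rw [show (1 + 1 : k) = 2 by norm_num, div_mul_cancel₀ t h2]
  have hN2 : ∀ t : k, oneAdd (t • w₂) (smul_sq p22 t) ∈ N := by
    intro t
    obtain ⟨u, hu, eu⟩ := hcomm s hs (t / (1 - s * s))
    convert mul_mem hu (hN1 (-(t / (1 - s * s) * (1 - s)))) using 1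
    refine Units.ext ?_
    rw [Units.val_mul, eu, oneAdd_val, oneAdd_val]
    simp only [add_mul, mul_add, one_mul, mul_one, smul_mul_assoc, mul_smul_comm, smul_smul, smul_add, p21, p11,
      smul_zero, add_zero]
    rw [div_mul_cancel₀ t hss]
    module
  have hx : (w₂ + w₁) * (w₂ + w₁) = 0 := by simp only [add_mul, mul_add, p22, p21, p12, p11, add_zero]
  refine ⟨w₂ + w₁, w₀, hx, p00, fun h0 => ?_, hdec, ?_, ?_, fun t => ?_, fun t => ?_, ?_⟩
  · refine alpha_ne_zero hε (LinearMap.ext fun m => ?_)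
    obtain ⟨w, hw⟩ := hr (LinearMap.mem_range_self a m)
    have h5 : r (a m) = 0 := LinearMap.congr_fun hra m
    show a m = 0
    rw [← hw, hdec, h0, zero_add] at h5 ⊢
    rw [hw₀', Module.End.mul_apply, Module.End.mul_apply, ← Module.End.mul_apply r r, a3] at h5
    exact h5
  · rw [add_mul, p20, p10, add_zero]
  · rw [mul_add, p02, p01, add_zero]
  · convert mul_mem (hN2 t) (hN1 t) using 1
    refine Units.ext ?_
    rw [Units.val_mul, oneAdd_val, oneAdd_val, oneAdd_val]
    simp only [add_mul, mul_add, one_mul, mul_one, smul_mul_assoc, mul_smul_comm, smul_smul, smul_add, p21,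
      smul_zero, add_zero]
    module
  · have h1 := mul_mem (mul_mem (inv_mem (hN (hN1 t))) (inv_mem (hN (hN2 t)))) (family_mem hq t)
    convert h1 using 1
    rw [oneAdd_inv_neg p11, oneAdd_inv_neg p22]
    refine Units.ext ?_
    rw [Units.val_mul, Units.val_mul, oneAdd_val, oneAdd_val, oneAdd_val, oneAdd_val, ← hcdef, hdec]
    simp only [add_mul, mul_add, one_mul, mul_one, smul_mul_assoc, mul_smul_comm, smul_smul, smul_add, p22, p21, p20,
      p12, p11, p10, smul_zero, zero_mul, mul_zero, add_zero]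
    module
  · have hle : LinearMap.range w₀ ≤ (LinearMap.range c).map r := by
      rintro _ ⟨m, rfl⟩
      exact ⟨c (r m), ⟨_, rfl⟩, rfl⟩
    refine lt_of_le_of_lt (Submodule.finrank_mono hle) ?_
    have h4 := LinearMap.finrank_range_add_finrank_ker (r.domRestrict (LinearMap.range c))
    rw [LinearMap.range_domRestrict] at h4
    obtain ⟨m, hm⟩ : ∃ m, a m ≠ 0 := by
      by_contra hall
      push Not at hall
      exact alpha_ne_zero hε (LinearMap.ext hall)
    have h5 : (⟨a m, hr (LinearMap.mem_range_self a m)⟩ : LinearMap.range c) ∈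
        LinearMap.ker (r.domRestrict (LinearMap.range c)) := LinearMap.congr_fun hra m
    have h6 : LinearMap.ker (r.domRestrict (LinearMap.range c)) ≠ ⊥ := fun e => hm (by
      rw [e, Submodule.mem_bot] at h5
      exact congrArg Subtype.val h5)
    have h7 := Submodule.one_le_finrank_iff.2 h6
    omega

end CfsgLib.QuadPair
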