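import Mathlib

/-!
# Elementary elements of `SL₂` over a commutative ring
-/

set_option autoImplicit false

namespace CfsgLib.QuadPair

open Matrix
open scoped MatrixGroups

variable {R : Type*} [CommRing R]

/-- `[[1, a], [0, 1]]` -/
def upper (a : R) : SL(2, R) := ⟨!![1, a; 0, 1], by simp [Matrix.det_fin_two]⟩

/-- `[[1, 0], [a, 1]]` -/
def lower (a : R) : SL(2, R) := ⟨!![1, 0; a, 1], by simp [Matrix.det_fin_two]⟩

theorem upper_val (a : R) : (upper a : Matrix (Fin 2) (Fin 2) R) = !![1, a; 0, 1] := rfl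

theorem lower_val (a : R) : (lower a : Matrix (Fin 2) (Fin 2) R) = !![1, 0; a, 1] := rfl

theorem ext_two {g h : SL(2, R)}
    (h00 : (g : Matrix (Fin 2) (Fin 2) R) 0 0 = (h : Matrix (Fin 2) (Fin 2) R) 0 0)
    (h01 : (g : Matrix (Fin 2) (Fin 2) R) 0 1 = (h : Matrix (Fin 2) (Fin 2) R) 0 1)
    (h10 : (g : Matrix (Fin 2) (Fin 2) R) 1 0 = (h : Matrix (Fin 2) (Fin 2) R) 1 0)
    (h11 : (g : Matrix (Fin 2) (Fin 2) R) 1 1 = (h : Matrix (Fin 2) (Fin 2) R) 1 1) : g = h := by
  ext i j; fin_cases i <;> fin_cases j <;> assumption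

theorem det_eq (g : SL(2, R)) :
    (g : Matrix (Fin 2) (Fin 2) R) 0 0 * (g : Matrix (Fin 2) (Fin 2) R) 1 1 -
      (g : Matrix (Fin 2) (Fin 2) R) 0 1 * (g : Matrix (Fin 2) (Fin 2) R) 1 0 = 1 := by
  rw [← Matrix.det_fin_two]; exact g.2

theorem upper_mul (a b : R) : upper a * upper b = upper (a + b) := by
  refine ext_two ?_ ?_ ?_ ?_ <;> simp [upper_val, Matrix.mul_apply, Fin.sum_univ_two, add_comm]

theorem lower_mul (a b : R) : lower a * lower b = lower (a + b) := by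
  refine ext_two ?_ ?_ ?_ ?_ <;> simp [lower_val, Matrix.mul_apply, Fin.sum_univ_two]

theorem upper_zero : upper (0 : R) = 1 := by
  refine ext_two ?_ ?_ ?_ ?_ <;> simp [upper_val]

theorem lower_zero : lower (0 : R) = 1 := by
  refine ext_two ?_ ?_ ?_ ?_ <;> simp [lower_val]

theorem upper_mul_fst (a : R) (g : SL(2, R)) (j : Fin 2) : (upper a * g : SL(2, R)) 0 j = g 0 j + a * g 1 j := by
  simp [upper_val, Matrix.SpecialLinearGroup.coe_mul, Matrix.mul_apply, Fin.sum_univ_two]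

theorem upper_mul_snd (a : R) (g : SL(2, R)) (j : Fin 2) : (upper a * g : SL(2, R)) 1 j = g 1 j := by
  simp [upper_val, Matrix.SpecialLinearGroup.coe_mul, Matrix.mul_apply, Fin.sum_univ_two]

theorem lower_mul_fst (a : R) (g : SL(2, R)) (j : Fin 2) : (lower a * g : SL(2, R)) 0 j = g 0 j := by
  simp [lower_val, Matrix.SpecialLinearGroup.coe_mul, Matrix.mul_apply, Fin.sum_univ_two]

theorem lower_mul_snd (a : R) (g : SL(2, R)) (j : Fin 2) : (lower a * g : SL(2, R)) 1 j = a * g 0 j + g 1 j := by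
  simp [lower_val, Matrix.SpecialLinearGroup.coe_mul, Matrix.mul_apply, Fin.sum_univ_two]

theorem upper_inv (a : R) : (upper a)⁻¹ = upper (-a) :=
  inv_eq_of_mul_eq_one_right (by rw [upper_mul, add_neg_cancel, upper_zero])

theorem lower_inv (a : R) : (lower a)⁻¹ = lower (-a) :=
  inv_eq_of_mul_eq_one_right (by rw [lower_mul, add_neg_cancel, lower_zero])

/-- `[[a, b], [c, d]] ↦ [[a, u b], [u⁻¹ c, d]]`, as a function. -/
def scaleFun (u : Rˣ) (g : SL(2, R)) : SL(2, R) :=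
  ⟨!![(g : Matrix (Fin 2) (Fin 2) R) 0 0, u * (g : Matrix (Fin 2) (Fin 2) R) 0 1;
    (↑u⁻¹ : R) * (g : Matrix (Fin 2) (Fin 2) R) 1 0, (g : Matrix (Fin 2) (Fin 2) R) 1 1], by
      have h := det_eq g
      have hu : (u : R) * ↑u⁻¹ = 1 := Units.mul_inv u
      simp [Matrix.det_fin_two]
      linear_combination h - (g : Matrix (Fin 2) (Fin 2) R) 0 1 * (g : Matrix (Fin 2) (Fin 2) R) 1 0 * hu⟩

theorem scaleFun_val (u : Rˣ) (g : SL(2, R)) : (scaleFun u g : Matrix (Fin 2) (Fin 2) R) =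
    !![(g : Matrix (Fin 2) (Fin 2) R) 0 0, u * (g : Matrix (Fin 2) (Fin 2) R) 0 1;
      (↑u⁻¹ : R) * (g : Matrix (Fin 2) (Fin 2) R) 1 0, (g : Matrix (Fin 2) (Fin 2) R) 1 1] := rfl

/-- The automorphism `[[a, b], [c, d]] ↦ [[a, u b], [u⁻¹ c, d]]`. -/
def scale (u : Rˣ) : SL(2, R) →* SL(2, R) where
  toFun := scaleFun u
  map_one' := by refine ext_two ?_ ?_ ?_ ?_ <;> simp [scaleFun_val]
  map_mul' g h := by
    have hu : (u : R) * ↑u⁻¹ = 1 := Units.mul_inv u
    refine ext_two ?_ ?_ ?_ ?_ <;>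
      simp only [scaleFun_val, Matrix.SpecialLinearGroup.coe_mul, Matrix.mul_apply, Fin.sum_univ_two,
        Matrix.of_apply, Matrix.cons_val', Matrix.cons_val_zero, Matrix.cons_val_one, Matrix.cons_val_fin_one,
        Matrix.empty_val']
    · linear_combination (-(g : Matrix (Fin 2) (Fin 2) R) 0 1 * (h : Matrix (Fin 2) (Fin 2) R) 1 0) * hu
    · ring
    · ring
    · linear_combination (-(g : Matrix (Fin 2) (Fin 2) R) 1 0 * (h : Matrix (Fin 2) (Fin 2) R) 0 1) * hu

theorem scale_upper (u : Rˣ) (a : R) : scale u (upper a) = upper (u * a) := by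
  show scaleFun u (upper a) = _
  refine ext_two ?_ ?_ ?_ ?_ <;> simp [scaleFun_val, upper_val]

theorem scale_lower (u : Rˣ) (a : R) : scale u (lower a) = lower ((↑u⁻¹ : R) * a) := by
  show scaleFun u (lower a) = _
  refine ext_two ?_ ?_ ?_ ?_ <;> simp [scaleFun_val, lower_val]

/-- An element with vanishing lower left entry conjugates `upper a` to `upper (g₀₀² a)`. -/
theorem conj_upper {g : SL(2, R)} (hg : (g : Matrix (Fin 2) (Fin 2) R) 1 0 = 0) (a : R) :
    g * upper a * g⁻¹ = upper ((g : Matrix (Fin 2) (Fin 2) R) 0 0 ^ 2 * a) := by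
  have h := det_eq g
  rw [mul_inv_eq_iff_eq_mul]
  rw [hg, mul_zero, sub_zero] at h
  refine ext_two ?_ ?_ ?_ ?_ <;> simp [upper_val, Matrix.mul_apply, Fin.sum_univ_two, hg]
  linear_combination (-((g : Matrix (Fin 2) (Fin 2) R) 0 0 * a)) * h

/-- An element with vanishing upper left entry conjugates `upper a` to `lower (-g₁₀² a)`. -/
theorem conj_upper_swap {g : SL(2, R)} (hg : (g : Matrix (Fin 2) (Fin 2) R) 0 0 = 0) (a : R) :
    g * upper a * g⁻¹ = lower (-((g : Matrix (Fin 2) (Fin 2) R) 1 0 ^ 2 * a)) := by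
  have h := det_eq g
  rw [mul_inv_eq_iff_eq_mul]
  rw [hg, zero_mul, zero_sub] at h
  refine ext_two ?_ ?_ ?_ ?_ <;> simp [upper_val, lower_val, Matrix.mul_apply, Fin.sum_univ_two, hg]
  linear_combination (-((g : Matrix (Fin 2) (Fin 2) R) 1 0 * a)) * h

/-- `SL₂` of a field is generated by the elementary elements. -/
theorem eq_top_of_elementary {F : Type*} [Field F] (H : Subgroup SL(2, F))
    (hU : ∀ a : F, upper a ∈ H) (hL : ∀ a : F, lower a ∈ H) : H = ⊤ := by
  refine eq_top_iff.2 fun g _ => Matrix.SL2.transvection_induction (fun g => g ∈ H) ?_ (fun _ _ => mul_mem) g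
  intro i j h c
  fin_cases i
  · obtain rfl : j = 1 := by fin_cases j <;> tauto
    convert hU c using 1
    refine ext_two ?_ ?_ ?_ ?_ <;> simp [SpecialLinearGroup.transvection_coe, upper_val]
  · obtain rfl : j = 0 := by fin_cases j <;> tauto
    convert hL c using 1
    refine ext_two ?_ ?_ ?_ ?_ <;> simp [SpecialLinearGroup.transvection_coe, lower_val]

end CfsgLib.QuadPair
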