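import Cfsg.Agent.Lib.QuadPair.Conj

/-!
# A conjugation closed family of subgroups that pairwise generate unipotent groups
-/

set_option autoImplicit false

namespace CfsgLib.QuadPair

open Cfsg

variable {k : Type*} [Field k] {M : Type*} [AddCommGroup M] [Module k M]

/-- Unipotence in terms of `alpha`. -/
theorem unipotent_iff (H : Subgroup (LinearMap.GeneralLinearGroup k M)) :
    IsUnipotentOn H ↔ ∃ n : ℕ, ∀ l : List (LinearMap.GeneralLinearGroup k M),
      (∀ g ∈ l, g ∈ H) → l.length = n → (l.map alpha).prod = 0 := by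
  have e : ∀ l : List (LinearMap.GeneralLinearGroup k M),
      (l.map fun g => alpha g) = (l.map fun g => (Units.val g) - 1) := fun _ => rfl
  constructor
  · rintro ⟨n, hn⟩
    refine ⟨n, fun l hl hlen => ?_⟩
    have := hn l hl hlen
    rw [show l.map alpha = l.map fun g => alpha g from rfl, e]
    simpa [Function.comp_def, List.flatMap_def] using this
  · rintro ⟨n, hn⟩
    refine ⟨n, fun l hl hlen => ?_⟩
    have := hn l hl hlen
    rw [show l.map alpha = l.map fun g => alpha g from rfl, e] at this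
    simpa [Function.comp_def, List.flatMap_def] using this

theorem alpha_mul (g h : LinearMap.GeneralLinearGroup k M) :
    alpha (g * h) = alpha g * alpha h + alpha g + alpha h := by
  simp only [alpha, Units.val_mul, mul_sub, sub_mul, mul_one, one_mul]; abel

theorem alpha_one : alpha (1 : LinearMap.GeneralLinearGroup k M) = 0 := by simp [alpha]

/-- A subspace is invariant under a set of automorphisms. -/
def IsInvariant (S : Set (LinearMap.GeneralLinearGroup k M)) (W : Submodule k M) : Prop :=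
  ∀ g ∈ S, ∀ w ∈ W, alpha g w ∈ W

/-- The vectors fixed modulo `W`. -/
def fixedMod (S : Set (LinearMap.GeneralLinearGroup k M)) (W : Submodule k M) : Submodule k M :=
  ⨅ g ∈ S, W.comap (alpha g)

theorem mem_fixedMod {S : Set (LinearMap.GeneralLinearGroup k M)} {W : Submodule k M} {v : M} :
    v ∈ fixedMod S W ↔ ∀ g ∈ S, alpha g v ∈ W := by
  simp [fixedMod, Submodule.mem_iInf]

/-- The section criterion. -/
def HasFixedSections (S : Set (LinearMap.GeneralLinearGroup k M)) : Prop :=
  ∀ W F : Submodule k M, IsInvariant S W → IsInvariant S F → ¬ F ≤ W → ∃ v ∈ F, v ∉ W ∧ ∀ g ∈ S, alpha g v ∈ W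

theorem hasFixedSections_of_unipotent {H : Subgroup (LinearMap.GeneralLinearGroup k M)} (hH : IsUnipotentOn H) :
    HasFixedSections (H : Set (LinearMap.GeneralLinearGroup k M)) := by
  classical
  obtain ⟨n, hn⟩ := (unipotent_iff H).1 hH
  intro W F hW hF hne
  obtain ⟨v, hvF, hvW⟩ := SetLike.not_le_iff_exists.1 hne
  let P : ℕ → Prop := fun j => ∃ l : List (LinearMap.GeneralLinearGroup k M),
    (∀ g ∈ l, g ∈ H) ∧ l.length = j ∧ (l.map alpha).prod v ∉ W
  have h0 : P 0 := ⟨[], by simp, rfl, by simpa using hvW⟩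
  have hn' : ∀ j, P j → j < n := by
    rintro j ⟨l, hl, hlen, hp⟩
    by_contra hle
    refine hp ?_
    rw [← List.take_append_drop n l, List.map_append, List.prod_append,
      hn (l.take n) (fun g hg => hl g (List.mem_of_mem_take hg)) (by rw [List.length_take]; omega), zero_mul,
      LinearMap.zero_apply]
    exact zero_mem _
  have hj : P (Nat.findGreatest P n) := Nat.findGreatest_spec (Nat.zero_le n) h0
  obtain ⟨l, hl, hlen, hp⟩ := hj
  refine ⟨(l.map alpha).prod v, ?_, hp, fun g hg => ?_⟩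
  · clear hp hlen
    induction l with
    | nil => simpa using hvF
    | cons x t ih =>
      rw [List.map_cons, List.prod_cons, Module.End.mul_apply]
      exact hF x (hl x (List.mem_cons_self ..)) _ (ih fun y hy => hl y (List.mem_cons_of_mem _ hy))
  · by_contra hgW
    have hP : P (Nat.findGreatest P n + 1) := ⟨g :: l, by
      intro y hy
      rcases List.mem_cons.1 hy with rfl | hy
      · exact hg
      · exact hl y hy, by simp [hlen], by rw [List.map_cons, List.prod_cons, Module.End.mul_apply]; exact hgW⟩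
    have h1 := Nat.le_findGreatest (hn' _ hP).le hP
    omega

/-- The ascending series of a set of automorphisms. -/
def fixedSeries (S : Set (LinearMap.GeneralLinearGroup k M)) : ℕ → Submodule k M
  | 0 => ⊥
  | i + 1 => fixedMod S (fixedSeries S i)

theorem fixedSeries_mono (S : Set (LinearMap.GeneralLinearGroup k M)) :
    ∀ i, fixedSeries S i ≤ fixedSeries S (i + 1)
  | 0 => bot_le
  | i + 1 => fun _ hv => mem_fixedMod.2 fun g hg => fixedSeries_mono S i (mem_fixedMod.1 hv g hg)

theorem fixedSeries_invariant (S : Set (LinearMap.GeneralLinearGroup k M)) (i : ℕ) :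
    IsInvariant S (fixedSeries S i) := by
  intro g hg w hw
  rcases i with _ | i
  · rw [fixedSeries, Submodule.mem_bot] at hw ⊢; rw [hw, map_zero]
  · exact fixedSeries_mono S i (mem_fixedMod.1 hw g hg)

theorem fixedSeries_top [FiniteDimensional k M] {S : Set (LinearMap.GeneralLinearGroup k M)}
    (hS : HasFixedSections S) : fixedSeries S (Module.finrank k M) = ⊤ := by
  have key : ∀ i, fixedSeries S i = ⊤ ∨ i ≤ Module.finrank k (fixedSeries S i) := by
    intro i
    induction i with
    | zero => exact Or.inr (Nat.zero_le _)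
    | succ i ih =>
      by_cases htop : fixedSeries S i = ⊤
      · exact Or.inl (eq_top_iff.2 (htop ▸ fixedSeries_mono S i))
      · refine Or.inr ?_
        obtain ⟨v, -, hv, hv'⟩ := hS (fixedSeries S i) ⊤ (fixedSeries_invariant S i) (fun _ _ _ _ => Submodule.mem_top)
          (fun h => htop (eq_top_iff.2 h))
        have hlt : fixedSeries S i < fixedSeries S (i + 1) :=
          lt_of_le_of_ne (fixedSeries_mono S i) fun e => hv (e ▸ mem_fixedMod.2 hv')
        have := Submodule.finrank_lt_finrank_of_lt hlt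
        have := ih.resolve_left htop
        omega
  rcases key (Module.finrank k M) with h | h
  · exact h
  · exact Submodule.eq_top_of_finrank_eq (le_antisymm (Submodule.finrank_le _) h)

theorem isUnipotentOn_of_sections [FiniteDimensional k M] {S : Set (LinearMap.GeneralLinearGroup k M)}
    (hS : HasFixedSections S) : IsUnipotentOn (Subgroup.closure S) := by
  set n := Module.finrank k M
  refine isUnipotentOn_of_flag n (fun i => fixedSeries S (n - i)) ?_ (fixedSeries_top hS) (by simp; rfl) ?_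
  · intro i j hij
    exact monotone_nat_of_le_succ (fixedSeries_mono S) (by omega)
  · intro g hg i m hm
    show alpha g m ∈ fixedSeries S (n - (i + 1))
    have hm' : m ∈ fixedSeries S (n - i) := hm
    rcases Nat.eq_zero_or_pos (n - i) with h | h
    · rw [h, fixedSeries, Submodule.mem_bot] at hm'
      rw [hm', map_zero]; exact zero_mem _
    · rw [show n - i = (n - (i + 1)) + 1 by omega, fixedSeries] at hm'
      exact mem_fixedMod.1 hm' g hg

/-! ### Unipotent groups are nilpotent -/

theorem unipotent_nilpotent [FiniteDimensional k M] {H : Subgroup (LinearMap.GeneralLinearGroup k M)}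
    (hH : IsUnipotentOn H) : Group.IsNilpotent H := by
  set S := (H : Set (LinearMap.GeneralLinearGroup k M)) with hSdef
  set L : Submodule k (M →ₗ[k] M) := Submodule.span k (alpha '' S) with hL
  set n := Module.finrank k M
  have htop := fixedSeries_top (hasFixedSections_of_unipotent hH)
  have hLL : L * L ≤ L := by
    rw [hL, Submodule.span_mul_span, Submodule.span_le]
    rintro _ ⟨_, ⟨g, hg, rfl⟩, _, ⟨h, hh, rfl⟩, rfl⟩
    have : alpha g * alpha h = alpha (g * h) - alpha g - alpha h := by rw [alpha_mul]; abel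
    show alpha g * alpha h ∈ Submodule.span k (alpha '' S)
    rw [this]
    exact sub_mem (sub_mem (Submodule.subset_span ⟨_, mul_mem hg hh, rfl⟩) (Submodule.subset_span ⟨g, hg, rfl⟩))
      (Submodule.subset_span ⟨h, hh, rfl⟩)
  have hPlow : ∀ j, ∀ x ∈ L ^ (j + 1), ∀ i, ∀ m ∈ fixedSeries S (i + (j + 1)), x m ∈ fixedSeries S i := by
    intro j
    induction j with
    | zero =>
      intro x hx i m hm
      rw [pow_one] at hx
      induction hx using Submodule.span_induction with
      | mem y hy => obtain ⟨g, hg, rfl⟩ := hy; exact mem_fixedMod.1 hm g hg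
      | zero => exact zero_mem _
      | add y z _ _ hy hz => exact add_mem hy hz
      | smul c y _ hy => exact Submodule.smul_mem _ c hy
    | succ j ih =>
      intro x hx i m hm
      rw [pow_succ] at hx
      induction hx using Submodule.mul_induction_on' with
      | mem_mul_mem y hy z hz =>
        refine ih y hy i (z m) ?_
        have hz' : z ∈ L ^ (0 + 1) := by simpa using hz
        rw [← add_assoc] at hm
        induction hz using Submodule.span_induction with
        | mem w hw => obtain ⟨g, hg, rfl⟩ := hw; exact mem_fixedMod.1 hm g hg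
        | zero => exact zero_mem _
        | add w w' hw hw' h1 h2 => exact add_mem (h1 (by simpa using hw)) (h2 (by simpa using hw'))
        | smul c w hw h1 => exact Submodule.smul_mem _ c (h1 (by simpa using hw))
      | add y _ z _ hy hz => exact add_mem hy hz
  have hle : ∀ j, L ^ (j + 1) * L ≤ L ^ (j + 1) := by
    intro j
    rw [pow_succ, mul_assoc]
    exact mul_le_mul_right hLL _
  have hsucc : ∀ j, L ^ (j + 1 + 1) ≤ L ^ (j + 1) := fun j => by rw [pow_succ L (j + 1)]; exact hle j
  let K : ℕ → Subgroup H := fun j =>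
    { carrier := {g | alpha (g : LinearMap.GeneralLinearGroup k M) ∈ L ^ (j + 1) ∧
        alpha ((g : LinearMap.GeneralLinearGroup k M)⁻¹) ∈ L ^ (j + 1)}
      one_mem' := by constructor <;> simp [alpha_one]
      mul_mem' := fun {g h} hg hh => by
        have hgL : ∀ g : H, alpha (g : LinearMap.GeneralLinearGroup k M) ∈ L :=
          fun g => Submodule.subset_span ⟨_, g.2, rfl⟩
        refine ⟨?_, ?_⟩
        · rw [Subgroup.coe_mul, alpha_mul]
          exact add_mem (add_mem (hle j (Submodule.mul_mem_mul hg.1 (hgL h))) hg.1) hh.1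
        · rw [Subgroup.coe_mul, mul_inv_rev, alpha_mul]
          exact add_mem (add_mem (hle j (Submodule.mul_mem_mul hh.2 (by
            simpa using hgL g⁻¹))) hh.2) hg.2
      inv_mem' := fun {g} hg => ⟨hg.2, by simpa using hg.1⟩ }
  rw [nilpotent_iff_finite_descending_central_series]
  refine ⟨n, K, ⟨?_, ?_⟩, ?_⟩
  · rw [eq_top_iff]
    intro g _
    show _ ∈ L ^ 1 ∧ _ ∈ L ^ 1
    rw [pow_one]
    exact ⟨Submodule.subset_span ⟨_, g.2, rfl⟩, Submodule.subset_span ⟨_, inv_mem g.2, rfl⟩⟩
  · intro g j hg h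
    have key : ∀ a b : LinearMap.GeneralLinearGroup k M, a ∈ H → b ∈ H → alpha a ∈ L ^ (j + 1) →
        alpha (a * b * a⁻¹ * b⁻¹) ∈ L ^ (j + 1 + 1) ∧ alpha (b * a * b⁻¹ * a⁻¹) ∈ L ^ (j + 1 + 1) := by
      intro a b ha hb haj
      have h1 : alpha a * alpha b ∈ L ^ (j + 1 + 1) := by
        rw [pow_succ L (j + 1)]
        exact Submodule.mul_mem_mul haj (Submodule.subset_span ⟨_, hb, rfl⟩)
      have h2 : alpha b * alpha a ∈ L ^ (j + 1 + 1) := by
        rw [pow_succ' L (j + 1)]
        exact Submodule.mul_mem_mul (Submodule.subset_span ⟨_, hb, rfl⟩) haj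
      have hform : ∀ a b : LinearMap.GeneralLinearGroup k M, alpha (a * b * a⁻¹ * b⁻¹) =
          (alpha a * alpha b - alpha b * alpha a) + (alpha a * alpha b - alpha b * alpha a) * alpha (a⁻¹ * b⁻¹) := by
        intro a b
        have e1 : a * b * a⁻¹ * b⁻¹ = a * b * (a⁻¹ * b⁻¹) := by group
        have e2 : (b * a) * (a⁻¹ * b⁻¹) = 1 := by group
        calc alpha (a * b * a⁻¹ * b⁻¹)
            = ((a * b : LinearMap.GeneralLinearGroup k M) : M →ₗ[k] M) *
                ((a⁻¹ * b⁻¹ : LinearMap.GeneralLinearGroup k M) : M →ₗ[k] M) -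
              ((b * a : LinearMap.GeneralLinearGroup k M) : M →ₗ[k] M) *
                ((a⁻¹ * b⁻¹ : LinearMap.GeneralLinearGroup k M) : M →ₗ[k] M) := by
              rw [alpha, e1, ← Units.val_mul, ← Units.val_mul (b * a), e2, Units.val_one]
          _ = _ := by
              rw [← sub_mul, Units.val_mul a b, Units.val_mul b a, alpha_add_one a, alpha_add_one b,
                alpha_add_one (a⁻¹ * b⁻¹)]
              noncomm_ring
      have hmem : ∀ {x}, x ∈ L ^ (j + 1 + 1) → ∀ {c}, c ∈ H → x + x * alpha c ∈ L ^ (j + 1 + 1) := fun hx _ hc =>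
        add_mem hx (hle (j + 1) (Submodule.mul_mem_mul hx (Submodule.subset_span ⟨_, hc, rfl⟩)))
      refine ⟨?_, ?_⟩
      · rw [hform]; exact hmem (sub_mem h1 h2) (mul_mem (inv_mem ha) (inv_mem hb))
      · rw [hform]; exact hmem (sub_mem h2 h1) (mul_mem (inv_mem hb) (inv_mem ha))
    obtain ⟨k1, k2⟩ := key g h g.2 h.2 hg.1
    refine ⟨?_, ?_⟩
    · simpa [commutatorElement_def, Subgroup.coe_mul] using k1
    · simpa [commutatorElement_def, Subgroup.coe_mul, mul_inv_rev, mul_assoc] using k2
  · rw [eq_bot_iff]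
    intro g hg
    rw [Subgroup.mem_bot]
    refine Subtype.ext (Units.ext (LinearMap.ext fun m => ?_))
    have h0 : alpha (g : LinearMap.GeneralLinearGroup k M) m = 0 := by
      have := hPlow n _ hg.1 0 m (by
        rw [zero_add]
        exact fixedSeries_mono S n (htop ▸ Submodule.mem_top))
      simpa [fixedSeries] using this
    rw [alpha_add_one, LinearMap.add_apply, h0, add_zero]; rfl

/-! ### Baer's argument -/

variable [FiniteDimensional k M] {G : Subgroup (LinearMap.GeneralLinearGroup k M)}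

theorem baer {W : Set (Subgroup (LinearMap.GeneralLinearGroup k M))} (hWG : ∀ A ∈ W, A ≤ G)
    (hWW : ∀ A ∈ W, ∀ B ∈ W, IsUnipotentOn (A ⊔ B)) (hWconj : ∀ A ∈ W, ∀ g ∈ G, conjBy A g ∈ W) :
    IsUnipotentOn (⨆ A ∈ W, A) := by
  classical
  let U : Set (Subgroup (LinearMap.GeneralLinearGroup k M)) → Subgroup (LinearMap.GeneralLinearGroup k M) :=
    fun T => ⨆ A ∈ T, A
  let Lsp : Set (Subgroup (LinearMap.GeneralLinearGroup k M)) → Submodule k (M →ₗ[k] M) :=
    fun T => Submodule.span k (alpha '' (U T : Set (LinearMap.GeneralLinearGroup k M)))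
  have hUle : ∀ {T A}, A ∈ T → A ≤ U T := fun {T A} h => le_iSup₂_of_le A h le_rfl
  have hLle : ∀ {T T'}, T ⊆ T' → Lsp T ≤ Lsp T' := fun {T T'} h =>
    Submodule.span_mono (Set.image_mono (show U T ≤ U T' from iSup₂_le fun A hA => hUle (h hA)))
  -- saturation
  let sat : Set (Subgroup (LinearMap.GeneralLinearGroup k M)) → Set (Subgroup (LinearMap.GeneralLinearGroup k M)) :=
    fun T => {A | A ∈ W ∧ ∀ a ∈ A, alpha a ∈ Lsp T}
  have hT_sat : ∀ {T}, T ⊆ W → T ⊆ sat T := fun {T} hT A hA =>
    ⟨hT hA, fun a ha => Submodule.subset_span ⟨a, hUle hA ha, rfl⟩⟩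
  have hLsat : ∀ T, Lsp (sat T) ≤ Lsp T := by
    intro T
    refine Submodule.span_le.2 ?_
    rintro _ ⟨g, hg, rfl⟩
    have key : ∀ g ∈ U (sat T), alpha g ∈ Lsp T := by
      let P : Subgroup (LinearMap.GeneralLinearGroup k M) :=
        { carrier := {g | alpha g ∈ Lsp T ∧ alpha g⁻¹ ∈ Lsp T}
          one_mem' := by constructor <;> simp [alpha_one]
          mul_mem' := fun {g h} hg hh => by
            have hclosed : ∀ x ∈ Lsp T, ∀ y ∈ Lsp T, x * y ∈ Lsp T := by
              intro x hx y hy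
              induction hx using Submodule.span_induction with
              | mem z hz =>
                obtain ⟨u, hu, rfl⟩ := hz
                induction hy using Submodule.span_induction with
                | mem w hw =>
                  obtain ⟨v, hv, rfl⟩ := hw
                  rw [show alpha u * alpha v = alpha (u * v) - alpha u - alpha v by rw [alpha_mul]; abel]
                  exact sub_mem (sub_mem (Submodule.subset_span ⟨_, mul_mem hu hv, rfl⟩)
                    (Submodule.subset_span ⟨u, hu, rfl⟩)) (Submodule.subset_span ⟨v, hv, rfl⟩)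
                | zero => rw [mul_zero]; exact zero_mem _
                | add w w' _ _ h1 h2 => rw [mul_add]; exact add_mem h1 h2
                | smul c w _ h1 => rw [mul_smul_comm]; exact Submodule.smul_mem _ c h1
              | zero => rw [zero_mul]; exact zero_mem _
              | add z z' _ _ h1 h2 => rw [add_mul]; exact add_mem h1 h2
              | smul c z _ h1 => rw [smul_mul_assoc]; exact Submodule.smul_mem _ c h1
            exact ⟨by rw [alpha_mul]; exact add_mem (add_mem (hclosed _ hg.1 _ hh.1) hg.1) hh.1,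
              by rw [mul_inv_rev, alpha_mul]; exact add_mem (add_mem (hclosed _ hh.2 _ hg.2) hh.2) hg.2⟩
          inv_mem' := fun {g} hg => ⟨hg.2, by rw [inv_inv]; exact hg.1⟩ }
      have hle : U (sat T) ≤ P := iSup₂_le fun A hA a ha => ⟨hA.2 a ha, hA.2 _ (inv_mem ha)⟩
      exact fun g hg => (hle hg).1
    exact key g hg
  have hnilL : ∀ T, IsUnipotentOn (U T) → IsUnipotentOn (U (sat T)) := by
    intro T hT
    obtain ⟨n, hn⟩ := (unipotent_iff _).1 hT
    refine (unipotent_iff _).2 ⟨n, fun l hl hlen => ?_⟩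
    have key : ∀ (l : List (LinearMap.GeneralLinearGroup k M)) (pre : List (LinearMap.GeneralLinearGroup k M)),
        (∀ g ∈ l, g ∈ U (sat T)) → (∀ g ∈ pre, g ∈ U T) → pre.length + l.length = n →
        (pre.map alpha).prod * (l.map alpha).prod = 0 := by
      intro l
      induction l with
      | nil =>
        intro pre _ hpre hlen
        rw [List.map_nil, List.prod_nil, mul_one]
        exact hn pre hpre (by simpa using hlen)
      | cons g t ih =>
        intro pre hl hpre hlen
        rw [List.map_cons, List.prod_cons, ← mul_assoc]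
        have hg : alpha g ∈ Lsp T := hLsat T (Submodule.subset_span ⟨g, hl g (List.mem_cons_self ..), rfl⟩)
        have ht : ∀ y ∈ t, y ∈ U (sat T) := fun y hy => hl y (List.mem_cons_of_mem _ hy)
        generalize alpha g = z at hg ⊢
        induction hg using Submodule.span_induction with
        | mem z hz =>
          obtain ⟨u, hu, rfl⟩ := hz
          have h := ih (pre ++ [u]) ht (by
            intro y hy
            rcases List.mem_append.1 hy with hy | hy
            · exact hpre y hy
            · rw [List.mem_singleton] at hy; subst hy; exact hu) (by simp at hlen ⊢; omega)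
          simpa using h
        | zero => rw [mul_zero, zero_mul]
        | add z z' _ _ h1 h2 => rw [mul_add, add_mul, h1, h2, add_zero]
        | smul c z _ h1 => rw [mul_smul_comm, smul_mul_assoc, h1, smul_zero]
    have := key l [] hl (by simp) (by simpa using hlen)
    simpa using this
  -- maximal subfamilies
  let Good : Set (Subgroup (LinearMap.GeneralLinearGroup k M)) → Prop := fun T =>
    T ⊆ W ∧ IsUnipotentOn (U T) ∧ sat T = T
  have hsat_good : ∀ T, T ⊆ W → IsUnipotentOn (U T) → Good (sat T) := fun T hT hu =>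
    ⟨fun A hA => hA.1, hnilL T hu, Set.Subset.antisymm
      (fun A hA => ⟨hA.1, fun a ha => hLsat T (hA.2 a ha)⟩) (hT_sat fun A hA => hA.1)⟩
  have hgood_inj : ∀ {T T'}, Good T → T' ⊆ W → Lsp T' ≤ Lsp T → T' ⊆ T := fun {T T'} hT hT' hle A hA => by
    rw [← hT.2.2]
    exact ⟨hT' hA, fun a ha => hle (Submodule.subset_span ⟨a, hUle hA ha, rfl⟩)⟩
  have hext : ∀ T, T ⊆ W → IsUnipotentOn (U T) → ∃ T', Good T' ∧ T ⊆ T' ∧ ∀ T'', Good T'' → T' ⊆ T'' → T'' = T' := by
    intro T hT hu
    obtain ⟨L, ⟨T', hT', hTT', rfl⟩, hmax⟩ := (wellFounded_gt (α := Submodule k (M →ₗ[k] M))).has_min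
      {L | ∃ T', Good T' ∧ T ⊆ T' ∧ Lsp T' = L} ⟨_, sat T, hsat_good T hT hu, hT_sat hT, rfl⟩
    refine ⟨T', hT', hTT', fun T'' hT'' hsub => Set.Subset.antisymm (hgood_inj hT' hT''.1 ?_) hsub⟩
    rcases (hLle hsub).lt_or_eq with h | h
    · exact absurd h (hmax _ ⟨T'', hT'', hTT'.trans hsub, rfl⟩)
    · exact h.ge
  by_contra hnot
  have hempty : IsUnipotentOn (U ∅) := by
    refine (unipotent_iff _).2 ⟨1, fun l hl hlen => ?_⟩
    obtain ⟨x, rfl⟩ := List.length_eq_one_iff.1 hlen
    have hx := hl x (by simp)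
    simp [U] at hx
    subst hx
    simp [alpha_one]
  obtain ⟨T₀, hT₀, -, hT₀max⟩ := hext ∅ (Set.empty_subset _) hempty
  obtain ⟨A₀, hA₀, hA₀T⟩ : ∃ A ∈ W, A ∉ T₀ := by
    by_contra h
    push Not at h
    have : T₀ = W := Set.Subset.antisymm hT₀.1 h
    exact hnot (this ▸ hT₀.2.1)
  have hsingle : IsUnipotentOn (U {A₀}) := by
    have := hWW A₀ hA₀ A₀ hA₀
    simpa [U] using this
  obtain ⟨T₀', hT₀', hsub, hT₀'max⟩ := hext {A₀} (Set.singleton_subset_iff.2 hA₀) hsingle
  let IsMax : Set (Subgroup (LinearMap.GeneralLinearGroup k M)) → Prop := fun T =>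
    Good T ∧ ∀ T'', Good T'' → T ⊆ T'' → T'' = T
  obtain ⟨Lm, ⟨T₁, T₂, h1, h2, hne, rfl⟩, hmax⟩ := (wellFounded_gt (α := Submodule k (M →ₗ[k] M))).has_min
    {L | ∃ T₁ T₂, IsMax T₁ ∧ IsMax T₂ ∧ T₁ ≠ T₂ ∧ Lsp (T₁ ∩ T₂) = L}
    ⟨_, T₀, T₀', ⟨hT₀, hT₀max⟩, ⟨hT₀', hT₀'max⟩, fun e => hA₀T (e ▸ hsub rfl), rfl⟩
  set D := T₁ ∩ T₂ with hDdef
  have hDW : D ⊆ W := fun A hA => h1.1.1 hA.1
  have hDsat : ∀ A ∈ W, (∀ a ∈ A, alpha a ∈ Lsp D) → A ∈ D := fun A hA h => by
    refine ⟨?_, ?_⟩
    · rw [← h1.1.2.2]; exact ⟨hA, fun a ha => hLle Set.inter_subset_left (h a ha)⟩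
    · rw [← h2.1.2.2]; exact ⟨hA, fun a ha => hLle Set.inter_subset_right (h a ha)⟩
  have hnorm : ∀ T, Good T → D ⊆ T → ¬ T ⊆ D → ∃ A ∈ T, A ∉ D ∧ ∀ a ∈ A, ∀ B ∈ D, conjBy B a ∈ D := by
    intro T hT hDT hTD
    have hUG : U T ≤ G := iSup₂_le fun A hA => hWG A (hT.1 hA)
    have hconjT : ∀ x ∈ U T, ∀ A ∈ W, A ≤ U T → conjBy A x ∈ T := by
      intro x hx A hA hle
      rw [← hT.2.2]
      refine ⟨hWconj A hA x (hUG hx), ?_⟩
      rintro _ ⟨y, hy, rfl⟩
      exact Submodule.subset_span ⟨_, mul_mem (mul_mem hx (hle hy)) (inv_mem hx), rfl⟩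
    let N : Subgroup (LinearMap.GeneralLinearGroup k M) :=
      { carrier := {g | g ∈ U T ∧ ∀ B ∈ D, conjBy B g ∈ D ∧ conjBy B g⁻¹ ∈ D}
        one_mem' := ⟨one_mem _, fun B hB => by
          have e : conjBy B 1 = B := by ext x; simp [conjBy]
          rw [inv_one, e]; exact ⟨hB, hB⟩⟩
        mul_mem' := fun {g h} hg hh => ⟨mul_mem hg.1 hh.1, fun B hB => by
          have e : ∀ g h : LinearMap.GeneralLinearGroup k M, conjBy B (g * h) = conjBy (conjBy B h) g := by
            intro g h
            rw [conjBy, conjBy, conjBy, Subgroup.map_map]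
            congr 1
            try (ext x; simp [mul_assoc])
          rw [mul_inv_rev, e, e]
          exact ⟨(hg.2 _ (hh.2 B hB).1).1, (hh.2 _ (hg.2 B hB).2).2⟩⟩
        inv_mem' := fun {g} hg => ⟨inv_mem hg.1, fun B hB => by rw [inv_inv]; exact ⟨(hg.2 B hB).2, (hg.2 B hB).1⟩⟩ }
    have hDN : ∀ A ∈ D, A ≤ N := by
      intro A hA a ha
      refine ⟨hUle (hDT hA) ha, fun B hB => ?_⟩
      have hA' : ∀ x ∈ A, conjBy B x ∈ D := fun x hx => hDsat _
        (hWconj B (hDW hB) x (hWG A (hDW hA) hx)) (by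
          rintro _ ⟨y, hy, rfl⟩
          exact Submodule.subset_span ⟨_, mul_mem (mul_mem (hUle hA hx) (hUle hB hy)) (inv_mem (hUle hA hx)), rfl⟩)
      exact ⟨hA' a ha, hA' _ (inv_mem ha)⟩
    by_contra hcon
    push Not at hcon
    have hmem : ∀ A ∈ T, A ≤ N → A ∈ D := fun A hA hAN => by
      by_contra hAD
      obtain ⟨a, ha, B, hB, hab⟩ := hcon A hA hAD
      exact hab ((hAN ha).2 B hB).1
    haveI := unipotent_nilpotent hT.2.1
    have hnc : NormalizerCondition (U T) := normalizerCondition_of_isNilpotent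
    have heq : N.subgroupOf (U T) = ⊤ := by
      by_contra hne'
      obtain ⟨x, hx, hxN⟩ := SetLike.exists_of_lt (hnc _ (lt_top_iff_ne_top.2 hne'))
      refine hxN ⟨x.2, ?_⟩
      have hxc : ∀ y : U T, y ∈ Subgroup.normalizer (N.subgroupOf (U T) : Set (U T)) → ∀ B ∈ D, conjBy B (y : LinearMap.GeneralLinearGroup k M) ∈ D := by
        intro y hy B hB
        refine hmem _ (hconjT y y.2 B (hDW hB) (hUle (hDT hB))) ?_
        rintro _ ⟨z, hz, rfl⟩
        have hz' : (⟨z, hUle (hDT hB) hz⟩ : U T) ∈ N.subgroupOf (U T) := hDN B hB hz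
        exact (Subgroup.mem_normalizer_iff.1 hy ⟨z, hUle (hDT hB) hz⟩).1 hz'
      exact fun B hB => ⟨hxc x hx B hB, hxc x⁻¹ (inv_mem hx) B hB⟩
    rw [Subgroup.subgroupOf_eq_top] at heq
    exact hTD fun A hA => hmem A hA ((hUle hA).trans heq)
  have hnot12 : ¬ T₁ ⊆ D := fun h => hne (h1.2 T₂ h2.1 (h.trans Set.inter_subset_right)).symm
  have hnot21 : ¬ T₂ ⊆ D := fun h => hne (h2.2 T₁ h1.1 (h.trans Set.inter_subset_left))
  obtain ⟨A₁, hA₁, hA₁D, hA₁n⟩ := hnorm T₁ h1.1 Set.inter_subset_left hnot12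
  obtain ⟨A₂, hA₂, hA₂D, hA₂n⟩ := hnorm T₂ h2.1 Set.inter_subset_right hnot21
  set T₃ := insert A₁ (insert A₂ D) with hT₃
  have hT₃W : T₃ ⊆ W := Set.insert_subset (h1.1.1 hA₁) (Set.insert_subset (h2.1.1 hA₂) hDW)
  have huD : IsUnipotentOn (U D) := by
    obtain ⟨n, hn⟩ := (unipotent_iff _).1 h1.1.2.1
    refine (unipotent_iff _).2 ⟨n, fun l hl hlen => hn l (fun g hg => ?_) hlen⟩
    exact (iSup₂_le fun A hA => hUle hA.1 : U D ≤ U T₁) (hl g hg)
  have huT₃ : IsUnipotentOn (U T₃) := by
    set V := (U D : Set (LinearMap.GeneralLinearGroup k M)) with hV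
    set P := ((A₁ ⊔ A₂ : Subgroup (LinearMap.GeneralLinearGroup k M)) : Set (LinearMap.GeneralLinearGroup k M)) with hP
    have hsub' : U T₃ ≤ Subgroup.closure (V ∪ P) := by
      refine iSup₂_le fun A hA => ?_
      intro a ha
      refine Subgroup.subset_closure ?_
      rcases Set.mem_insert_iff.1 hA with rfl | hA
      · exact Or.inr (Subgroup.mem_sup_left ha)
      rcases Set.mem_insert_iff.1 hA with rfl | hA
      · exact Or.inr (Subgroup.mem_sup_right ha)
      · exact Or.inl (hUle hA ha)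
    have hsec : HasFixedSections (V ∪ P) := by
      intro W' F hW' hF hnle
      have hF'inv : ∀ g ∈ P, ∀ w ∈ F, (∀ u ∈ V, alpha u w ∈ W') → ∀ u ∈ V, alpha u (alpha g w) ∈ W' := by
        intro g hg w hwF hw u hu
        have hg' : ∀ y ∈ U D, g⁻¹ * y * g ∈ U D := by
          have hle : A₁ ⊔ A₂ ≤ Subgroup.normalizer (U D : Set (LinearMap.GeneralLinearGroup k M)) := by
            have hA : ∀ A : Subgroup (LinearMap.GeneralLinearGroup k M), (∀ a ∈ A, ∀ B ∈ D, conjBy B a ∈ D) →
                A ≤ Subgroup.normalizer (U D : Set (LinearMap.GeneralLinearGroup k M)) := by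
              intro A hA a ha
              have hc : ∀ b ∈ A, ∀ y ∈ U D, b * y * b⁻¹ ∈ U D := by
                intro b hb y hy
                have hle' : U D ≤ (U D).comap (MulAut.conj b).toMonoidHom := iSup₂_le fun B hB z hz =>
                  hUle (hA b hb B hB) ⟨z, hz, rfl⟩
                exact hle' hy
              rw [Subgroup.mem_normalizer_iff]
              intro y
              refine ⟨hc a ha y, fun hy => ?_⟩
              have := hc a⁻¹ (inv_mem ha) _ hy
              simpa [mul_assoc] using this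
            exact sup_le (hA A₁ hA₁n) (hA A₂ hA₂n)
          intro y hy
          have := (Subgroup.mem_normalizer_iff.1 (inv_mem (hle hg)) y).1 hy
          simpa using this
        have h' := hw _ (hg' u hu)
        have hgW : ∀ w ∈ W', (g : M →ₗ[k] M) w ∈ W' := fun w hw => by
          rw [alpha_add_one g, LinearMap.add_apply, Module.End.one_apply]
          exact add_mem hw (hW' g (Or.inr hg) w hw)
        have h'' : alpha u ((g : M →ₗ[k] M) w) ∈ W' := by
          have e : alpha u * (g : M →ₗ[k] M) = (g : M →ₗ[k] M) * alpha (g⁻¹ * u * g) := by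
            simp only [alpha, sub_mul, mul_sub, one_mul, mul_one, Units.val_mul, ← mul_assoc, Units.mul_inv]
          rw [← Module.End.mul_apply, e, Module.End.mul_apply]
          exact hgW _ h'
        rw [show alpha g w = (g : M →ₗ[k] M) w - w from rfl, map_sub]
        exact sub_mem h'' (hw u hu)
      obtain ⟨v, hvF, hvW, hv⟩ := hasFixedSections_of_unipotent huD W' F (fun g hg => hW' g (Or.inl hg))
        (fun g hg => hF g (Or.inl hg)) hnle
      set F' := F ⊓ fixedMod V W' with hF'
      obtain ⟨v', hv'F, hv'W, hv'⟩ := hasFixedSections_of_unipotent (hWW A₁ (h1.1.1 hA₁) A₂ (h2.1.1 hA₂)) W' F'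
        (fun g hg => hW' g (Or.inr hg))
        (fun g hg w hw => ⟨hF g (Or.inr hg) w hw.1,
          mem_fixedMod.2 (hF'inv g hg w hw.1 (mem_fixedMod.1 hw.2))⟩)
        (fun hle => hvW (hle ⟨hvF, mem_fixedMod.2 hv⟩))
      refine ⟨v', hv'F.1, hv'W, fun g hg => ?_⟩
      rcases hg with hg | hg
      · exact mem_fixedMod.1 hv'F.2 g hg
      · exact hv' g hg
    obtain ⟨n, hn⟩ := (unipotent_iff _).1 (isUnipotentOn_of_sections hsec)
    exact (unipotent_iff _).2 ⟨n, fun l hl hlen => hn l (fun g hg => hsub' (hl g hg)) hlen⟩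
  obtain ⟨T₄, hT₄, hT₃₄, hT₄max⟩ := hext T₃ hT₃W huT₃
  have hA₁₄ : A₁ ∈ T₄ := hT₃₄ (Set.mem_insert _ _)
  have hA₂₄ : A₂ ∈ T₄ := hT₃₄ (Set.mem_insert_of_mem _ (Set.mem_insert _ _))
  have h41 : T₄ ≠ T₁ := fun e => hA₂D ⟨e ▸ hA₂₄, hA₂⟩
  have hbigger : Lsp D < Lsp (T₄ ∩ T₁) := by
    have hsubD : D ⊆ T₄ ∩ T₁ := fun A hA => ⟨hT₃₄ (Set.mem_insert_of_mem _ (Set.mem_insert_of_mem _ hA)), hA.1⟩
    refine lt_of_le_of_ne (hLle hsubD) fun e => hA₁D (hDsat A₁ (h1.1.1 hA₁) fun a ha => ?_)
    rw [e]
    exact Submodule.subset_span ⟨a, hUle (show A₁ ∈ T₄ ∩ T₁ from ⟨hA₁₄, hA₁⟩) ha, rfl⟩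
  exact hmax _ ⟨T₄, T₁, ⟨hT₄, hT₄max⟩, h1, h41, rfl⟩ hbigger

end CfsgLib.QuadPair
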