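import Cfsg.Agent.Lib.QuadPair.Centralizing
import Cfsg.Agent.Lib.RootSub.Special
import Cfsg.Agent.Lib.Coprime.Component
import Cfsg.Agent.S5033

/-!
# The group generated by a component is quasisimple
-/

set_option autoImplicit false

namespace CfsgLib.QuadPair

open Cfsg Polynomial
open scoped commutatorElement

variable {k : Type*} [Field k] {M : Type*} [AddCommGroup M] [Module k M] [FiniteDimensional k M]
variable {G : Subgroup (LinearMap.GeneralLinearGroup k M)}

theorem specialPair_subgroupOf {Γ : Type*} [Group Γ] {X A B : Subgroup Γ} (hA : A ≤ X) (hB : B ≤ X)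
    (h : IsSpecialRankOnePair A B) : IsSpecialRankOnePair (A.subgroupOf X) (B.subgroupOf X) := by
  refine ⟨rankOnePair_subgroupOf hA hB h.1, fun a ha ha1 b hb hb1 e => Subtype.ext ?_⟩
  refine h.2 (a : Γ) ha (fun e' => ha1 (Subtype.ext e')) (b : Γ) hb (fun e' => hb1 (Subtype.ext e')) ?_
  rw [conjBy_subgroupOf, conjBy_subgroupOf] at e
  have e' := congrArg (fun Z : Subgroup ↥X => Z.map X.subtype) e
  rwa [map_subgroupOf_le, map_subgroupOf_le] at e'
  · rintro _ ⟨v, hv, rfl⟩
    simp only [MulEquiv.coe_toMonoidHom, MulAut.conj_apply]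
    exact mul_mem (mul_mem (inv_mem a.2) (hB hv)) (by simp)
  · rintro _ ⟨v, hv, rfl⟩
    simp only [MulEquiv.coe_toMonoidHom, MulAut.conj_apply]
    exact mul_mem (mul_mem (inv_mem b.2) (hA hv)) (by simp)

/-- The scalar family of `σ` embeds in `E(σ)`. -/
theorem encard_le_sameAction {σ : LinearMap.GeneralLinearGroup k M} (hσ : σ ∈ minimalQuadraticElements G) :
    ENat.card k ≤ ENat.card (sameActionSubgroup G σ) :=
  ENat.card_le_card_of_injective (f := fun t : k =>
    (⟨oneAdd (t • alpha σ) (smul_sq (sq_of_min hσ) t), (mem_sameAction_iff hσ).2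
      (by rw [alpha_oneAdd]; exact Submodule.smul_mem _ _ (alpha_mem_actSpace hσ))⟩ : sameActionSubgroup G σ))
    fun s t e => by
      have e' := congrArg (fun u : sameActionSubgroup G σ => alpha (u : LinearMap.GeneralLinearGroup k M)) e
      simp only [alpha_oneAdd] at e'
      exact smul_left_injective k (alpha_ne_zero hσ) e'

variable (h2 : (2 : k) ≠ 0) (h3 : Nat.card k ≠ 3)
include h2 h3

/-- A member lies in the derived group of any rank one group it is part of. -/
theorem le_derived (hG : IsQuadraticPair G) {A B : Subgroup (LinearMap.GeneralLinearGroup k M)}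
    (hA : A ∈ quadraticRootSubgroups G) (hB : B ∈ quadraticRootSubgroups G) (h : IsRankOnePair A B) :
    A ≤ ⁅A ⊔ B, A ⊔ B⁆ := by
  obtain ⟨σ, hσ, rfl⟩ := hA
  obtain ⟨τ, hτ, rfl⟩ := hB
  obtain ⟨f, hf⟩ := sep_of_rankOne h2 h3 hG hσ hτ h
  refine RootSub.special_le_derived (isSpecialRankOnePair h2 h3 hσ hτ hf) (fun x hx y hy => sameAction_comm hσ hx hy)
    (fun x hx y hy => sameAction_comm hτ hx hy) fun a ha => ?_
  by_contra hw
  push Not at hw
  have h4 : 3 < ENat.card (sameActionSubgroup G σ) := (three_lt_encard h2 h3).trans_le (encard_le_sameAction hσ)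
  refine absurd h4 (not_lt.2 ?_)
  have hsub : (sameActionSubgroup G σ : Set (LinearMap.GeneralLinearGroup k M)) ⊆ {1, a⁻¹, a⁻¹ * a⁻¹} := by
    intro w hwA
    by_cases e1 : w = 1
    · exact Or.inl e1
    by_cases e2 : a * w = 1
    · exact Or.inr (Or.inl (eq_inv_of_mul_eq_one_right e2))
    refine Or.inr (Or.inr ?_)
    have e3 := hw w hwA e1 e2
    rw [← mul_assoc] at e3
    rw [Set.mem_singleton_iff, eq_inv_of_mul_eq_one_right e3, mul_inv_rev]
  calc ENat.card ↥(sameActionSubgroup G σ) = (sameActionSubgroup G σ : Set _).encard := rfl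
    _ ≤ ({1, a⁻¹, a⁻¹ * a⁻¹} : Set (LinearMap.GeneralLinearGroup k M)).encard := Set.encard_le_encard hsub
    _ ≤ ({a⁻¹, a⁻¹ * a⁻¹} : Set (LinearMap.GeneralLinearGroup k M)).encard + 1 := Set.encard_insert_le _ _
    _ ≤ (({a⁻¹ * a⁻¹} : Set (LinearMap.GeneralLinearGroup k M)).encard + 1) + 1 :=
      add_le_add (Set.encard_insert_le _ _) le_rfl
    _ = 3 := by rw [Set.encard_singleton]; rfl

/-- The group of a component is perfect. -/
theorem componentJoin_perfect (hG : IsQuadraticPair G) (A : Subgroup (LinearMap.GeneralLinearGroup k M)) :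
    ⁅componentJoin G A, componentJoin G A⁆ = componentJoin G A := by
  refine le_antisymm (Subgroup.commutator_le.2 fun a ha b hb =>
    mul_mem (mul_mem (mul_mem ha hb) (inv_mem ha)) (inv_mem hb)) (iSup₂_le fun B hB => ?_)
  obtain ⟨Q, hQ, hBQ⟩ := exists_partner_component h2 h3 hG hB.1
  rw [component_eq_of_mem hB] at hQ
  exact (le_derived h2 h3 hG hB.1 hQ.1 hBQ).trans
    (Subgroup.commutator_mono (sup_le (le_componentJoin hB) (le_componentJoin hQ))
      (sup_le (le_componentJoin hB) (le_componentJoin hQ)))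

/-- **The group generated by a component is quasisimple.** -/
theorem componentJoin_quasisimple (hG : IsQuadraticPair G) {A : Subgroup (LinearMap.GeneralLinearGroup k M)}
    (hA : A ∈ quadraticRootSubgroups G) : IsQuasisimple ↥(componentJoin G A) := by
  set X := componentJoin G A with hX
  obtain ⟨P, hP, hAP⟩ := exists_partner_component h2 h3 hG hA
  have htop : commutator ↥X = ⊤ := by
    apply Subgroup.map_injective X.subtype_injective
    rw [commutator_def, Subgroup.map_commutator, ← MonoidHom.range_eq_map, Subgroup.range_subtype, hX]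
    exact componentJoin_perfect h2 h3 hG A
  have hinj : ∀ {U V : Subgroup (LinearMap.GeneralLinearGroup k M)}, U ∈ component G A → V ∈ component G A →
      U.subgroupOf X = V.subgroupOf X → U = V := fun hU hV e => by
    rw [← map_subgroupOf_le (le_componentJoin hU), e, map_subgroupOf_le (le_componentJoin hV)]
  have hq := (Cfsg.Agent.S5033.result (isRootSubgroupSet_component h2 h3 hG A)
    ⟨_, ⟨A, mem_component_self hA, rfl⟩, _, ⟨P, hP, rfl⟩, fun e => hAP.ne (hinj (mem_component_self hA) hP e)⟩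
    (connected_component A) ?_ ?_ ?_).2.1
  · exact Coprime.isQuasisimple_congr ((MulEquiv.subgroupCongr htop).trans Subgroup.topEquiv) hq
  · rintro _ ⟨B, hB, rfl⟩ _ ⟨C, hC, rfl⟩ hne heq
    refine hne (congrArg (fun Z : Subgroup (LinearMap.GeneralLinearGroup k M) => Z.subgroupOf X) ?_)
    obtain ⟨σ, hσ, rfl⟩ := hB.1
    obtain ⟨τ, hτ, rfl⟩ := hC.1
    have hcomp := component_eq_of_mem hB
    refine (eq_of_centralizing h2 h3 hG hσ hτ (hcomp ▸ hC) fun F hF hFB => ?_).symm
    rw [hcomp] at hF
    have hm : F.subgroupOf X ∈ centralizingMembers ((fun B : Subgroup (LinearMap.GeneralLinearGroup k M) =>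
        B.subgroupOf X) '' component G A) ((sameActionSubgroup G σ).subgroupOf X) :=
      RootSub.mem_centralizingMembers.2 ⟨⟨F, hF, rfl⟩, by
        rw [commutator_subgroupOf (le_componentJoin hF) (le_componentJoin hB), hFB, Subgroup.bot_subgroupOf]⟩
    rw [heq] at hm
    have hm' := (RootSub.mem_centralizingMembers.1 hm).2
    rw [commutator_subgroupOf (le_componentJoin hF) (le_componentJoin hC)] at hm'
    have e' := congrArg (fun Z : Subgroup ↥X => Z.map X.subtype) hm'
    simp only [Subgroup.map_bot] at e'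
    rwa [map_subgroupOf_le] at e'
    exact (Subgroup.commutator_mono (le_componentJoin hF) (le_componentJoin hC)).trans
      (Subgroup.commutator_le.2 fun a ha b hb => mul_mem (mul_mem (mul_mem ha hb) (inv_mem ha)) (inv_mem hb))
  · rintro - _ ⟨B, hB, rfl⟩
    rw [ENat.card_congr (Subgroup.subgroupOfEquivOfLe (le_componentJoin hB)).toEquiv]
    obtain ⟨σ, hσ, rfl⟩ := hB.1
    exact (three_lt_encard h2 h3).trans_le (encard_le_sameAction hσ)
  · rintro _ ⟨B, hB, rfl⟩ _ ⟨⟨C, hC, rfl⟩, hp⟩
    have hBC := rankOnePair_of_subgroupOf (le_componentJoin hB) (le_componentJoin hC) hp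
    obtain ⟨σ, hσ, rfl⟩ := hB.1
    obtain ⟨τ, hτ, rfl⟩ := hC.1
    obtain ⟨f, hf⟩ := sep_of_rankOne h2 h3 hG hσ hτ hBC
    exact specialPair_subgroupOf (le_componentJoin hB) (le_componentJoin hC) (isSpecialRankOnePair h2 h3 hσ hτ hf)

end CfsgLib.QuadPair
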