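import Cfsg.Agent.Lib.QuadPair.Products
import Cfsg.Agent.Lib.QuadPair.Quasisimple

/-!
# The decomposition of a quadratic pair as a central product
-/

set_option autoImplicit false

namespace CfsgLib.QuadPair

open Cfsg Polynomial
open scoped commutatorElement

universe u

variable {k : Type u} [Field k]

/-- The properties of a family of central factors. -/
structure IsCentralFactors {M : Type u} [AddCommGroup M] [Module k M]
    (G : Subgroup (LinearMap.GeneralLinearGroup k M)) (F : Set (Subgroup (LinearMap.GeneralLinearGroup k M))) :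
    Prop where
  finite : F.Finite
  le : ∀ P ∈ F, P ≤ G
  normal : ∀ P ∈ F, G ≤ Subgroup.normalizer (P : Set (LinearMap.GeneralLinearGroup k M))
  commute : ∀ P ∈ F, ∀ Q ∈ F, P ≠ Q → ⁅P, Q⁆ = ⊥
  quasisimple : ∀ P ∈ F, IsQuasisimple ↥P
  generated : ∀ P ∈ F, Subgroup.closure (quadraticElements G ∩ (P : Set (LinearMap.GeneralLinearGroup k M))) = P
  cover : ∀ q ∈ quadraticElements G, ∃ P ∈ F, q ∈ P

section Module

variable {M : Type u} [AddCommGroup M] [Module k M] [FiniteDimensional k M]
variable {G : Subgroup (LinearMap.GeneralLinearGroup k M)}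

theorem exists_minimalQuadratic {q : LinearMap.GeneralLinearGroup k M} (hq : q ∈ quadraticElements G) :
    ∃ σ, σ ∈ minimalQuadraticElements G := by
  classical
  have hex : ∃ n, ∃ s ∈ quadraticElements G, commutatorRank s = n := ⟨_, q, hq, rfl⟩
  obtain ⟨s, hs, hn⟩ := Nat.find_spec hex
  exact ⟨s, hs, fun t ht => hn ▸ Nat.find_min' hex ⟨t, ht, rfl⟩⟩

/-- The quadratic elements centralizing `Σ(G)`. -/
def centralQuadratics (G : Subgroup (LinearMap.GeneralLinearGroup k M)) : Set (LinearMap.GeneralLinearGroup k M) :=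
  quadraticElements G ∩ Subgroup.centralizer (rootJoinQ G : Set (LinearMap.GeneralLinearGroup k M))

/-- The group they generate. -/
def centralPart (G : Subgroup (LinearMap.GeneralLinearGroup k M)) : Subgroup (LinearMap.GeneralLinearGroup k M) :=
  Subgroup.closure (centralQuadratics G)

theorem centralPart_le : centralPart G ≤ G := (Subgroup.closure_le _).2 fun _ h => h.1.1

theorem centralPart_centralizes :
    centralPart G ≤ Subgroup.centralizer (rootJoinQ G : Set (LinearMap.GeneralLinearGroup k M)) :=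
  (Subgroup.closure_le _).2 fun _ h => h.2

theorem le_sup_centralPart (h2 : (2 : k) ≠ 0) (h3 : Nat.card k ≠ 3) (hG : IsQuadraticPair G) :
    G ≤ rootJoinQ G ⊔ centralPart G := by
  conv_lhs => rw [← hG.2]
  refine (Subgroup.closure_le _).2 fun q hq => ?_
  rcases quadratic_cases h2 h3 hG hq with ⟨A, -, hA⟩ | hc
  · exact Subgroup.mem_sup_left (componentJoin_le_rootJoinQ A hA)
  · exact Subgroup.mem_sup_right (Subgroup.subset_closure ⟨hq, hc⟩)

/-- Two maps commuting with `Σ(G)` and agreeing on a submodule invariant under the central part are equal. -/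
theorem ext_of_agree (h2 : (2 : k) ≠ 0) (h3 : Nat.card k ≠ 3) (hG : IsQuadraticPair G) {W : Submodule k M}
    (hW : W ≠ ⊥) (hinv : ∀ h ∈ centralPart G, ∀ w ∈ W, (h : M →ₗ[k] M) w ∈ W) {f g : M →ₗ[k] M}
    (hf : ∀ u ∈ rootJoinQ G, f * (u : M →ₗ[k] M) = (u : M →ₗ[k] M) * f)
    (hg : ∀ u ∈ rootJoinQ G, g * (u : M →ₗ[k] M) = (u : M →ₗ[k] M) * g)
    (h : ∀ w ∈ W, f w = g w) : f = g := by
  let V : Submodule k M := ⨆ u ∈ rootJoinQ G, W.map (u : M →ₗ[k] M)
  have hle : ∀ u ∈ rootJoinQ G, W.map (u : M →ₗ[k] M) ≤ V := fun u hu => le_iSup₂_of_le u hu le_rfl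
  have hV : ∀ t ∈ G, ∀ w ∈ V, (t : M →ₗ[k] M) w ∈ V := by
    have hbase : ∀ t ∈ (rootJoinQ G : Set (LinearMap.GeneralLinearGroup k M)) ∪ centralPart G,
        ∀ w ∈ V, (t : M →ₗ[k] M) w ∈ V := by
      intro t ht w hw
      have : V ≤ V.comap (t : M →ₗ[k] M) := by
        refine iSup₂_le fun u hu => ?_
        rintro _ ⟨x, hx, rfl⟩
        show (t : M →ₗ[k] M) ((u : M →ₗ[k] M) x) ∈ V
        rw [← Module.End.mul_apply, ← Units.val_mul]
        rcases ht with ht | ht
        · exact hle _ (mul_mem ht hu) ⟨x, hx, rfl⟩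
        · rw [← Subgroup.mem_centralizer_iff.1 (centralPart_centralizes ht) u hu, Units.val_mul, Module.End.mul_apply]
          exact hle u hu ⟨_, hinv t ht x hx, rfl⟩
      exact this hw
    intro t ht
    have ht' := le_sup_centralPart h2 h3 hG ht
    rw [Subgroup.sup_eq_closure] at ht'
    induction ht' using Subgroup.closure_induction'' with
    | mem y hy => exact hbase y hy
    | inv_mem y hy => exact hbase y⁻¹ (hy.imp (fun h => inv_mem h) (fun h => inv_mem h))
    | one => intro w hw; rw [Units.val_one, Module.End.one_apply]; exact hw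
    | mul a b ha' hb' ha hb =>
      intro w hw
      have h0 : rootJoinQ G ⊔ centralPart G ≤ G := sup_le rootJoinQ_le centralPart_le
      rw [Subgroup.sup_eq_closure] at h0
      rw [Units.val_mul, Module.End.mul_apply]
      exact ha (h0 ha') _ (hb (h0 hb') w hw)
  rcases hG.1.2 V hV with h' | h'
  · refine absurd (eq_bot_iff.2 fun w hw => ?_) hW
    have := hle 1 (one_mem _) ⟨w, hw, rfl⟩
    rw [h'] at this
    simpa using this
  · refine LinearMap.ext fun m => ?_
    have hle' : V ≤ LinearMap.ker (f - g) := by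
      refine iSup₂_le fun u hu => ?_
      rintro _ ⟨x, hx, rfl⟩
      rw [LinearMap.mem_ker, LinearMap.sub_apply, ← Module.End.mul_apply, ← Module.End.mul_apply, hf u hu, hg u hu,
        Module.End.mul_apply, Module.End.mul_apply, h x hx, sub_self]
    have hm := hle' (h' ▸ Submodule.mem_top : m ∈ V)
    rwa [LinearMap.mem_ker, LinearMap.sub_apply, sub_eq_zero] at hm

/-- An element acting on an invariant submodule. -/
noncomputable def resHom (H : Subgroup (LinearMap.GeneralLinearGroup k M)) (W : Submodule k M)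
    (hinv : ∀ h ∈ H, ∀ w ∈ W, (h : M →ₗ[k] M) w ∈ W) : ↥H →* LinearMap.GeneralLinearGroup k W :=
  MonoidHom.toHomUnits
    { toFun := fun h => ((h : LinearMap.GeneralLinearGroup k M) : M →ₗ[k] M).restrict (hinv h h.2)
      map_one' := LinearMap.ext fun w => Subtype.ext rfl
      map_mul' := fun a b => LinearMap.ext fun w => Subtype.ext rfl }

theorem resHom_apply (H : Subgroup (LinearMap.GeneralLinearGroup k M)) (W : Submodule k M)
    (hinv : ∀ h ∈ H, ∀ w ∈ W, (h : M →ₗ[k] M) w ∈ W) (h : H) (w : W) :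
    (((resHom H W hinv h : LinearMap.GeneralLinearGroup k W) : W →ₗ[k] W) w : M) =
      ((h : LinearMap.GeneralLinearGroup k M) : M →ₗ[k] M) w := rfl

theorem centralPart_mul_comm {h : LinearMap.GeneralLinearGroup k M} (hh : h ∈ centralPart G)
    {u : LinearMap.GeneralLinearGroup k M} (hu : u ∈ rootJoinQ G) :
    (h : M →ₗ[k] M) * (u : M →ₗ[k] M) = (u : M →ₗ[k] M) * (h : M →ₗ[k] M) := by
  have e := congrArg Units.val (Subgroup.mem_centralizer_iff.1 (centralPart_centralizes hh) u hu)
  rw [Units.val_mul, Units.val_mul] at e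
  exact e.symm

theorem alpha_mul_comm {h : LinearMap.GeneralLinearGroup k M} (hh : h ∈ centralPart G)
    {u : LinearMap.GeneralLinearGroup k M} (hu : u ∈ rootJoinQ G) :
    alpha h * (u : M →ₗ[k] M) = (u : M →ₗ[k] M) * alpha h := by
  rw [alpha, sub_mul, mul_sub, one_mul, mul_one, centralPart_mul_comm hh hu]

theorem scaled_mem_centralQuadratics {q : LinearMap.GeneralLinearGroup k M} (hq : q ∈ centralQuadratics G)
    {t : k} (ht : t ≠ 0) :
    oneAdd (t • alpha q) (smul_sq (show alpha q * alpha q = 0 from hq.1.2.1.1) t) ∈ centralQuadratics G := by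
  have hsq : alpha q * alpha q = 0 := hq.1.2.1.1
  refine ⟨quadratic_of_family _ (smul_ne_zero ht hq.1.2.1.2) fun c => ?_, Subgroup.mem_centralizer_iff.2 fun u hu => ?_⟩
  · convert family_mem hq.1 (c * t) using 1
    exact Units.ext (by rw [oneAdd_val, oneAdd_val, smul_smul])
  · refine Units.ext ?_
    have hc := Subgroup.mem_centralizer_iff.1 hq.2 u hu
    have e := congrArg Units.val hc
    rw [Units.val_mul, Units.val_mul, alpha_add_one q, mul_add, add_mul, mul_one, one_mul] at e
    rw [Units.val_mul, Units.val_mul, oneAdd_val, mul_add, add_mul, mul_one, one_mul, mul_smul_comm, smul_mul_assoc,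
      add_left_cancel e]

variable (h2 : (2 : k) ≠ 0) (h3 : Nat.card k ≠ 3)
include h2 h3

theorem componentFactors (hG : IsQuadraticPair G) :
    (componentJoin G '' quadraticRootSubgroups G).Finite ∧
    ∀ P ∈ componentJoin G '' quadraticRootSubgroups G,
      P ≤ rootJoinQ G ∧ G ≤ Subgroup.normalizer (P : Set (LinearMap.GeneralLinearGroup k M)) ∧ IsQuasisimple ↥P ∧
      Subgroup.closure (quadraticElements G ∩ (P : Set (LinearMap.GeneralLinearGroup k M))) = P := by
  refine ⟨?_, ?_⟩
  · have e : componentJoin G '' quadraticRootSubgroups G =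
        (fun c : Set (Subgroup (LinearMap.GeneralLinearGroup k M)) => ⨆ B ∈ c, B) ''
          (component G '' quadraticRootSubgroups G) := by
      rw [Set.image_image]; rfl
    rw [e]
    exact (finite_components h2 h3 hG).image _
  rintro _ ⟨A, hA, rfl⟩
  refine ⟨componentJoin_le_rootJoinQ A, fun g hg => ?_, componentJoin_quasisimple h2 h3 hG hA, ?_⟩
  · rw [Subgroup.mem_normalizer_iff]
    refine fun u => ⟨fun hu => conj_mem_componentJoin h2 h3 hG A hg hu, fun hu => ?_⟩
    have := conj_mem_componentJoin h2 h3 hG A (inv_mem hg) hu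
    simpa [mul_assoc] using this
  · refine le_antisymm ((Subgroup.closure_le _).2 Set.inter_subset_right) (iSup₂_le fun B hB => ?_)
    have hBle := le_componentJoin hB
    obtain ⟨σ, hσ, rfl⟩ := hB.1
    exact (Subgroup.closure_le _).2 fun q hq =>
      Subgroup.subset_closure ⟨hq.1.1, hBle (Subgroup.subset_closure hq)⟩

end Module

theorem exists_centralFactors (h2 : (2 : k) ≠ 0) (h3 : Nat.card k ≠ 3) :
    ∀ (n : ℕ) {M : Type u} [AddCommGroup M] [Module k M] [FiniteDimensional k M]
      (G : Subgroup (LinearMap.GeneralLinearGroup k M)), Module.finrank k M = n → IsQuadraticPair G →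
      ∃ F, IsCentralFactors G F := by
  intro n
  induction n using Nat.strong_induction_on with
  | _ n ih =>
  intro M _ _ _ G hn hG
  classical
  by_cases hemp : ∀ q, q ∉ quadraticElements G
  · exact ⟨∅, Set.finite_empty, by simp, by simp, by simp, by simp, by simp, fun q hq => absurd hq (hemp q)⟩
  push Not at hemp
  obtain ⟨q₀, hq₀⟩ := hemp
  obtain ⟨σ, hσ⟩ := exists_minimalQuadratic hq₀
  set H := centralPart G with hH
  -- a minimal invariant submodule
  have hex : ∃ d, ∃ W : Submodule k M, W ≠ ⊥ ∧ (∀ h ∈ H, ∀ w ∈ W, (h : M →ₗ[k] M) w ∈ W) ∧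
      Module.finrank k W = d := by
    refine ⟨_, ⊤, fun h => ?_, fun _ _ _ _ => Submodule.mem_top, rfl⟩
    obtain ⟨m, hm⟩ := hG.1.1
    exact hm ((Submodule.mem_bot k).1 (h ▸ Submodule.mem_top))
  obtain ⟨W, hW0, hinv, hWd⟩ := Nat.find_spec hex
  have hmin : ∀ U : Submodule k M, U ≠ ⊥ → (∀ h ∈ H, ∀ w ∈ U, (h : M →ₗ[k] M) w ∈ U) → U ≤ W → U = W :=
    fun U h0 hi hle => Submodule.eq_of_le_of_finrank_le hle (hWd ▸ Nat.find_min' hex ⟨U, h0, hi, rfl⟩)
  have hlt : Module.finrank k W < n := by
    rw [← hn]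
    refine Submodule.finrank_lt fun htop => ?_
    have hσJ : σ ∈ rootJoinQ G := le_rootJoinQ ⟨σ, hσ, rfl⟩ (self_mem_sameAction hσ)
    have hrinv : ∀ h ∈ H, ∀ w ∈ LinearMap.range (alpha σ), (h : M →ₗ[k] M) w ∈ LinearMap.range (alpha σ) := by
      rintro h hh _ ⟨m, rfl⟩
      refine ⟨(h : M →ₗ[k] M) m, ?_⟩
      have e := centralPart_mul_comm hh hσJ
      rw [alpha_add_one σ, mul_add, add_mul, mul_one, one_mul] at e
      rw [← Module.End.mul_apply, ← Module.End.mul_apply, add_left_cancel e]
    have hne : LinearMap.range (alpha σ) ≠ ⊥ := fun e => alpha_ne_zero hσ (LinearMap.range_eq_bot.1 e)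
    have hr := hmin _ hne hrinv (htop ▸ le_top)
    rw [htop] at hr
    refine alpha_ne_zero hσ (LinearMap.ext fun m => ?_)
    obtain ⟨w, hw⟩ : m ∈ LinearMap.range (alpha σ) := hr ▸ Submodule.mem_top
    rw [← hw, ← Module.End.mul_apply, sq_of_min hσ]
    simp
  set res := resHom H W hinv with hres
  have hext : ∀ {f g : M →ₗ[k] M}, (∀ u ∈ rootJoinQ G, f * (u : M →ₗ[k] M) = (u : M →ₗ[k] M) * f) →
      (∀ u ∈ rootJoinQ G, g * (u : M →ₗ[k] M) = (u : M →ₗ[k] M) * g) → (∀ w ∈ W, f w = g w) → f = g :=
    fun hf hg h => ext_of_agree h2 h3 hG hW0 hinv hf hg h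
  have hinj : Function.Injective res := by
    intro a b hab
    refine Subtype.ext (Units.ext (hext (fun u hu => centralPart_mul_comm a.2 hu) (fun u hu => centralPart_mul_comm b.2 hu)
      fun w hw => ?_))
    exact congrArg (fun x : LinearMap.GeneralLinearGroup k W => (((x : W →ₗ[k] W) ⟨w, hw⟩ : W) : M)) hab
  have halpha : ∀ (h : H) (w : W), ((alpha (res h) w : W) : M) = alpha (h : LinearMap.GeneralLinearGroup k M) w :=
    fun h w => rfl
  set S : Set ↥H := (fun x : ↥H => (x : LinearMap.GeneralLinearGroup k M)) ⁻¹' centralQuadratics G with hS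
  have hSgen : Subgroup.closure S = ⊤ := Subgroup.closure_closure_coe_preimage
  have hfamH : ∀ {q : LinearMap.GeneralLinearGroup k M} (hq : q ∈ centralQuadratics G) (t : k),
      oneAdd (t • alpha q) (smul_sq (show alpha q * alpha q = 0 from hq.1.2.1.1) t) ∈ H := by
    intro q hq t
    rcases eq_or_ne t 0 with rfl | ht
    · convert one_mem H using 1
      exact Units.ext (by simp [oneAdd_val])
    · exact Subgroup.subset_closure (scaled_mem_centralQuadratics hq ht)
  have hto : ∀ q : ↥H, (q : LinearMap.GeneralLinearGroup k M) ∈ centralQuadratics G →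
      res q ∈ quadraticElements res.range := by
    intro q hq
    refine ⟨⟨q, rfl⟩, ⟨?_, ?_⟩, ?_⟩
    · refine LinearMap.ext fun w => Subtype.ext ?_
      show alpha (q : LinearMap.GeneralLinearGroup k M) (alpha (q : LinearMap.GeneralLinearGroup k M) w) = 0
      rw [← Module.End.mul_apply, show alpha (q : LinearMap.GeneralLinearGroup k M) * alpha _ = 0 from hq.1.2.1.1]
      rfl
    · intro h0
      refine hq.1.2.1.2 (hext (fun u hu => alpha_mul_comm q.2 hu) (fun u _ => by rw [zero_mul, mul_zero]) fun w hw => ?_)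
      exact congrArg (fun f : W →ₗ[k] W => ((f ⟨w, hw⟩ : W) : M)) h0
    · rintro x ⟨t, ht⟩
      refine ⟨⟨_, hfamH hq t⟩, Units.ext (LinearMap.ext fun w => Subtype.ext ?_)⟩
      rw [ht]
      rfl
  have hfrom : ∀ q : ↥H, res q ∈ quadraticElements res.range →
      (q : LinearMap.GeneralLinearGroup k M) ∈ centralQuadratics G := by
    intro q hq
    have hsq : alpha (q : LinearMap.GeneralLinearGroup k M) * alpha (q : LinearMap.GeneralLinearGroup k M) = 0 := by
      refine hext (fun u hu => ?_) (fun u _ => by rw [zero_mul, mul_zero]) fun w hw => ?_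
      · rw [mul_assoc, alpha_mul_comm q.2 hu, ← mul_assoc, alpha_mul_comm q.2 hu, mul_assoc]
      · exact congrArg (fun f : W →ₗ[k] W => ((f ⟨w, hw⟩ : W) : M)) hq.2.1.1
    have hne : alpha (q : LinearMap.GeneralLinearGroup k M) ≠ 0 := by
      intro h0
      refine hq.2.1.2 (LinearMap.ext fun w => Subtype.ext ?_)
      show alpha (q : LinearMap.GeneralLinearGroup k M) w = 0
      rw [h0]; rfl
    have hfam : ∀ t : k, oneAdd (t • alpha (q : LinearMap.GeneralLinearGroup k M)) (smul_sq hsq t) ∈ G := by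
      intro t
      have hm : oneAdd (t • alpha (res q)) (smul_sq (show alpha (res q) * alpha (res q) = 0 from hq.2.1.1) t) ∈
          res.range := hq.2.2 (oneAdd_mem_scalarFamily (show alpha (res q) * alpha (res q) = 0 from hq.2.1.1) t)
      obtain ⟨x, hx⟩ := hm
      have : (x : LinearMap.GeneralLinearGroup k M) = oneAdd (t • alpha (q : LinearMap.GeneralLinearGroup k M)) (smul_sq hsq t) := by
        refine Units.ext (hext (fun u hu => centralPart_mul_comm x.2 hu) (fun u hu => ?_) fun w hw => ?_)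
        · rw [oneAdd_val, add_mul, mul_add, one_mul, mul_one, smul_mul_assoc, mul_smul_comm, alpha_mul_comm q.2 hu]
        · exact congrArg (fun y : LinearMap.GeneralLinearGroup k W => (((y : W →ₗ[k] W) ⟨w, hw⟩ : W) : M)) hx
      rw [← this]
      exact centralPart_le x.2
    refine ⟨?_, centralPart_centralizes q.2⟩
    have h' := quadratic_of_family hsq hne hfam
    rwa [oneAdd_alpha] at h'
  have hpair : IsQuadraticPair res.range := by
    refine ⟨⟨?_, fun U hU => ?_⟩, le_antisymm ((Subgroup.closure_le _).2 fun x hx => hx.1) ?_⟩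
    · obtain ⟨m, hm, hm0⟩ := (Submodule.ne_bot_iff W).1 hW0
      exact ⟨⟨m, hm⟩, fun e => hm0 (congrArg Subtype.val e)⟩
    · refine or_iff_not_imp_left.2 fun hU0 => ?_
      have hinj' := Submodule.map_injective_of_injective (f := W.subtype) Subtype.val_injective
      have h := hmin (U.map W.subtype) (fun e => hU0 (hinj' (by rw [e, Submodule.map_bot]))) ?_ (Submodule.map_subtype_le W U)
      · exact hinj' (by rw [h, Submodule.map_top, Submodule.range_subtype])
      · rintro h hh _ ⟨w, hw, rfl⟩
        exact ⟨_, hU _ ⟨⟨h, hh⟩, rfl⟩ w hw, rfl⟩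
    · conv_lhs => rw [MonoidHom.range_eq_map, ← hSgen, MonoidHom.map_closure]
      rw [Subgroup.closure_le]
      rintro _ ⟨q, hq, rfl⟩
      exact Subgroup.subset_closure (hto q hq)
  obtain ⟨F0, hF0⟩ := ih _ hlt res.range rfl hpair
  let pull : Subgroup (LinearMap.GeneralLinearGroup k W) → Subgroup (LinearMap.GeneralLinearGroup k M) :=
    fun P => (P.comap res).map H.subtype
  have hpullH : ∀ P, pull P ≤ H := fun P => Subgroup.map_subtype_le _
  obtain ⟨hcf, hcp⟩ := componentFactors h2 h3 hG
  refine ⟨componentJoin G '' quadraticRootSubgroups G ∪ pull '' F0, hcf.union (hF0.finite.image _), ?_, ?_, ?_, ?_, ?_, ?_⟩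
  · rintro P (hP | ⟨P, hP, rfl⟩)
    · exact (hcp P hP).1.trans rootJoinQ_le
    · exact (hpullH P).trans centralPart_le
  · rintro P (hP | ⟨P, hP, rfl⟩)
    · exact (hcp P hP).2.1
    · refine (le_sup_centralPart h2 h3 hG).trans (sup_le ?_ ?_)
      · refine le_trans ?_ (Subgroup.centralizer_le_normalizer _)
        exact Subgroup.le_centralizer_iff.1 ((hpullH P).trans centralPart_centralizes)
      · intro h hh
        have hn' := Subgroup.mem_normalizer_iff.1 (hF0.normal P hP (⟨⟨h, hh⟩, rfl⟩ : res ⟨h, hh⟩ ∈ res.range))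
        rw [Subgroup.mem_normalizer_iff]
        intro u
        constructor
        · rintro ⟨x, hx, rfl⟩
          refine ⟨⟨h, hh⟩ * x * (⟨h, hh⟩ : ↥H)⁻¹, ?_, rfl⟩
          show res _ ∈ P
          rw [map_mul, map_mul, map_inv]
          exact (hn' _).1 hx
        · rintro ⟨x, hx, hxe⟩
          refine ⟨(⟨h, hh⟩ : ↥H)⁻¹ * x * ⟨h, hh⟩, ?_, ?_⟩
          · show res _ ∈ P
            rw [map_mul, map_mul, map_inv]
            exact (hn' _).2 (by simpa [mul_assoc] using hx)
          · have hxe' : (x : LinearMap.GeneralLinearGroup k M) = h * u * h⁻¹ := hxe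
            show h⁻¹ * (x : LinearMap.GeneralLinearGroup k M) * h = u
            rw [hxe']; group
  · rintro P (hP | ⟨P, hP, rfl⟩) Q (hQ | ⟨Q, hQ, rfl⟩) hne
    · obtain ⟨A, -, rfl⟩ := hP
      obtain ⟨B, -, rfl⟩ := hQ
      exact componentJoin_commute h2 h3 hG fun e => hne (by rw [componentJoin, e, ← componentJoin])
    · rw [Subgroup.commutator_comm, Subgroup.commutator_eq_bot_iff_le_centralizer]
      exact ((hpullH Q).trans centralPart_centralizes).trans (Subgroup.centralizer_le (hcp P hP).1)
    · rw [Subgroup.commutator_eq_bot_iff_le_centralizer]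
      exact ((hpullH P).trans centralPart_centralizes).trans (Subgroup.centralizer_le (hcp Q hQ).1)
    · show ⁅(P.comap res).map H.subtype, (Q.comap res).map H.subtype⁆ = ⊥
      rw [← Subgroup.map_commutator]
      have : ⁅P.comap res, Q.comap res⁆ = ⊥ := by
        apply Subgroup.map_injective hinj
        rw [Subgroup.map_commutator, Subgroup.map_bot, eq_bot_iff, ← hF0.commute P hP Q hQ (fun e => hne (by rw [e]))]
        exact Subgroup.commutator_mono (Subgroup.map_comap_le _ _) (Subgroup.map_comap_le _ _)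
      rw [this, Subgroup.map_bot]
  · rintro P (hP | ⟨P, hP, rfl⟩)
    · exact (hcp P hP).2.2.1
    · have e : (P.comap res).map res = P := Subgroup.map_comap_eq_self (hF0.le P hP)
      exact Coprime.isQuasisimple_congr
        ((((P.comap res).equivMapOfInjective res hinj).trans (MulEquiv.subgroupCongr e)).symm.trans
          ((P.comap res).equivMapOfInjective H.subtype H.subtype_injective)) (hF0.quasisimple P hP)
  · rintro P (hP | ⟨P, hP, rfl⟩)
    · exact (hcp P hP).2.2.2
    · refine le_antisymm ((Subgroup.closure_le _).2 Set.inter_subset_right) ?_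
      rintro _ ⟨x, hx, rfl⟩
      have hle : quadraticElements res.range ∩ (P : Set (LinearMap.GeneralLinearGroup k W)) ⊆
          res '' {y : ↥H | (y : LinearMap.GeneralLinearGroup k M) ∈ quadraticElements G ∧
            (y : LinearMap.GeneralLinearGroup k M) ∈ pull P} := by
        rintro z ⟨hz, hzP⟩
        obtain ⟨y, rfl⟩ := hz.1
        exact ⟨y, ⟨(hfrom y hz).1, y, hzP, rfl⟩, rfl⟩
      have hx' : res x ∈ (Subgroup.closure {y : ↥H | (y : LinearMap.GeneralLinearGroup k M) ∈ quadraticElements G ∧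
            (y : LinearMap.GeneralLinearGroup k M) ∈ pull P}).map res := by
        rw [MonoidHom.map_closure]
        refine Subgroup.closure_mono hle ?_
        rw [hF0.generated P hP]
        exact hx
      obtain ⟨y, hy, hye⟩ := hx'
      rw [← hinj hye]
      have hy' := Subgroup.mem_map_of_mem H.subtype hy
      rw [MonoidHom.map_closure] at hy'
      refine Subgroup.closure_mono ?_ hy'
      rintro _ ⟨w, hw, rfl⟩
      exact hw
  · intro q hq
    rcases quadratic_cases h2 h3 hG hq with ⟨A, hA, hqA⟩ | hc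
    · exact ⟨_, Or.inl ⟨A, hA, rfl⟩, hqA⟩
    · have hqH : q ∈ H := Subgroup.subset_closure ⟨hq, hc⟩
      obtain ⟨P, hP, hqP⟩ := hF0.cover _ (hto ⟨q, hqH⟩ ⟨hq, hc⟩)
      exact ⟨pull P, Or.inr ⟨P, hP, rfl⟩, ⟨q, hqH⟩, hqP, rfl⟩

end CfsgLib.QuadPair
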