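import Cfsg.Agent.Lib.QuadPair.Pure

/-!
# The three kinds of pairs of root subgroups
-/

set_option autoImplicit false

namespace CfsgLib.QuadPair

open Cfsg Polynomial
open scoped commutatorElement

variable {k : Type*} [Field k] {M : Type*} [AddCommGroup M] [Module k M] [FiniteDimensional k M]
variable {G : Subgroup (LinearMap.GeneralLinearGroup k M)} {σ τ : LinearMap.GeneralLinearGroup k M}

theorem actSpace_eq_of_mem (hσ : σ ∈ minimalQuadraticElements G) {u : LinearMap.GeneralLinearGroup k M}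
    (hu : alpha u ∈ actSpace G σ (sq_of_min hσ)) (hne : alpha u ≠ 0) (hu' : alpha u * alpha u = 0) :
    actSpace G u hu' = actSpace G σ (sq_of_min hσ) := by
  have hc := mem_class_of_actSpace hσ hu hne
  have h1 : LinearMap.ker (alpha u) = LinearMap.ker (alpha σ) := hc.2.1
  have h2 : LinearMap.range (alpha u) = LinearMap.range (alpha σ) := hc.2.2
  refine Submodule.ext fun γ => ?_
  show (_ ∧ _ ∧ _) ↔ (_ ∧ _ ∧ _)
  rw [h1, h2]

theorem commutatorElement_val {u v : LinearMap.GeneralLinearGroup k M} (hu : alpha u * alpha u = 0)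
    (hv : alpha v * alpha v = 0) (h : IsNilPair (alpha u) (alpha v)) :
    alpha ⁅u, v⁆ = bracket (alpha u) (alpha v) := by
  rw [commutatorElement_def, alpha, commutator_val hu hv h, add_sub_cancel_left]

theorem comm_of_bracket_zero {u v : LinearMap.GeneralLinearGroup k M} (h : bracket (alpha u) (alpha v) = 0) :
    u * v = v * u := by
  refine Units.ext ?_
  have h' : alpha u * alpha v = alpha v * alpha u := sub_eq_zero.1 h
  rw [Units.val_mul, Units.val_mul, alpha_add_one u, alpha_add_one v]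
  simp only [add_mul, mul_add, one_mul, mul_one, h']
  abel

theorem bracket_of_comm {u v : LinearMap.GeneralLinearGroup k M} (h : u * v = v * u) :
    bracket (alpha u) (alpha v) = 0 := by
  have h' := congrArg (Units.val) h
  rw [Units.val_mul, Units.val_mul, alpha_add_one u, alpha_add_one v] at h'
  simp only [add_mul, mul_add, one_mul, mul_one] at h'
  have h'' : alpha u * alpha v - alpha v * alpha u =
      (1 + alpha u + (alpha v + alpha u * alpha v)) - (1 + alpha v + (alpha u + alpha v * alpha u)) := by abel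
  rw [bracket, h'', h', sub_self]

/-- Commutators of a group generated by pieces commuting modulo a central subgroup. -/
theorem commutator_le_of_central {Γ : Type*} [Group Γ] {S : Set Γ} {Z : Subgroup Γ}
    (hcomm : ∀ a ∈ S, ∀ b ∈ S, ⁅a, b⁆ ∈ Z) (hcen : ∀ z ∈ Z, ∀ a ∈ S, a * z = z * a) :
    ⁅Subgroup.closure S, Subgroup.closure S⁆ ≤ Z := by
  have hcenX : ∀ z ∈ Z, ∀ x ∈ Subgroup.closure S, x * z = z * x := by
    intro z hz x hx
    induction hx using Subgroup.closure_induction with
    | mem y hy => exact hcen z hz y hy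
    | one => simp
    | mul a b _ _ ha hb => rw [mul_assoc, hb, ← mul_assoc, ha, mul_assoc]
    | inv a _ ha => exact (Commute.inv_left (ha : Commute a z))
  have key1 : ∀ b ∈ S, ∀ x ∈ Subgroup.closure S, ⁅x, b⁆ ∈ Z := by
    intro b hb x hx
    induction hx using Subgroup.closure_induction with
    | mem y hy => exact hcomm y hy b hb
    | one => simp
    | mul a c ha' _ ha hc =>
      have e : ⁅a * c, b⁆ = a * ⁅c, b⁆ * a⁻¹ * ⁅a, b⁆ := by simp only [commutatorElement_def]; group
      rw [e, hcenX _ hc a ha', mul_inv_cancel_right]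
      exact mul_mem hc ha
    | inv a ha' ha =>
      have e : ⁅a⁻¹, b⁆ = a⁻¹ * ⁅a, b⁆⁻¹ * a := by simp only [commutatorElement_def]; group
      rw [e, hcenX _ (inv_mem ha) a⁻¹ (inv_mem ha'), inv_mul_cancel_right]
      exact inv_mem ha
  refine Subgroup.commutator_le.2 fun x hx y hy => ?_
  induction hy using Subgroup.closure_induction with
  | mem b hb => exact key1 b hb x hx
  | one => simp
  | mul a c ha' _ ha hc =>
    have e : ⁅x, a * c⁆ = ⁅x, a⁆ * (a * ⁅x, c⁆ * a⁻¹) := by simp only [commutatorElement_def]; group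
    rw [e, hcenX _ hc a ha', mul_inv_cancel_right]
    exact mul_mem ha hc
  | inv a ha' ha =>
    have e : ⁅x, a⁻¹⁆ = a⁻¹ * ⁅x, a⁆⁻¹ * a := by simp only [commutatorElement_def]; group
    rw [e, hcenX _ (inv_mem ha) a⁻¹ (inv_mem ha'), inv_mul_cancel_right]
    exact inv_mem ha

variable (h2 : (2 : k) ≠ 0) (h3 : Nat.card k ≠ 3)
include h2 h3

theorem comm_of_comm_pair (hσ : σ ∈ minimalQuadraticElements G) (hτ : τ ∈ minimalQuadraticElements G)
    (hn : IsNilPair (alpha σ) (alpha τ)) (h : bracket (alpha σ) (alpha τ) = 0) :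
    ∀ u ∈ sameActionSubgroup G σ, ∀ v ∈ sameActionSubgroup G τ, u * v = v * u := by
  intro u hu v hv
  by_cases hu1 : u = 1
  · subst hu1; simp
  by_cases hv1 : v = 1
  · subst hv1; simp
  refine comm_of_bracket_zero ?_
  by_contra hne
  obtain ⟨hu', hEu⟩ := sameAction_eq_of_mem hσ hu hu1
  obtain ⟨hv', hEv⟩ := sameAction_eq_of_mem hτ hv hv1
  exact (bracket_class h2 h3 hu' hv' (hn.of_class h2 h3 hσ hτ hu hv) hne
    (hEu ▸ self_mem_sameAction hσ) (hEv ▸ self_mem_sameAction hτ)).2
    (fun e => alpha_ne_zero hσ (by rw [e, alpha_one])) (fun e => alpha_ne_zero hτ (by rw [e, alpha_one])) h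

theorem commutator_mem (hσ : σ ∈ minimalQuadraticElements G) (hτ : τ ∈ minimalQuadraticElements G)
    (hn : IsNilPair (alpha σ) (alpha τ)) (hne : bracket (alpha σ) (alpha τ) ≠ 0)
    {u v : LinearMap.GeneralLinearGroup k M} (hu : u ∈ sameActionSubgroup G σ) (hv : v ∈ sameActionSubgroup G τ) :
    ⁅u, v⁆ ∈ sameActionSubgroup G (commElt σ τ) := by
  refine (mem_sameAction_iff (commData hσ hτ hn hne).mem).2 ?_
  rw [commutatorElement_val (alpha_mul_sameAction hσ hu hu) (alpha_mul_sameAction hτ hv hv)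
    (hn.of_class h2 h3 hσ hτ hu hv)]
  exact (bracket_class h2 h3 hσ hτ hn hne hu hv).1

/-- Every member of `E(ε)` is a commutator `[σ, f]`. -/
theorem commutator_surj (hG : IsQuadraticPair G) (hσ : σ ∈ minimalQuadraticElements G)
    (hτ : τ ∈ minimalQuadraticElements G) (hn : IsNilPair (alpha σ) (alpha τ))
    (hne : bracket (alpha σ) (alpha τ) ≠ 0) {z : LinearMap.GeneralLinearGroup k M}
    (hz : z ∈ sameActionSubgroup G (commElt σ τ)) : ∃ f ∈ sameActionSubgroup G τ, ⁅σ, f⁆ = z := by
  have D := commData hσ hτ hn hne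
  let L : ↥(actSpace G τ (sq_of_min hτ)) →ₗ[k] ↥(actSpace G (commElt σ τ) (sq_of_min D.mem)) :=
    { toFun := fun γ => ⟨bracket (alpha σ) γ.1, by
        have := (bracket_class h2 h3 hσ hτ hn hne (self_mem_sameAction hσ) (oneAdd_mem_sameAction hτ γ.2)).1
        simpa [alpha, oneAdd_val] using this⟩
      map_add' := fun x y => Subtype.ext (by simp [bracket, add_mul, mul_add]; abel)
      map_smul' := fun c x => Subtype.ext (by simp [bracket, smul_sub]) }
  have hinj : Function.Injective L := by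
    rw [← LinearMap.ker_eq_bot, LinearMap.ker_eq_bot']
    rintro ⟨γ, hγ⟩ h0
    by_contra hγ0
    exact (bracket_class h2 h3 hσ hτ hn hne (self_mem_sameAction hσ) (oneAdd_mem_sameAction hτ hγ)).2
      (fun e => alpha_ne_zero hσ (by rw [e, alpha_one]))
      (fun e => hγ0 (Subtype.ext (by simpa [alpha, oneAdd_val] using congrArg alpha e)))
      (by simpa [alpha, oneAdd_val, L] using congrArg Subtype.val h0)
  have hne' : bracket (alpha τ) (alpha σ) ≠ 0 := by rw [bracket_swap, neg_ne_zero]; exact hne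
  have D' := commData hτ hσ hn.symm hne'
  have hle := bracket_surjective h2 h3 hG hτ hσ hn.symm hne' D'.mem
  have heq : actSpace G (commElt τ σ) (sq_of_min D'.mem) = actSpace G (commElt σ τ) (sq_of_min D.mem) := by
    refine Submodule.ext fun γ => ?_
    show (_ ∧ _ ∧ _) ↔ (_ ∧ _ ∧ _)
    rw [D'.eq, D.eq, bracket_swap, LinearMap.range_neg, LinearMap.ker_neg]
  rw [heq] at hle
  obtain ⟨⟨γ, hγ⟩, hγe⟩ := ((LinearMap.injective_iff_surjective_of_finrank_eq_finrank
    (le_antisymm (LinearMap.finrank_le_finrank_of_injective hinj) hle)).1 hinj) ⟨alpha z, (mem_sameAction_iff D.mem).1 hz⟩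
  have hγe' : bracket (alpha σ) γ = alpha z := congrArg Subtype.val hγe
  have hmem := oneAdd_mem_sameAction hτ hγ
  refine ⟨_, hmem, Units.ext ?_⟩
  rw [alpha_add_one ⁅σ, oneAdd γ _⁆, alpha_add_one z,
    commutatorElement_val (sq_of_min hσ) (alpha_mul_sameAction hτ hmem hmem)
      (hn.of_class h2 h3 hσ hτ (self_mem_sameAction hσ) hmem), ← hγe']
  congr 2
  simp [alpha, oneAdd_val]

theorem commutator_closure (hG : IsQuadraticPair G) (hσ : σ ∈ minimalQuadraticElements G)
    (hτ : τ ∈ minimalQuadraticElements G) (hn : IsNilPair (alpha σ) (alpha τ))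
    (hne : bracket (alpha σ) (alpha τ) ≠ 0) {e : LinearMap.GeneralLinearGroup k M}
    (he : e ∈ sameActionSubgroup G σ) (he1 : e ≠ 1) :
    Subgroup.closure ((fun f : LinearMap.GeneralLinearGroup k M => e * f * e⁻¹ * f⁻¹) ''
      (sameActionSubgroup G τ : Set (LinearMap.GeneralLinearGroup k M))) = sameActionSubgroup G (commElt σ τ) := by
  obtain ⟨he', hEe⟩ := sameAction_eq_of_mem hσ he he1
  have D := commData hσ hτ hn hne
  refine le_antisymm ((Subgroup.closure_le _).2 ?_) fun z hz => ?_
  · rintro _ ⟨f, hf, rfl⟩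
    exact commutator_mem h2 h3 hσ hτ hn hne he hf
  · have hn' := hn.of_class h2 h3 hσ hτ he (self_mem_sameAction hτ)
    obtain ⟨hin, hne'⟩ := bracket_class h2 h3 hσ hτ hn hne he (self_mem_sameAction hτ)
    have hne'' := hne' he1 (fun e => alpha_ne_zero hτ (by rw [e, alpha_one]))
    have De := commData he' hτ hn' hne''
    have hEq : sameActionSubgroup G (commElt e τ) = sameActionSubgroup G (commElt σ τ) :=
      (sameAction_eq_of_mem D.mem ((mem_sameAction_iff D.mem).2 (by rw [De.eq]; exact hin))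
        fun h => alpha_ne_zero De.mem (by rw [h, alpha_one])).2
    rw [← hEq] at hz
    obtain ⟨f, hf, rfl⟩ := commutator_surj h2 h3 hG he' hτ hn' hne'' hz
    exact Subgroup.subset_closure ⟨f, hf, rfl⟩

/-- **The class two case.** -/
theorem class_two (hG : IsQuadraticPair G) (hσ : σ ∈ minimalQuadraticElements G)
    (hτ : τ ∈ minimalQuadraticElements G) (hn : IsNilPair (alpha σ) (alpha τ))
    (hne : bracket (alpha σ) (alpha τ) ≠ 0) :
    let E := sameActionSubgroup G σ
    let F := sameActionSubgroup G τ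
    ⁅E, F⁆ = sameActionSubgroup G (commElt σ τ) ∧ ⁅E, F⁆ ∈ quadraticRootSubgroups G ∧
    (∀ e ∈ E, e ≠ 1 → Subgroup.closure ((fun f : LinearMap.GeneralLinearGroup k M => e * f * e⁻¹ * f⁻¹) ''
      (F : Set (LinearMap.GeneralLinearGroup k M))) = ⁅E, F⁆) ∧
    (∀ f ∈ F, f ≠ 1 → Subgroup.closure ((fun e : LinearMap.GeneralLinearGroup k M => e * f * e⁻¹ * f⁻¹) ''
      (E : Set (LinearMap.GeneralLinearGroup k M))) = ⁅E, F⁆) ∧
    ⁅E ⊔ F, E ⊔ F⁆ ≠ ⊥ ∧ ⁅⁅E ⊔ F, E ⊔ F⁆, E ⊔ F⁆ = ⊥ ∧
    ((E ⊔ F : Subgroup (LinearMap.GeneralLinearGroup k M)) : Set (LinearMap.GeneralLinearGroup k M)) ⊆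
      quadraticUnipotentCore G ⁅E, F⁆ := by
  intro E F
  have D := commData hσ hτ hn hne
  set ε := commElt σ τ with hεdef
  set Z := sameActionSubgroup G ε
  have hne' : bracket (alpha τ) (alpha σ) ≠ 0 := by rw [bracket_swap, neg_ne_zero]; exact hne
  have D' := commData hτ hσ hn.symm hne'
  have hZ' : sameActionSubgroup G (commElt τ σ) = Z := by
    refine (sameAction_eq_of_mem D.mem ((mem_sameAction_iff D.mem).2 ?_) fun h => alpha_ne_zero D'.mem (by rw [h, alpha_one])).2
    rw [D'.eq, bracket_swap, ← D.eq]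
    exact neg_mem (alpha_mem_actSpace D.mem)
  have hEF : ⁅E, F⁆ = Z := by
    refine le_antisymm (Subgroup.commutator_le.2 fun u hu v hv => commutator_mem h2 h3 hσ hτ hn hne hu hv)
      fun z hz => ?_
    obtain ⟨f, hf, rfl⟩ := commutator_surj h2 h3 hG hσ hτ hn hne hz
    exact Subgroup.commutator_mem_commutator (self_mem_sameAction hσ) hf
  have hεσ : alpha σ * alpha ε = 0 ∧ alpha ε * alpha σ = 0 := by rw [D.eq]; exact bracket_left (sq_of_min hσ) hn
  have hετ : alpha τ * alpha ε = 0 ∧ alpha ε * alpha τ = 0 := by rw [D.eq]; exact bracket_right (sq_of_min hτ) hn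
  have hkill : ∀ {ρ : LinearMap.GeneralLinearGroup k M}, (hρ : ρ ∈ minimalQuadraticElements G) →
      alpha ρ * alpha ε = 0 → alpha ε * alpha ρ = 0 → ∀ u ∈ sameActionSubgroup G ρ, ∀ z ∈ Z,
      alpha u * alpha z = 0 ∧ alpha z * alpha u = 0 := by
    intro ρ hρ h1 h4 u hu z hz
    have hu' := (mem_sameAction_iff hρ).1 hu
    have hz' := (mem_sameAction_iff D.mem).1 hz
    constructor <;> refine LinearMap.ext fun m => ?_
    · obtain ⟨w, hw⟩ := hz'.1 (LinearMap.mem_range_self _ m)
      rw [Module.End.mul_apply, ← hw, LinearMap.zero_apply]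
      refine LinearMap.mem_ker.1 (hu'.2.1 ?_)
      rw [LinearMap.mem_ker, ← Module.End.mul_apply, h1, LinearMap.zero_apply]
    · obtain ⟨w, hw⟩ := hu'.1 (LinearMap.mem_range_self _ m)
      rw [Module.End.mul_apply, ← hw, LinearMap.zero_apply]
      refine LinearMap.mem_ker.1 (hz'.2.1 ?_)
      rw [LinearMap.mem_ker, ← Module.End.mul_apply, h4, LinearMap.zero_apply]
  have hcen : ∀ z ∈ Z, ∀ x ∈ (E : Set (LinearMap.GeneralLinearGroup k M)) ∪ F, x * z = z * x := by
    intro z hz x hx
    refine comm_of_bracket_zero ?_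
    rcases hx with hx | hx
    · obtain ⟨a, b⟩ := hkill hσ hεσ.1 hεσ.2 x hx z hz; rw [bracket, a, b, sub_zero]
    · obtain ⟨a, b⟩ := hkill hτ hετ.1 hετ.2 x hx z hz; rw [bracket, a, b, sub_zero]
  have hXX : ⁅E ⊔ F, E ⊔ F⁆ = Z := by
    refine le_antisymm ?_ (hEF ▸ Subgroup.commutator_mono le_sup_left le_sup_right)
    rw [Subgroup.sup_eq_closure]
    refine commutator_le_of_central ?_ hcen
    rintro a (ha | ha) b (hb | hb)
    · rw [commutatorElement_eq_one_iff_mul_comm.2 (sameAction_comm hσ ha hb)]; exact one_mem _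
    · exact commutator_mem h2 h3 hσ hτ hn hne ha hb
    · rw [← commutatorElement_inv]; exact inv_mem (commutator_mem h2 h3 hσ hτ hn hne hb ha)
    · rw [commutatorElement_eq_one_iff_mul_comm.2 (sameAction_comm hτ ha hb)]; exact one_mem _
  have hcenX : ∀ z ∈ Z, ∀ x ∈ E ⊔ F, x * z = z * x := by
    intro z hz x hx
    rw [Subgroup.sup_eq_closure] at hx
    induction hx using Subgroup.closure_induction with
    | mem y hy => exact hcen z hz y hy
    | one => simp
    | mul a b _ _ ha hb => rw [mul_assoc, hb, ← mul_assoc, ha, mul_assoc]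
    | inv a _ ha => exact (Commute.inv_left (ha : Commute a z))
  refine ⟨hEF, ⟨ε, D.mem, hEF⟩, fun e he he1 => ?_, fun f hf hf1 => ?_, ?_, ?_, ?_⟩
  · rw [hEF]; exact commutator_closure h2 h3 hG hσ hτ hn hne he he1
  · rw [hEF]
    refine le_antisymm ((Subgroup.closure_le _).2 ?_) ?_
    · rintro _ ⟨u, hu, rfl⟩
      exact commutator_mem h2 h3 hσ hτ hn hne hu hf
    · rw [← hZ', ← commutator_closure h2 h3 hG hτ hσ hn.symm hne' hf hf1, Subgroup.closure_le]
      rintro _ ⟨u, hu, rfl⟩
      have h : u * f * u⁻¹ * f⁻¹ ∈ Subgroup.closure ((fun e : LinearMap.GeneralLinearGroup k M => e * f * e⁻¹ * f⁻¹) ''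
          (E : Set (LinearMap.GeneralLinearGroup k M))) := Subgroup.subset_closure ⟨u, hu, rfl⟩
      have h' := inv_mem h
      simpa [mul_assoc] using h'
  · rw [hXX]
    intro h
    have hz : ε ∈ Z := self_mem_sameAction D.mem
    have : ε ∈ (⊥ : Subgroup (LinearMap.GeneralLinearGroup k M)) := h ▸ hz
    exact alpha_ne_zero D.mem (by rw [Subgroup.mem_bot.1 this, alpha_one])
  · rw [hXX, Subgroup.commutator_eq_bot_iff_le_centralizer]
    exact fun z hz => Subgroup.mem_centralizer_iff.2 fun x hx => hcenX z hz x hx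
  · rw [hEF]
    have hfix : fixedSubmodule Z = LinearMap.ker (alpha ε) :=
      le_antisymm (iInf₂_le ε (self_mem_sameAction D.mem)) (le_iInf₂ fun g hg => ((mem_sameAction_iff D.mem).1 hg).2.1)
    have hcs : commutatorSubmodule Z = LinearMap.range (alpha ε) :=
      le_antisymm (iSup₂_le fun g hg => ((mem_sameAction_iff D.mem).1 hg).1)
        (le_iSup₂_of_le ε (self_mem_sameAction D.mem) le_rfl)
    intro g hg
    obtain ⟨hr, hk⟩ := alpha_sup_fixed hσ hτ hg
    have hsub : ∀ y ∈ (E ⊔ F : Subgroup (LinearMap.GeneralLinearGroup k M)), ∀ m ∈ LinearMap.ker (alpha ε),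
        alpha y m ∈ LinearMap.range (alpha ε) := by
      intro y hy
      have hrk : ∀ z, LinearMap.range (alpha ε) ≤ LinearMap.ker (alpha z) ∨ z ∉ (E ⊔ F : Subgroup _) := by
        intro z
        by_cases hz : z ∈ (E ⊔ F : Subgroup (LinearMap.GeneralLinearGroup k M))
        · left
          refine le_trans (le_inf ?_ ?_) (alpha_sup_fixed hσ hτ hz).2 <;>
            · rintro _ ⟨m, rfl⟩
              rw [LinearMap.mem_ker, ← Module.End.mul_apply]
              first | rw [hεσ.1, LinearMap.zero_apply] | rw [hετ.1, LinearMap.zero_apply]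
        · exact Or.inr hz
      rw [Subgroup.sup_eq_closure] at hy
      induction hy using Subgroup.closure_induction with
      | mem y hy =>
        intro m hm
        rw [D.ker_eq] at hm
        rcases hy with hy | hy
        · obtain ⟨p, hp, q, ⟨n, rfl⟩, rfl⟩ := Submodule.mem_sup.1 hm.1
          have hp0 : alpha y p = 0 := LinearMap.mem_ker.1 (((mem_sameAction_iff hσ).1 hy).2.1 hp)
          rw [map_add, hp0, zero_add, D.range_eq]
          refine Submodule.mem_sup_left ⟨((mem_sameAction_iff hσ).1 hy).1 ⟨_, rfl⟩, ?_⟩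
          show alpha y (alpha τ n) ∈ LinearMap.ker (alpha τ)
          rw [LinearMap.mem_ker, ← Module.End.mul_apply, ← Module.End.mul_apply,
            (hn.of_class h2 h3 hσ hτ hy (self_mem_sameAction hτ)).2, LinearMap.zero_apply]
        · obtain ⟨p, hp, q, ⟨n, rfl⟩, rfl⟩ := Submodule.mem_sup.1 hm.2
          have hp0 : alpha y p = 0 := LinearMap.mem_ker.1 (((mem_sameAction_iff hτ).1 hy).2.1 hp)
          rw [map_add, hp0, zero_add, D.range_eq]
          refine Submodule.mem_sup_right ⟨((mem_sameAction_iff hτ).1 hy).1 ⟨_, rfl⟩, ?_⟩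
          show alpha y (alpha σ n) ∈ LinearMap.ker (alpha σ)
          rw [LinearMap.mem_ker, ← Module.End.mul_apply, ← Module.End.mul_apply,
            (hn.of_class h2 h3 hσ hτ (self_mem_sameAction hσ) hy).1, LinearMap.zero_apply]
      | one => intro m _; rw [alpha_one, LinearMap.zero_apply]; exact zero_mem _
      | mul a b ha' hb' ha hb =>
        intro m hm
        rw [alpha_mul, LinearMap.add_apply, LinearMap.add_apply, Module.End.mul_apply]
        refine add_mem (add_mem ?_ (ha m hm)) (hb m hm)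
        rw [LinearMap.mem_ker.1 (((hrk a).resolve_right (by rw [Subgroup.sup_eq_closure]; exact not_not_intro ha')) (hb m hm))]
        exact zero_mem _
      | inv a ha' ha =>
        intro m hm
        obtain ⟨w, hw⟩ := ha m hm
        have hz := (hrk a⁻¹).resolve_right (by rw [Subgroup.sup_eq_closure]; exact not_not_intro (inv_mem ha'))
        have e : alpha a⁻¹ m = -(((a⁻¹ : LinearMap.GeneralLinearGroup k M) : M →ₗ[k] M) (alpha a m)) := by
          rw [alpha, alpha, LinearMap.sub_apply, LinearMap.sub_apply, map_sub, inv_apply_apply, Module.End.one_apply]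
          abel
        rw [e, ← hw, alpha_add_one a⁻¹, LinearMap.add_apply, LinearMap.mem_ker.1 (hz ⟨w, rfl⟩), add_zero]
        exact neg_mem ⟨w, rfl⟩
    refine ⟨?_, ?_, fun m => ?_, fun m hm => ?_, fun m hm => ?_⟩
    · exact (sup_le (sameAction_le hσ) (sameAction_le hτ) : E ⊔ F ≤ G) hg
    · rw [Subgroup.mem_normalizer_iff]
      intro z
      constructor
      · intro hz
        rwa [hcenX z hz g hg, mul_inv_cancel_right]
      · intro hz
        have h := hcenX _ hz g⁻¹ (inv_mem hg)
        have : z = g * z * g⁻¹ := by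
          calc z = g⁻¹ * (g * z * g⁻¹) * g := by group
            _ = g * z * g⁻¹ := by rw [h]; group
        rw [this]; exact hz
    · rw [hfix]
      obtain ⟨p, hp, q, hq, hpq⟩ := Submodule.mem_sup.1 (hr (LinearMap.mem_range_self (alpha g) m))
      show alpha g m ∈ LinearMap.ker (alpha ε)
      rw [← hpq]
      refine add_mem ?_ ?_
      · obtain ⟨n, rfl⟩ := hp; rw [LinearMap.mem_ker, ← Module.End.mul_apply, hεσ.2, LinearMap.zero_apply]
      · obtain ⟨n, rfl⟩ := hq; rw [LinearMap.mem_ker, ← Module.End.mul_apply, hετ.2, LinearMap.zero_apply]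
    · rw [hcs]; exact hsub g hg m (hfix ▸ hm)
    · rw [hcs] at hm
      have : alpha g m = 0 := by
        refine LinearMap.mem_ker.1 (hk ?_)
        obtain ⟨n, rfl⟩ := hm
        constructor <;> show alpha ε n ∈ LinearMap.ker _ <;> rw [LinearMap.mem_ker, ← Module.End.mul_apply]
        · rw [hεσ.1, LinearMap.zero_apply]
        · rw [hετ.1, LinearMap.zero_apply]
      rw [alpha_add_one g, LinearMap.add_apply, this, add_zero]; rfl

theorem not_sep_of_central (hσ : σ ∈ minimalQuadraticElements G) (hτ : τ ∈ minimalQuadraticElements G) {f : k[X]}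
    (hf : IsSepPair (alpha σ) (alpha τ) f)
    (h : ⁅⁅sameActionSubgroup G σ ⊔ sameActionSubgroup G τ, sameActionSubgroup G σ ⊔ sameActionSubgroup G τ⁆,
      sameActionSubgroup G σ ⊔ sameActionSubgroup G τ⁆ = ⊥) : False := by
  set X := sameActionSubgroup G σ ⊔ sameActionSubgroup G τ with hX
  obtain ⟨v, hv, e1, e2, hv1⟩ := hf.exists_opposite h2 h3 hσ hτ
  have hb := braid (sq_of_min hσ) (alpha_mul_sameAction hτ hv hv) e1 e2
  have hσX : σ ∈ X := Subgroup.mem_sup_left (self_mem_sameAction hσ)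
  have hvX : v⁻¹ ∈ X := inv_mem (Subgroup.mem_sup_right hv)
  -- `σ v` is central
  have hc : ⁅σ, v⁻¹⁆ ∈ ⁅X, X⁆ := Subgroup.commutator_mem_commutator hσX hvX
  rw [Subgroup.commutator_eq_bot_iff_le_centralizer] at h
  have hcen : ∀ x ∈ X, x * ⁅σ, v⁻¹⁆ = ⁅σ, v⁻¹⁆ * x := fun x hx => Subgroup.mem_centralizer_iff.1 (h hc) x hx
  set c := ⁅σ, v⁻¹⁆ with hcdef
  have h7 : σ * v⁻¹ = c * v⁻¹ * σ := by rw [hcdef, commutatorElement_def]; group
  have h6 : c * v⁻¹ * (σ * σ) = c * v⁻¹ * (v⁻¹ * σ) := by
    calc c * v⁻¹ * (σ * σ) = σ * v⁻¹ * σ := by rw [h7, mul_assoc (c * v⁻¹)]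
      _ = v⁻¹ * σ * v⁻¹ := hb
      _ = v⁻¹ * (c * v⁻¹ * σ) := by rw [← h7, mul_assoc]
      _ = c * v⁻¹ * (v⁻¹ * σ) := by
        rw [← mul_assoc v⁻¹, ← mul_assoc v⁻¹ c, hcen _ hvX, mul_assoc (c * v⁻¹)]
  have h8 : σ = v⁻¹ := mul_right_cancel (mul_left_cancel h6)
  have := (isSpecialRankOnePair h2 h3 hσ hτ hf).1.ne
  exact this ((sameAction_eq_of_mem hσ (h8 ▸ self_mem_sameAction hσ) (inv_ne_one.2 hv1)).2.symm.trans
    (sameAction_eq_of_mem hτ (inv_mem hv) (inv_ne_one.2 hv1)).2)

theorem root_pair_cases (hσ : σ ∈ minimalQuadraticElements G) (hτ : τ ∈ minimalQuadraticElements G) :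
    ⁅sameActionSubgroup G σ, sameActionSubgroup G τ⁆ = ⊥ ∨
      (IsNilPair (alpha σ) (alpha τ) ∧ bracket (alpha σ) (alpha τ) ≠ 0) ∨
      ∃ f, IsSepPair (alpha σ) (alpha τ) f := by
  rcases dichotomy_root h2 h3 hσ hτ with h | h
  · by_cases hb : bracket (alpha σ) (alpha τ) = 0
    · refine Or.inl ?_
      rw [Subgroup.commutator_eq_bot_iff_le_centralizer]
      exact fun u hu => Subgroup.mem_centralizer_iff.2 fun v hv => (comm_of_comm_pair h2 h3 hσ hτ h hb u hu v hv).symm
    · exact Or.inr (Or.inl ⟨h, hb⟩)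
  · exact Or.inr (Or.inr h)

theorem sep_not_unipotent (hσ : σ ∈ minimalQuadraticElements G) (hτ : τ ∈ minimalQuadraticElements G) {f : k[X]}
    (hf : IsSepPair (alpha σ) (alpha τ) f) :
    ¬ IsUnipotentOn (sameActionSubgroup G σ ⊔ sameActionSubgroup G τ) := by
  intro hu
  obtain ⟨v, hv, e1, e2, hv1⟩ := hf.exists_opposite h2 h3 hσ hτ
  obtain ⟨n, hn⟩ := (unipotent_iff _).1 hu
  have key : ∀ j : ℕ, (List.map alpha (List.replicate j σ ++ [])).length = j := fun j => by simp
  have hpow : ∀ j : ℕ, (alpha σ * alpha v) ^ (j + 1) * alpha σ = alpha σ := by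
    intro j
    induction j with
    | zero => simpa using e1
    | succ j ih => rw [pow_succ', mul_assoc, ih]; exact e1
  have hzero : ∀ j : ℕ, ∀ l : List (LinearMap.GeneralLinearGroup k M), l = (List.replicate j [σ, v]).flatten →
      (∀ g ∈ l, g ∈ sameActionSubgroup G σ ⊔ sameActionSubgroup G τ) ∧ l.length = 2 * j ∧
      (l.map alpha).prod = (alpha σ * alpha v) ^ j := by
    intro j
    induction j with
    | zero => intro l hl; subst hl; simp
    | succ j ih =>
      intro l hl
      subst hl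
      obtain ⟨a, b, c⟩ := ih _ rfl
      rw [List.replicate_succ, List.flatten_cons]
      refine ⟨fun g hg => ?_, ?_, ?_⟩
      · rcases List.mem_append.1 hg with hg | hg
        · simp only [List.mem_cons, List.not_mem_nil, or_false] at hg
          rcases hg with rfl | rfl
          · exact Subgroup.mem_sup_left (self_mem_sameAction hσ)
          · exact Subgroup.mem_sup_right hv
        · exact a g hg
      · rw [List.length_append, b]; simp; omega
      · rw [List.map_append, List.prod_append, c, pow_succ']; simp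
  obtain ⟨a, b, c⟩ := hzero (n + 1) _ rfl
  have hsplit := List.take_append_drop n ((List.replicate (n + 1) [σ, v]).flatten)
  have h0 := hn (((List.replicate (n + 1) [σ, v]).flatten).take n) (fun g hg => a g (List.mem_of_mem_take hg))
    (by rw [List.length_take, b]; omega)
  rw [← hsplit, List.map_append, List.prod_append, h0, zero_mul] at c
  have := hpow n
  rw [← c, zero_mul] at this
  exact alpha_ne_zero hσ this.symm

/-- The criterion for commuting. -/
theorem commute_criterion (hG : IsQuadraticPair G) (hσ : σ ∈ minimalQuadraticElements G)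
    (hτ : τ ∈ minimalQuadraticElements G)
    (h : (∃ e ∈ sameActionSubgroup G σ, e ≠ 1 ∧ ∃ f ∈ sameActionSubgroup G τ, f ≠ 1 ∧ e * f = f * e) ∨
      sameActionSubgroup G σ ⊓
        Subgroup.normalizer (sameActionSubgroup G τ : Set (LinearMap.GeneralLinearGroup k M)) ≠ ⊥) :
    ⁅sameActionSubgroup G σ, sameActionSubgroup G τ⁆ = ⊥ := by
  rcases root_pair_cases h2 h3 hσ hτ with hc | ⟨hn, hne⟩ | ⟨f, hf⟩
  · exact hc
  · exfalso
    rcases h with ⟨e, he, he1, w, hw, hw1, hew⟩ | h
    · exact (bracket_class h2 h3 hσ hτ hn hne he hw).2 he1 hw1 (bracket_of_comm hew)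
    · obtain ⟨e, he, he1⟩ := (Subgroup.bot_or_exists_ne_one _).resolve_left h
      obtain ⟨heE, heN⟩ := Subgroup.mem_inf.1 he
      have hτ1 : τ ≠ 1 := fun e => alpha_ne_zero hτ (by rw [e, alpha_one])
      have hz1 : ⁅e, τ⁆ ∈ sameActionSubgroup G τ := by
        rw [commutatorElement_def]
        exact mul_mem ((Subgroup.mem_normalizer_iff.1 heN τ).1 (self_mem_sameAction hτ)) (inv_mem (self_mem_sameAction hτ))
      have hz2 := commutator_mem h2 h3 hσ hτ hn hne heE (self_mem_sameAction hτ)
      have hz : ⁅e, τ⁆ ≠ 1 := fun h1 => (bracket_class h2 h3 hσ hτ hn hne heE (self_mem_sameAction hτ)).2 he1 hτ1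
        (bracket_of_comm (commutatorElement_eq_one_iff_mul_comm.1 h1))
      have D := commData hσ hτ hn hne
      have heq := (sameAction_eq_of_mem hτ hz1 hz).2.symm.trans (sameAction_eq_of_mem D.mem hz2 hz).2
      have hτZ : alpha τ ∈ actSpace G (commElt σ τ) (sq_of_min D.mem) :=
        (mem_sameAction_iff D.mem).1 (heq ▸ self_mem_sameAction hτ)
      have h1 : alpha σ * alpha τ = 0 := LinearMap.ext fun m => by
        obtain ⟨w, hw⟩ := hτZ.1 (LinearMap.mem_range_self _ m)
        rw [Module.End.mul_apply, ← hw, ← Module.End.mul_apply, D.eq, (bracket_left (sq_of_min hσ) hn).1,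
          LinearMap.zero_apply, LinearMap.zero_apply]
      have h4 : alpha τ * alpha σ = 0 := LinearMap.ext fun m => by
        rw [Module.End.mul_apply, LinearMap.zero_apply]
        refine LinearMap.mem_ker.1 (hτZ.2.1 ?_)
        rw [LinearMap.mem_ker, ← Module.End.mul_apply, D.eq, (bracket_left (sq_of_min hσ) hn).2, LinearMap.zero_apply]
      exact hne (by rw [bracket, h1, h4, sub_zero])
  · exfalso
    rcases h with ⟨e, he, he1, w, hw, hw1, hew⟩ | h
    · obtain ⟨g, hg⟩ := hf.of_class h2 h3 hσ hτ he hw he1 hw1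
      obtain ⟨he', -⟩ := sameAction_eq_of_mem hσ he he1
      obtain ⟨hw', -⟩ := sameAction_eq_of_mem hτ hw hw1
      have hcomm : alpha e * alpha w = alpha w * alpha e := sub_eq_zero.1 (bracket_of_comm hew)
      have hnil : IsNilPair (alpha e) (alpha w) :=
        ⟨by rw [hcomm, mul_assoc, sq_of_min he', mul_zero], by rw [← hcomm, mul_assoc, sq_of_min hw', mul_zero]⟩
      exact hnil.not_geom (alpha_ne_zero hw') hg.rank_eq hg.left_geom hg.right_geom
    · obtain ⟨e, he, he1⟩ := (Subgroup.bot_or_exists_ne_one _).resolve_left h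
      obtain ⟨heE, heN⟩ := Subgroup.mem_inf.1 he
      have hs := isSpecialRankOnePair h2 h3 hσ hτ hf
      obtain ⟨b, hb, hb1, hconj⟩ := hs.1.cond_left e heE he1
      have hF : conjBy (sameActionSubgroup G τ) e⁻¹ = sameActionSubgroup G τ := by
        have hn' := inv_mem heN
        ext y
        constructor
        · rintro ⟨z, hz, rfl⟩
          exact (Subgroup.mem_normalizer_iff.1 hn' z).1 hz
        · intro hy
          exact ⟨e * y * e⁻¹, (Subgroup.mem_normalizer_iff.1 heN y).1 hy, by simp [mul_assoc]⟩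
      rw [hF] at hconj
      have h5 := congrArg (fun A => conjBy A b) hconj
      simp only [conjBy_conjBy, mul_inv_cancel, conjBy_one, conjBy_self_sameAction hτ hb] at h5
      exact hs.1.ne h5

end CfsgLib.QuadPair
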