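import Cfsg.Agent.Lib.QuadPair.RootSet
import Cfsg.Agent.Lib.RootSub.Partner
import Cfsg.Agent.S5036

/-!
# The components of `Σ(G)` in the graph of rank one pairs
-/

set_option autoImplicit false

namespace CfsgLib.QuadPair

open Cfsg Polynomial
open scoped commutatorElement

variable {k : Type*} [Field k] {M : Type*} [AddCommGroup M] [Module k M] [FiniteDimensional k M]
variable {G : Subgroup (LinearMap.GeneralLinearGroup k M)}

/-- The component of `A` in `Σ(G)`. -/
def component (G : Subgroup (LinearMap.GeneralLinearGroup k M)) (A : Subgroup (LinearMap.GeneralLinearGroup k M)) :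
    Set (Subgroup (LinearMap.GeneralLinearGroup k M)) :=
  componentOf (FAdj (quadraticRootSubgroups G)) (quadraticRootSubgroups G) A

/-- The subgroup generated by the component of `A`. -/
def componentJoin (G : Subgroup (LinearMap.GeneralLinearGroup k M)) (A : Subgroup (LinearMap.GeneralLinearGroup k M)) :
    Subgroup (LinearMap.GeneralLinearGroup k M) :=
  ⨆ B ∈ component G A, B

/-- The subgroup generated by all members of `Σ(G)`. -/
def rootJoinQ (G : Subgroup (LinearMap.GeneralLinearGroup k M)) : Subgroup (LinearMap.GeneralLinearGroup k M) :=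
  ⨆ A ∈ quadraticRootSubgroups G, A

theorem mem_component_self {A : Subgroup (LinearMap.GeneralLinearGroup k M)} (hA : A ∈ quadraticRootSubgroups G) :
    A ∈ component G A := ⟨hA, .refl⟩

theorem component_subset {A B : Subgroup (LinearMap.GeneralLinearGroup k M)} (h : B ∈ component G A) :
    B ∈ quadraticRootSubgroups G := h.1

theorem component_eq_of_mem {A B : Subgroup (LinearMap.GeneralLinearGroup k M)} (h : B ∈ component G A) :
    component G B = component G A := by
  ext C
  exact ⟨fun hC => ⟨hC.1, h.2.trans hC.2⟩, fun hC => ⟨hC.1, (RootSub.reach_symm h.2).trans hC.2⟩⟩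

theorem le_componentJoin {A B : Subgroup (LinearMap.GeneralLinearGroup k M)} (h : B ∈ component G A) :
    B ≤ componentJoin G A := le_iSup₂_of_le B h le_rfl

theorem componentJoin_le_rootJoinQ (A : Subgroup (LinearMap.GeneralLinearGroup k M)) :
    componentJoin G A ≤ rootJoinQ G := iSup₂_le fun B hB => le_iSup₂_of_le B hB.1 le_rfl

theorem le_rootJoinQ {A : Subgroup (LinearMap.GeneralLinearGroup k M)} (hA : A ∈ quadraticRootSubgroups G) :
    A ≤ rootJoinQ G := le_iSup₂_of_le A hA le_rfl

theorem componentJoin_le (A : Subgroup (LinearMap.GeneralLinearGroup k M)) : componentJoin G A ≤ G :=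
  iSup₂_le fun _ hB => quadraticRoot_le hB.1

variable (h2 : (2 : k) ≠ 0) (h3 : Nat.card k ≠ 3)
include h2 h3

theorem isRootSubgroupSet_all (hG : IsQuadraticPair G) :
    IsRootSubgroupSet ((fun A : Subgroup (LinearMap.GeneralLinearGroup k M) => A.subgroupOf (rootJoinQ G)) ''
      quadraticRootSubgroups G) := by
  refine isRootSubgroupSet_subgroupOf rfl (fun A hA => quadraticRoot_comm hA) (fun A hA => quadraticRoot_ne_bot hA)
    (fun A hA g hg => conjBy_mem_quadraticRoot hA (iSup_quadraticRoot_le hg)) (fun A hA B hB => ?_)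
  rcases root_trichotomy h2 h3 hG hA hB with h | h | h
  · exact Or.inl h
  · exact Or.inr (Or.inl h.1)
  · exact Or.inr (Or.inr h)

theorem nonIso_all (hG : IsQuadraticPair G) :
    ∀ U ∈ (fun A : Subgroup (LinearMap.GeneralLinearGroup k M) => A.subgroupOf (rootJoinQ G)) ''
      quadraticRootSubgroups G,
    RootSub.NonIso ((fun A : Subgroup (LinearMap.GeneralLinearGroup k M) => A.subgroupOf (rootJoinQ G)) ''
      quadraticRootSubgroups G) U := by
  rintro _ ⟨A, hA, rfl⟩
  obtain ⟨g, -, hgm, hp⟩ := exists_rankOne_partner h2 h3 hG hA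
  exact ⟨_, ⟨_, hgm, rfl⟩,
    rankOnePair_subgroupOf (le_iSup₂_of_le A hA le_rfl) (le_iSup₂_of_le _ hgm le_rfl) hp⟩

omit h2 h3 in
theorem reach_map {U V : Subgroup ↥(rootJoinQ G)}
    (h : Relation.ReflTransGen (FAdj ((fun A : Subgroup (LinearMap.GeneralLinearGroup k M) =>
      A.subgroupOf (rootJoinQ G)) '' quadraticRootSubgroups G)) U V) :
    Relation.ReflTransGen (FAdj (quadraticRootSubgroups G)) (U.map (rootJoinQ G).subtype)
      (V.map (rootJoinQ G).subtype) := by
  induction h with
  | refl => exact .refl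
  | tail _ h ih =>
    obtain ⟨⟨A, hA, rfl⟩, ⟨B, hB, rfl⟩, hp⟩ := h
    have hAX : A ≤ rootJoinQ G := le_iSup₂_of_le A hA le_rfl
    have hBX : B ≤ rootJoinQ G := le_iSup₂_of_le B hB le_rfl
    simp only at ih hp ⊢
    rw [map_subgroupOf_le hAX] at ih
    rw [map_subgroupOf_le hBX]
    exact ih.tail ⟨hA, hB, rankOnePair_of_subgroupOf hAX hBX hp⟩

/-- A component is invariant under conjugation by the group generated by `Σ(G)`. -/
theorem conjBy_mem_component (hG : IsQuadraticPair G) {A B : Subgroup (LinearMap.GeneralLinearGroup k M)}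
    (hB : B ∈ component G A) {g : LinearMap.GeneralLinearGroup k M} (hg : g ∈ rootJoinQ G) :
    conjBy B g ∈ component G A := by
  have hgm := conjBy_mem_quadraticRoot hB.1 (iSup_quadraticRoot_le hg : g ∈ G)
  have h := reach_map (RootSub.reach_conj (isRootSubgroupSet_all h2 h3 hG) ⟨B, hB.1, rfl⟩
    (nonIso_all h2 h3 hG _ ⟨B, hB.1, rfl⟩) ⟨g, hg⟩)
  rw [conjBy_subgroupOf, map_subgroupOf_le (le_rootJoinQ hgm)] at h
  simp only at h
  rw [map_subgroupOf_le (le_rootJoinQ hB.1)] at h
  exact ⟨hgm, hB.2.trans h⟩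

/-- The commutator case stays inside one component. -/
theorem case_component (hG : IsQuadraticPair G) {A B : Subgroup (LinearMap.GeneralLinearGroup k M)}
    (hA : A ∈ quadraticRootSubgroups G) (hB : B ∈ quadraticRootSubgroups G)
    (h : RootCommutatorCase (quadraticRootSubgroups G) A B) :
    ⁅A, B⁆ ∈ component G A ∧ B ∈ component G A := by
  have key : ∀ {A B : Subgroup (LinearMap.GeneralLinearGroup k M)}, A ∈ quadraticRootSubgroups G →
      B ∈ quadraticRootSubgroups G → RootCommutatorCase (quadraticRootSubgroups G) A B →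
      Relation.ReflTransGen (FAdj (quadraticRootSubgroups G)) A ⁅A, B⁆ := by
    intro A B hA hB h
    have hS := isRootSubgroupSet_all h2 h3 hG
    have hnon := nonIso_all h2 h3 hG
    have hAX : A ≤ rootJoinQ G := le_iSup₂_of_le A hA le_rfl
    have hBX : B ≤ rootJoinQ G := le_iSup₂_of_le B hB le_rfl
    have hk := rootCommutatorCase_subgroupOf hAX hBX h
    obtain ⟨D, hD, hDC⟩ := RootSub.opposite hS hnon ⟨A, hA, rfl⟩ ⟨B, hB, rfl⟩ hk
    obtain ⟨-, hset, -⟩ := Cfsg.Agent.S5036.result hS ⟨A, hA, rfl⟩ ⟨B, hB, rfl⟩ hk.1 hD hDC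
    obtain ⟨x, -, hx⟩ : ⁅A.subgroupOf (rootJoinQ G), B.subgroupOf (rootJoinQ G)⁆ ∈
        {E | ∃ x ∈ B.subgroupOf (rootJoinQ G) ⊔ D, E = conjBy (A.subgroupOf (rootJoinQ G)) x} := by
      rw [hset]
      exact ⟨1, one_mem _, (RootSub.conjBy_one _).symm⟩
    have hr := RootSub.reach_conj hS ⟨A, hA, rfl⟩ (hnon _ ⟨A, hA, rfl⟩) x
    rw [← hx] at hr
    have hr' := reach_map hr
    rwa [map_subgroupOf_le hAX, commutator_subgroupOf hAX hBX,
      map_subgroupOf_le (le_rootJoinQ h.1)] at hr'
  have h1 := key hA hB h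
  have h4 := key hB hA (RootSub.case_symm h)
  rw [Subgroup.commutator_comm B A] at h4
  exact ⟨⟨h.1, h1⟩, hB, h1.trans (RootSub.reach_symm h4)⟩

/-- Members of different components commute. -/
theorem commute_of_not_mem (hG : IsQuadraticPair G) {A B : Subgroup (LinearMap.GeneralLinearGroup k M)}
    (hA : A ∈ quadraticRootSubgroups G) (hB : B ∈ quadraticRootSubgroups G) (h : B ∉ component G A) :
    ⁅A, B⁆ = ⊥ := by
  rcases root_trichotomy h2 h3 hG hA hB with h' | h' | h'
  · exact h'
  · exact absurd ⟨hB, .single ⟨hA, hB, h'.1⟩⟩ h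
  · exact absurd (case_component h2 h3 hG hA hB h').2 h

theorem componentJoin_commute (hG : IsQuadraticPair G) {A B : Subgroup (LinearMap.GeneralLinearGroup k M)}
    (h : component G A ≠ component G B) : ⁅componentJoin G A, componentJoin G B⁆ = ⊥ := by
  rw [Subgroup.commutator_eq_bot_iff_le_centralizer]
  refine iSup₂_le fun A' hA' => Subgroup.le_centralizer_iff.1 (iSup₂_le fun B' hB' => ?_)
  refine Subgroup.le_centralizer_iff.1 ?_
  rw [← Subgroup.commutator_eq_bot_iff_le_centralizer]
  exact commute_of_not_mem h2 h3 hG hA'.1 hB'.1 fun hm =>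
    h ((component_eq_of_mem hA').symm.trans ((component_eq_of_mem hm).symm.trans (component_eq_of_mem hB')))

omit h2 h3 in
theorem exists_elem {A : Subgroup (LinearMap.GeneralLinearGroup k M)} (hA : A ∈ quadraticRootSubgroups G) :
    ∃ a ∈ A, a ≠ 1 :=
  (Subgroup.bot_or_exists_ne_one A).resolve_left (quadraticRoot_ne_bot hA)

/-- Two members commute as soon as two of their elements do. -/
theorem commute_of_elem (hG : IsQuadraticPair G) {A B : Subgroup (LinearMap.GeneralLinearGroup k M)}
    (hA : A ∈ quadraticRootSubgroups G) (hB : B ∈ quadraticRootSubgroups G)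
    {a b : LinearMap.GeneralLinearGroup k M} (ha : a ∈ A) (ha1 : a ≠ 1) (hb : b ∈ B) (hb1 : b ≠ 1)
    (h : a * b = b * a) : ⁅A, B⁆ = ⊥ := by
  obtain ⟨σ, hσ, rfl⟩ := hA
  obtain ⟨τ, hτ, rfl⟩ := hB
  exact commute_criterion h2 h3 hG hσ hτ (Or.inl ⟨a, ha, ha1, b, hb, hb1, h⟩)

theorem exists_partner_component (hG : IsQuadraticPair G) {A : Subgroup (LinearMap.GeneralLinearGroup k M)}
    (hA : A ∈ quadraticRootSubgroups G) : ∃ B ∈ component G A, IsRankOnePair A B := by
  obtain ⟨g, -, hgm, hp⟩ := exists_rankOne_partner h2 h3 hG hA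
  exact ⟨_, ⟨hgm, .single ⟨hA, hgm, hp⟩⟩, hp⟩

/-- A member meeting the join of a component belongs to the component. -/
theorem mem_component_of_mem (hG : IsQuadraticPair G) {A D : Subgroup (LinearMap.GeneralLinearGroup k M)}
    (hD : D ∈ quadraticRootSubgroups G) {z : LinearMap.GeneralLinearGroup k M} (hz : z ∈ D) (hz1 : z ≠ 1)
    (hzK : z ∈ componentJoin G A) : D ∈ component G A := by
  by_contra hDA
  obtain ⟨Q, hQ, hDQ⟩ := exists_partner_component h2 h3 hG hD
  obtain ⟨q, hq, hq1⟩ := exists_elem hQ.1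
  refine RootSub.not_commutator_bot hDQ (commute_of_elem h2 h3 hG hD hQ.1 hz hz1 hq hq1 ?_)
  have hb := componentJoin_commute h2 h3 hG (A := A) (B := D) fun e => hDA (e ▸ mem_component_self hD)
  exact RootSub.commute_of_commutator_eq_bot hb hzK (le_componentJoin hQ hq)

/-- An element opposite to `σ`, in the component of `E(σ)`. -/
theorem exists_opposite_component (hG : IsQuadraticPair G) {σ : LinearMap.GeneralLinearGroup k M}
    (hσ : σ ∈ minimalQuadraticElements G) :
    ∃ v ∈ minimalQuadraticElements G, alpha σ * alpha v * alpha σ = alpha σ ∧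
      alpha v * alpha σ * alpha v = alpha v ∧
      sameActionSubgroup G v ∈ component G (sameActionSubgroup G σ) := by
  obtain ⟨v, hv, e1, e2⟩ := exists_opposite' h2 h3 hG hσ
  refine ⟨v, hv, e1, e2, by_contra fun hn => alpha_ne_zero hσ ?_⟩
  have hb := commute_of_not_mem h2 h3 hG ⟨σ, hσ, rfl⟩ ⟨v, hv, rfl⟩ hn
  have hc : alpha σ * alpha v = alpha v * alpha σ := sub_eq_zero.1 (bracket_of_comm
    (RootSub.commute_of_commutator_eq_bot hb (self_mem_sameAction hσ) (self_mem_sameAction hv)))
  rw [← e1, hc, mul_assoc, sq_of_min hσ, mul_zero]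

/-- There are only finitely many components. -/
theorem finite_components (hG : IsQuadraticPair G) :
    (component G '' quadraticRootSubgroups G).Finite := by
  classical
  let ι := {c // c ∈ component G '' quadraticRootSubgroups G}
  have hch : ∀ c : ι, ∃ σ v, σ ∈ minimalQuadraticElements G ∧ v ∈ minimalQuadraticElements G ∧
      alpha σ * alpha v * alpha σ = alpha σ ∧ component G (sameActionSubgroup G σ) = c.1 ∧
      component G (sameActionSubgroup G v) = c.1 := by
    rintro ⟨_, A, ⟨σ, hσ, rfl⟩, rfl⟩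
    obtain ⟨v, hv, e1, -, hc⟩ := exists_opposite_component h2 h3 hG hσ
    exact ⟨σ, v, hσ, hv, e1, rfl, component_eq_of_mem hc⟩
  choose σ v hσ hv e1 hcσ hcv using hch
  have hli : LinearIndependent k (fun c : ι => alpha (σ c)) := by
    rw [linearIndependent_iff']
    intro s g hs i hi
    have hD := congrArg (fun x : M →ₗ[k] M => x * alpha (v i) - alpha (v i) * x) hs
    simp only [Finset.sum_mul, Finset.mul_sum, zero_mul, mul_zero, sub_zero, ← Finset.sum_sub_distrib,
      smul_mul_assoc, mul_smul_comm, ← smul_sub] at hD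
    rw [Finset.sum_eq_single i (fun j _ hji => ?_) (fun h => absurd hi h)] at hD
    · refine (smul_eq_zero.1 hD).resolve_right fun h0 => alpha_ne_zero (hσ i) ?_
      rw [← e1 i, sub_eq_zero.1 h0, mul_assoc, sq_of_min (hσ i), mul_zero]
    · have hne : component G (sameActionSubgroup G (σ j)) ≠ component G (sameActionSubgroup G (v i)) := by
        rw [hcσ, hcv]
        exact fun e => hji (Subtype.ext e)
      have hb := commute_of_not_mem h2 h3 hG ⟨σ j, hσ j, rfl⟩ ⟨v i, hv i, rfl⟩ fun hm =>
        hne (component_eq_of_mem hm).symm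
      have hc : alpha (σ j) * alpha (v i) - alpha (v i) * alpha (σ j) = 0 := bracket_of_comm
        (RootSub.commute_of_commutator_eq_bot hb (self_mem_sameAction (hσ j)) (self_mem_sameAction (hv i)))
      rw [hc, smul_zero]
  haveI : Finite ι := hli.finite
  exact Set.toFinite _

/-- A component is a set of root subgroups of the group it generates. -/
theorem isRootSubgroupSet_component (hG : IsQuadraticPair G) (A : Subgroup (LinearMap.GeneralLinearGroup k M)) :
    IsRootSubgroupSet ((fun B : Subgroup (LinearMap.GeneralLinearGroup k M) => B.subgroupOf (componentJoin G A)) ''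
      component G A) := by
  refine isRootSubgroupSet_subgroupOf rfl (fun B hB => quadraticRoot_comm hB.1)
    (fun B hB => quadraticRoot_ne_bot hB.1)
    (fun B hB g hg => conjBy_mem_component h2 h3 hG hB (componentJoin_le_rootJoinQ A hg)) (fun B hB C hC => ?_)
  rcases root_trichotomy h2 h3 hG hB.1 hC.1 with h | h | h
  · exact Or.inl h
  · exact Or.inr (Or.inl h.1)
  · have hm := (case_component h2 h3 hG hB.1 hC.1 h).1
    rw [component_eq_of_mem hB] at hm
    exact Or.inr (Or.inr ⟨hm, h.2⟩)

omit h2 h3 in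
theorem connected_component (A : Subgroup (LinearMap.GeneralLinearGroup k M)) :
    IsConnectedFamily
      (FAdj ((fun B : Subgroup (LinearMap.GeneralLinearGroup k M) => B.subgroupOf (componentJoin G A)) '' component G A))
      ((fun B : Subgroup (LinearMap.GeneralLinearGroup k M) => B.subgroupOf (componentJoin G A)) '' component G A) := by
  rintro _ ⟨B, hB, rfl⟩ _ ⟨C, hC, rfl⟩
  have hBC : Relation.ReflTransGen (FAdj (quadraticRootSubgroups G)) B C :=
    (RootSub.reach_symm hB.2).trans hC.2
  clear hC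
  induction hBC with
  | refl => exact .refl
  | tail h1 h' ih =>
    have hm : _ ∈ component G A := ⟨h'.1, hB.2.trans h1⟩
    have hm' : _ ∈ component G A := ⟨h'.2.1, (hB.2.trans h1).tail h'⟩
    exact ih.tail ⟨⟨_, hm, rfl⟩, ⟨_, hm', rfl⟩,
      rankOnePair_subgroupOf (le_componentJoin hm) (le_componentJoin hm') h'.2.2⟩

theorem isRootSubgroupClass_component (hG : IsQuadraticPair G) {A : Subgroup (LinearMap.GeneralLinearGroup k M)}
    (hA : A ∈ quadraticRootSubgroups G) :
    IsRootSubgroupClass ((fun B : Subgroup (LinearMap.GeneralLinearGroup k M) => B.subgroupOf (componentJoin G A)) ''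
      component G A) :=
  ⟨isRootSubgroupSet_component h2 h3 hG A, ⟨_, A, mem_component_self hA, rfl⟩,
    fun U hU V hV => RootSub.reach_isConj (connected_component A U hU V hV)⟩

end CfsgLib.QuadPair
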