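import Cfsg.Agent.Lib.QuadPair.SameAction

/-!
# Conjugation and flags
-/

set_option autoImplicit false

namespace CfsgLib.QuadPair

open Cfsg

variable {k : Type*} [Field k] {M : Type*} [AddCommGroup M] [Module k M]

theorem alpha_conj (g x : LinearMap.GeneralLinearGroup k M) :
    alpha (g * x * g⁻¹) = (g : M →ₗ[k] M) * alpha x * ((g⁻¹ : LinearMap.GeneralLinearGroup k M) : M →ₗ[k] M) := by
  simp only [alpha, mul_sub, sub_mul, mul_one, Units.val_mul, Units.mul_inv]

theorem inv_apply_apply (g : LinearMap.GeneralLinearGroup k M) (m : M) :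
    ((g⁻¹ : LinearMap.GeneralLinearGroup k M) : M →ₗ[k] M) ((g : M →ₗ[k] M) m) = m := by
  rw [← Module.End.mul_apply, Units.inv_mul, Module.End.one_apply]

theorem apply_inv_apply (g : LinearMap.GeneralLinearGroup k M) (m : M) :
    (g : M →ₗ[k] M) (((g⁻¹ : LinearMap.GeneralLinearGroup k M) : M →ₗ[k] M) m) = m := by
  rw [← Module.End.mul_apply, Units.mul_inv, Module.End.one_apply]

theorem range_alpha_conj (g x : LinearMap.GeneralLinearGroup k M) :
    LinearMap.range (alpha (g * x * g⁻¹)) = (LinearMap.range (alpha x)).map (g : M →ₗ[k] M) := by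
  refine le_antisymm ?_ ?_
  · rintro _ ⟨m, rfl⟩
    exact ⟨_, LinearMap.mem_range_self (alpha x) _, by rw [alpha_conj]; rfl⟩
  · rintro _ ⟨_, ⟨m, rfl⟩, rfl⟩
    exact ⟨(g : M →ₗ[k] M) m, by rw [alpha_conj, Module.End.mul_apply, Module.End.mul_apply, inv_apply_apply]⟩

theorem mem_ker_alpha_conj (g x : LinearMap.GeneralLinearGroup k M) (m : M) :
    m ∈ LinearMap.ker (alpha (g * x * g⁻¹)) ↔
      ((g⁻¹ : LinearMap.GeneralLinearGroup k M) : M →ₗ[k] M) m ∈ LinearMap.ker (alpha x) := by
  rw [LinearMap.mem_ker, LinearMap.mem_ker, alpha_conj, Module.End.mul_apply, Module.End.mul_apply]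
  constructor
  · intro h
    have := congrArg (((g⁻¹ : LinearMap.GeneralLinearGroup k M) : M →ₗ[k] M)) h
    rwa [inv_apply_apply, map_zero] at this
  · intro h; rw [h, map_zero]

theorem commutatorRank_conj [FiniteDimensional k M] (g x : LinearMap.GeneralLinearGroup k M) :
    commutatorRank (g * x * g⁻¹) = commutatorRank x := by
  show Module.finrank k (LinearMap.range (alpha (g * x * g⁻¹))) = Module.finrank k (LinearMap.range (alpha x))
  rw [range_alpha_conj]
  have hinj : Function.Injective ((g : M →ₗ[k] M)) :=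
    Function.LeftInverse.injective (g := ((g⁻¹ : LinearMap.GeneralLinearGroup k M) : M →ₗ[k] M)) (inv_apply_apply g)
  exact (Submodule.equivMapOfInjective _ hinj _).finrank_eq.symm

variable {G : Subgroup (LinearMap.GeneralLinearGroup k M)}

theorem conj_mem_quadratic {g x : LinearMap.GeneralLinearGroup k M} (hg : g ∈ G) (hx : x ∈ quadraticElements G) :
    g * x * g⁻¹ ∈ quadraticElements G := by
  refine ⟨mul_mem (mul_mem hg hx.1) (inv_mem hg), ⟨?_, ?_⟩, ?_⟩
  · show alpha (g * x * g⁻¹) * alpha (g * x * g⁻¹) = 0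
    rw [alpha_conj]
    have h : alpha x * alpha x = 0 := hx.2.1.1
    calc _ = (g : M →ₗ[k] M) * alpha x * (((g⁻¹ : LinearMap.GeneralLinearGroup k M) : M →ₗ[k] M) *
          (g : M →ₗ[k] M)) * alpha x * ((g⁻¹ : LinearMap.GeneralLinearGroup k M) : M →ₗ[k] M) := by
            simp only [mul_assoc]
      _ = 0 := by rw [Units.inv_mul, mul_one, mul_assoc (g : M →ₗ[k] M), h, mul_zero, zero_mul]
  · intro h0
    refine hx.2.1.2 ?_
    show alpha x = 0
    have h0' : alpha (g * x * g⁻¹) = 0 := h0
    rw [alpha_conj, Units.mul_left_eq_zero, Units.mul_right_eq_zero] at h0'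
    exact h0'
  · rintro u ⟨c, hc⟩
    have h2 : g⁻¹ * u * g ∈ scalarFamily x := ⟨c, by
      rw [Units.val_mul, Units.val_mul, hc]
      show ((g⁻¹ : LinearMap.GeneralLinearGroup k M) : M →ₗ[k] M) * (1 + c • alpha (g * x * g⁻¹)) *
        (g : M →ₗ[k] M) = 1 + c • alpha x
      rw [alpha_conj, mul_add, add_mul, mul_one, Units.inv_mul, mul_smul_comm, smul_mul_assoc]
      congr 2
      simp only [← mul_assoc, Units.inv_mul, one_mul]
      rw [mul_assoc, Units.inv_mul, mul_one]⟩
    have h3 := mul_mem (mul_mem hg (hx.2.2 h2)) (inv_mem hg)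
    rwa [show g * (g⁻¹ * u * g) * g⁻¹ = u by group] at h3

theorem conj_mem_minimal [FiniteDimensional k M] {g x : LinearMap.GeneralLinearGroup k M} (hg : g ∈ G)
    (hx : x ∈ minimalQuadraticElements G) : g * x * g⁻¹ ∈ minimalQuadraticElements G :=
  ⟨conj_mem_quadratic hg hx.1, fun t ht => by rw [commutatorRank_conj]; exact hx.2 t ht⟩

theorem conj_mem_class [FiniteDimensional k M] {g x y : LinearMap.GeneralLinearGroup k M} (hg : g ∈ G)
    (hy : y ∈ sameActionClass G x) : g * y * g⁻¹ ∈ sameActionClass G (g * x * g⁻¹) := by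
  refine ⟨conj_mem_minimal hg hy.1, ?_, ?_⟩
  · have h : LinearMap.ker (alpha y) = LinearMap.ker (alpha x) := hy.2.1
    show LinearMap.ker (alpha (g * y * g⁻¹)) = LinearMap.ker (alpha (g * x * g⁻¹))
    ext m
    rw [mem_ker_alpha_conj, mem_ker_alpha_conj, h]
  · have h : LinearMap.range (alpha y) = LinearMap.range (alpha x) := hy.2.2
    show LinearMap.range (alpha (g * y * g⁻¹)) = LinearMap.range (alpha (g * x * g⁻¹))
    rw [range_alpha_conj, range_alpha_conj, h]

theorem conjBy_sameAction [FiniteDimensional k M] {g x : LinearMap.GeneralLinearGroup k M} (hg : g ∈ G) :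
    conjBy (sameActionSubgroup G x) g = sameActionSubgroup G (g * x * g⁻¹) := by
  rw [conjBy, sameActionSubgroup, MonoidHom.map_closure]
  refine congrArg Subgroup.closure (Set.ext fun y => ⟨?_, fun hy => ?_⟩)
  · rintro ⟨z, hz, rfl⟩
    exact conj_mem_class hg hz
  · refine ⟨g⁻¹ * y * g, ?_, by simp [mul_assoc]⟩
    have h := conj_mem_class (inv_mem hg) hy
    rwa [inv_inv, show g⁻¹ * (g * x * g⁻¹) * g = x by group] at h

/-- Elements lowering a flag generate a group acting unipotently. -/
theorem isUnipotentOn_of_flag [FiniteDimensional k M] (n : ℕ) (W : ℕ → Submodule k M) (hanti : Antitone W)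
    (h0 : W 0 = ⊤) (hn : W n = ⊥) {S : Set (LinearMap.GeneralLinearGroup k M)}
    (hS : ∀ g ∈ S, ∀ i, ∀ m ∈ W i, alpha g m ∈ W (i + 1)) : IsUnipotentOn (Subgroup.closure S) := by
  have key : ∀ g ∈ Subgroup.closure S, ∀ i, ∀ m ∈ W i, alpha g m ∈ W (i + 1) := by
    intro g hg
    induction hg using Subgroup.closure_induction with
    | mem y hy => exact hS y hy
    | one => intro i m _; simp [alpha]
    | mul x y _ _ hx hy =>
      intro i m hm
      have : alpha (x * y) = alpha x * alpha y + alpha x + alpha y := by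
        simp only [alpha, Units.val_mul, mul_sub, sub_mul, mul_one, one_mul]; abel
      rw [this, LinearMap.add_apply, LinearMap.add_apply, Module.End.mul_apply]
      exact add_mem (add_mem (hanti (Nat.le_succ _) (hx _ _ (hy i m hm))) (hx i m hm)) (hy i m hm)
    | inv x _ hx =>
      intro i m hm
      have hmap : ∀ w ∈ W i, (x : M →ₗ[k] M) w ∈ W i := fun w hw => by
        rw [alpha_add_one x, LinearMap.add_apply]
        exact add_mem hw (hanti (Nat.le_succ i) (hx i w hw))
      have hinj : Function.Injective ((x : M →ₗ[k] M).restrict hmap) := fun a b hab => by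
        refine Subtype.ext ?_
        have h1 := congrArg (fun w : W i => ((x⁻¹ : LinearMap.GeneralLinearGroup k M) : M →ₗ[k] M) (w : M)) hab
        simpa only [LinearMap.restrict_coe_apply, inv_apply_apply] using h1
      obtain ⟨w, hw⟩ := LinearMap.injective_iff_surjective.1 hinj ⟨m, hm⟩
      have hw' : (x : M →ₗ[k] M) w = m := congrArg Subtype.val hw
      have : alpha x⁻¹ m = -alpha x w := by
        rw [← hw', alpha, alpha, LinearMap.sub_apply, LinearMap.sub_apply, inv_apply_apply, Module.End.one_apply,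
          Module.End.one_apply]
        abel
      rw [this]
      exact neg_mem (hx i w w.2)
  refine ⟨n, fun l hl hlen => ?_⟩
  simp only [List.pure_def, List.bind_eq_flatMap, List.flatMap_pure_eq_map, List.map_map]
  have main : ∀ l : List (LinearMap.GeneralLinearGroup k M), (∀ g ∈ l, g ∈ Subgroup.closure S) → ∀ m,
      (l.map alpha).prod m ∈ W l.length := by
    intro l
    induction l with
    | nil => intro _ m; rw [List.length_nil, h0]; exact Submodule.mem_top
    | cons g t ih =>
      intro hl m
      rw [List.map_cons, List.prod_cons, Module.End.mul_apply, List.length_cons]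
      exact key g (hl g (List.mem_cons_self ..)) _ _ (ih (fun x hx => hl x (List.mem_cons_of_mem _ hx)) m)
  refine LinearMap.ext fun m => ?_
  have h := main l hl m
  rw [hlen, hn, Submodule.mem_bot] at h
  have e : (fun x : LinearMap.GeneralLinearGroup k M => alpha x) =
      fun x : LinearMap.GeneralLinearGroup k M => (Units.val x) - 1 := rfl
  have h' : (List.map (fun x : LinearMap.GeneralLinearGroup k M => alpha x) l).prod m = 0 := h
  rw [e] at h'
  simpa [Function.comp_def, List.flatMap_def] using h'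

end CfsgLib.QuadPair
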