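import Cfsg.Agent.Lib.QuadPair.Rep

/-!
# `⟨upper k, lower (k X)⟩` is dense for the `X`-adic topology
-/

set_option autoImplicit false

namespace CfsgLib.QuadPair

open Polynomial
open scoped MatrixGroups

section Ring

variable {R : Type*} [CommRing R]

theorem map_upper {S : Type*} [CommRing S] (f : R →+* S) (a : R) :
    Matrix.SpecialLinearGroup.map f (upper a) = upper (f a) := by
  refine ext_two ?_ ?_ ?_ ?_ <;> simp [upper_val]

theorem map_lower {S : Type*} [CommRing S] (f : R →+* S) (a : R) :
    Matrix.SpecialLinearGroup.map f (lower a) = lower (f a) := by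
  refine ext_two ?_ ?_ ?_ ?_ <;> simp [lower_val]

/-- `[[1 + a, 0], [0, 1 - a]]` for `a ^ 2 = 0`. -/
def dia (a : R) (ha : a * a = 0) : SL(2, R) :=
  ⟨!![1 + a, 0; 0, 1 - a], by simp [Matrix.det_fin_two]; linear_combination -ha⟩

theorem dia_val (a : R) (ha : a * a = 0) :
    (dia a ha : Matrix (Fin 2) (Fin 2) R) = !![1 + a, 0; 0, 1 - a] := rfl

/-- `[[1 + a, a], [-a, 1 - a]]`. -/
def skew (a : R) : SL(2, R) := ⟨!![1 + a, a; -a, 1 - a], by simp [Matrix.det_fin_two]; ring⟩

theorem skew_val (a : R) : (skew a : Matrix (Fin 2) (Fin 2) R) = !![1 + a, a; -a, 1 - a] := rfl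

theorem upper_lower_commutator {u v : R} (h1 : u * u * v = 0) (h2 : u * v * v = 0) (h : u * v * (u * v) = 0) :
    upper u * lower v = dia (u * v) h * (lower v * upper u) := by
  refine ext_two ?_ ?_ ?_ ?_ <;> simp [upper_val, lower_val, dia_val, Matrix.mul_apply, Fin.sum_univ_two]
  · linear_combination -h1
  · linear_combination h2
  · linear_combination h

theorem one_lower_commutator {v : R} (h : v * v = 0) :
    upper 1 * lower v = upper (-v) * dia v h * (lower v * upper 1) := by
  refine ext_two ?_ ?_ ?_ ?_ <;> simp [upper_val, lower_val, dia_val, Matrix.mul_apply, Fin.sum_univ_two]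
  · linear_combination (1 - v) * h
  · linear_combination (-v) * h
  · linear_combination h
  · linear_combination h

theorem skew_lower_commutator {u v : R} (h1 : u * u * v = 0) (h2 : u * v * v = 0) (h : u * v * (u * v) = 0) :
    skew u * lower v = dia (u * v) h * lower (-(2 * (u * v))) * (lower v * skew u) := by
  refine ext_two ?_ ?_ ?_ ?_ <;>
    simp [skew_val, lower_val, dia_val, Matrix.mul_apply, Fin.sum_univ_two]
  · linear_combination -h1
  · linear_combination -h1
  · linear_combination h1 + h2 - (1 + 2 * u) * h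
  · linear_combination h1 + (1 - 2 * u) * h

theorem dia_upper_commutator {a c : R} (ha : a * a = 0) (hac : a * c = 0) :
    upper c * dia a ha * upper 1 = upper (2 * a) * (upper 1 * (upper c * dia a ha)) := by
  refine ext_two ?_ ?_ ?_ ?_ <;> simp [upper_val, dia_val, Matrix.mul_apply, Fin.sum_univ_two]
  linear_combination 2 * ha + 0 * hac

end Ring

variable {k : Type*} [Field k]

/-- The group generated by `upper c` and `lower (c X)`. -/
noncomputable def polyPair (k : Type*) [Field k] : Subgroup SL(2, k[X]) :=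
  Subgroup.closure (Set.range (fun c : k => upper (C c)) ∪ Set.range (fun c : k => lower (C c * X)))

theorem polyPair_upper (c : k) : upper (C c) ∈ polyPair k := Subgroup.subset_closure (Or.inl ⟨c, rfl⟩)

theorem polyPair_lower (c : k) : lower (C c * X) ∈ polyPair k := Subgroup.subset_closure (Or.inr ⟨c, rfl⟩)

theorem polyPair_le : polyPair k ≤ cong k := by
  refine (Subgroup.closure_le _).2 ?_
  rintro _ (⟨c, rfl⟩ | ⟨c, rfl⟩)
  · exact upper_mem_cong _
  · exact lower_mem_cong _

/-- Truncation modulo `X ^ n`. -/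
noncomputable def trunc (k : Type*) [Field k] (n : ℕ) :
    SL(2, k[X]) →* SL(2, k[X] ⧸ Ideal.span {(X : k[X]) ^ n}) :=
  Matrix.SpecialLinearGroup.map (Ideal.Quotient.mk _)

theorem trunc_entry (n : ℕ) (g : SL(2, k[X])) (i j : Fin 2) :
    (trunc k n g : Matrix (Fin 2) (Fin 2) (k[X] ⧸ Ideal.span {(X : k[X]) ^ n})) i j =
      Ideal.Quotient.mk _ ((g : Matrix (Fin 2) (Fin 2) k[X]) i j) := rfl

theorem trunc_eq_iff {n : ℕ} {g h : SL(2, k[X])} :
    trunc k n g = trunc k n h ↔
      ∀ i j, (X : k[X]) ^ n ∣ (g : Matrix (Fin 2) (Fin 2) k[X]) i j - (h : Matrix (Fin 2) (Fin 2) k[X]) i j := by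
  constructor
  · intro e i j
    rw [← Ideal.mem_span_singleton, ← Ideal.Quotient.eq, ← trunc_entry, ← trunc_entry, e]
  · intro e
    refine Matrix.SpecialLinearGroup.ext _ _ fun i j => ?_
    rw [trunc_entry, trunc_entry, Ideal.Quotient.eq, Ideal.mem_span_singleton]
    exact e i j

theorem trunc_upper (n : ℕ) (a : k[X]) : trunc k n (upper a) = upper (Ideal.Quotient.mk _ a) := map_upper _ a

theorem trunc_lower (n : ℕ) (a : k[X]) : trunc k n (lower a) = lower (Ideal.Quotient.mk _ a) := map_lower _ a

/-- Every element of `cong k` is congruent to a member of the group modulo every power of `X`. -/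
theorem dense (h2 : (2 : k) ≠ 0) : ∀ N, ∀ g ∈ cong k, ∃ h ∈ polyPair k, trunc k (N + 1) h = trunc k (N + 1) g := by
  intro N
  induction N with
  | zero =>
    intro g hg
    refine ⟨_, polyPair_upper (((g : Matrix (Fin 2) (Fin 2) k[X]) 0 1).coeff 0), ?_⟩
    rw [trunc_eq_iff]
    intro i j
    rw [pow_one, Polynomial.X_dvd_iff]
    fin_cases i <;> fin_cases j <;> simp [upper_val, hg.1, hg.2, cong_coeff hg]
  | succ N ih =>
    set I := Ideal.span {(X : k[X]) ^ (N + 1 + 1)} with hI
    set H := (polyPair k).map (trunc k (N + 1 + 1)) with hH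
    set x := Ideal.Quotient.mk I X with hx
    set c : k →+* k[X] ⧸ I := (Ideal.Quotient.mk I).comp C with hc
    have hxz : ∀ m, N + 1 + 1 ≤ m → x ^ m = 0 := fun m hm => by
      rw [hx, ← map_pow, Ideal.Quotient.eq_zero_iff_dvd]; exact pow_dvd_pow _ hm
    have sq : ∀ a : k, c a * x ^ (N + 1) * (c a * x ^ (N + 1)) = 0 := fun a => by
      rw [show c a * x ^ (N + 1) * (c a * x ^ (N + 1)) = c a * c a * x ^ (N + 1 + (N + 1)) by ring,
        hxz _ (by omega), mul_zero]
    have hu : ∀ a : k, upper (c a) ∈ H := fun a => ⟨_, polyPair_upper a, trunc_upper _ _⟩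
    have hl : ∀ a : k, lower (c a * x) ∈ H := fun a =>
      ⟨_, polyPair_lower a, by rw [trunc_lower, map_mul]; rfl⟩
    -- elements with prescribed shallow part and their commutators with `lower (s x)`
    have hdeep : ∀ g ∈ cong k, ∀ s : k, ∀ Z, trunc k (N + 1 + 1) g * lower (c s * x) =
        Z * (lower (c s * x) * trunc k (N + 1 + 1) g) → Z ∈ H := by
      intro g hg s Z hZ
      obtain ⟨h, hh, eh⟩ := ih g hg
      have he : ∀ i j, (X : k[X]) ^ (N + 1) ∣ (g⁻¹ * h : SL(2, k[X])) i j - (1 : SL(2, k[X])) i j := by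
        apply trunc_eq_iff.1
        rw [map_mul, eh, ← map_mul, inv_mul_cancel]
      set e := trunc k (N + 1 + 1) (g⁻¹ * h) with hedef
      choose D hD using he
      have hent : ∀ i j, (e : Matrix (Fin 2) (Fin 2) (k[X] ⧸ I)) i j =
          (1 : Matrix (Fin 2) (Fin 2) (k[X] ⧸ I)) i j + x ^ (N + 1) * Ideal.Quotient.mk I (D i j) := by
        intro i j
        have h1 := congrArg (Ideal.Quotient.mk I) (hD i j)
        rw [map_sub, map_mul, map_pow, ← hx, sub_eq_iff_eq_add'] at h1
        rw [hedef, trunc_entry, h1]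
        fin_cases i <;> fin_cases j <;> simp
      have z : x ^ (N + 1) * x = 0 := by rw [← pow_succ]; exact hxz _ le_rfl
      have hcomm : e * lower (c s * x) = lower (c s * x) * e := by
        refine ext_two ?_ ?_ ?_ ?_ <;>
          simp [lower_val, Matrix.mul_apply, Fin.sum_univ_two, hent]
        · linear_combination (Ideal.Quotient.mk I (D 0 1) * c s) * z
        · linear_combination (c s * Ideal.Quotient.mk I (D 1 1) - c s * Ideal.Quotient.mk I (D 0 0)) * z
        · linear_combination (c s * Ideal.Quotient.mk I (D 0 1)) * z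
      have hge : trunc k (N + 1 + 1) h = trunc k (N + 1 + 1) g * e := by
        rw [hedef, ← map_mul, mul_inv_cancel_left]
      have h1 : trunc k (N + 1 + 1) h ∈ H := ⟨h, hh, rfl⟩
      have h2 : trunc k (N + 1 + 1) h * lower (c s * x) * (trunc k (N + 1 + 1) h)⁻¹ * (lower (c s * x))⁻¹ = Z := by
        rw [hge, mul_inv_rev, mul_assoc (trunc k (N + 1 + 1) g) e (lower (c s * x)), hcomm, ← mul_assoc,
          ← mul_assoc, mul_assoc _ e e⁻¹, mul_inv_cancel, mul_one, hZ]
        group
      rw [← h2]
      exact mul_mem (mul_mem (mul_mem h1 (hl s)) (inv_mem h1)) (inv_mem (hl s))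
    -- the diagonal layer, up to an upper factor
    have htri : ∀ a : k, ∃ b : k, upper (c b * x ^ (N + 1)) * dia (c a * x ^ (N + 1)) (sq a) ∈ H := by
      intro a
      rcases Nat.eq_zero_or_pos N with rfl | hN
      · refine ⟨-a, ?_⟩
        have hv : c a * x * (c a * x) = 0 := by simpa using sq a
        have h1 := one_lower_commutator hv
        have h2 : upper (-(c a * x)) * dia (c a * x) hv =
            upper (1 : k[X] ⧸ I) * lower (c a * x) * (lower (c a * x) * upper 1)⁻¹ := by
          rw [eq_mul_inv_iff_mul_eq, ← h1]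
        have h3 : upper (-(c a * x)) * dia (c a * x) hv ∈ H := by
          rw [h2]
          have h4 : upper (1 : k[X] ⧸ I) ∈ H := by simpa using hu 1
          exact mul_mem (mul_mem h4 (hl a)) (inv_mem (mul_mem (hl a) h4))
        convert h3 using 3 <;> simp <;> ring
      · refine ⟨0, ?_⟩
        rw [map_zero, zero_mul, upper_zero, one_mul]
        have hprod : x ^ N * (c a * x) = c a * x ^ (N + 1) := by ring
        have h1 : x ^ N * x ^ N * (c a * x) = 0 := by
          rw [show x ^ N * x ^ N * (c a * x) = c a * x ^ (N + N + 1) by ring, hxz _ (by omega), mul_zero]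
        have h2 : x ^ N * (c a * x) * (c a * x) = 0 := by
          rw [show x ^ N * (c a * x) * (c a * x) = c a * c a * x ^ (N + 1 + 1) by ring, hxz _ le_rfl, mul_zero]
        refine hdeep _ (upper_mem_cong (X ^ N)) a _ ?_
        rw [trunc_upper, map_pow, ← hx, upper_lower_commutator h1 h2 (by rw [hprod]; exact sq a)]
        congr 1
        exact Subtype.ext (by rw [dia_val, dia_val, hprod])
    have hup : ∀ b : k, upper (c b * x ^ (N + 1)) ∈ H := by
      intro b
      obtain ⟨b', hb'⟩ := htri (b / 2)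
      have z : c (b / 2) * x ^ (N + 1) * (c b' * x ^ (N + 1)) = 0 := by
        rw [show c (b / 2) * x ^ (N + 1) * (c b' * x ^ (N + 1)) = c (b / 2) * c b' * x ^ (N + 1 + (N + 1)) by ring,
          hxz _ (by omega), mul_zero]
      have h1 := dia_upper_commutator (sq (b / 2)) z
      have h4 : upper (1 : k[X] ⧸ I) ∈ H := by simpa using hu 1
      have h5 : upper (2 * (c (b / 2) * x ^ (N + 1))) ∈ H := by
        rw [← eq_mul_inv_iff_mul_eq] at h1
        rw [show upper (2 * (c (b / 2) * x ^ (N + 1))) =
          upper (c b' * x ^ (N + 1)) * dia (c (b / 2) * x ^ (N + 1)) (sq (b / 2)) * upper 1 *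
            (upper 1 * (upper (c b' * x ^ (N + 1)) * dia (c (b / 2) * x ^ (N + 1)) (sq (b / 2))))⁻¹ by
          rw [eq_mul_inv_iff_mul_eq, ← dia_upper_commutator (sq (b / 2)) z]]
        exact mul_mem (mul_mem hb' h4) (inv_mem (mul_mem h4 hb'))
      convert h5 using 2
      rw [← mul_assoc, show (2 : k[X] ⧸ I) = c 2 from (map_ofNat c 2).symm, ← map_mul, mul_div_cancel₀ _ h2]
    have hdia : ∀ a : k, dia (c a * x ^ (N + 1)) (sq a) ∈ H := by
      intro a
      obtain ⟨b, hb⟩ := htri a
      exact (mul_mem_cancel_left (hup b)).1 hb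
    have hlow : ∀ a : k, lower (c a * x ^ (N + 1)) ∈ H := by
      intro a
      rcases Nat.eq_zero_or_pos N with rfl | hN
      · simpa using hl a
      · have hprod : x ^ N * (c (-a / 2) * x) = c (-a / 2) * x ^ (N + 1) := by ring
        have h1 : x ^ N * x ^ N * (c (-a / 2) * x) = 0 := by
          rw [show x ^ N * x ^ N * (c (-a / 2) * x) = c (-a / 2) * x ^ (N + N + 1) by ring, hxz _ (by omega), mul_zero]
        have h3 : x ^ N * (c (-a / 2) * x) * (c (-a / 2) * x) = 0 := by
          rw [show x ^ N * (c (-a / 2) * x) * (c (-a / 2) * x) = c (-a / 2) * c (-a / 2) * x ^ (N + 1 + 1) by ring,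
            hxz _ le_rfl, mul_zero]
        have hg : skew ((X : k[X]) ^ N) ∈ cong k := by
          have hN0 : N ≠ 0 := by omega
          constructor <;> simp [skew_val, Ne.symm hN0]
        have hmap : trunc k (N + 1 + 1) (skew ((X : k[X]) ^ N)) = skew (x ^ N) := by
          refine ext_two ?_ ?_ ?_ ?_ <;> simp [skew_val, trunc_entry, hx] <;> rfl
        have h4 := hdeep _ hg (-a / 2) _ (by
          rw [hmap]; exact skew_lower_commutator h1 h3 (by rw [hprod]; exact sq _))
        have h5 : dia (x ^ N * (c (-a / 2) * x)) (by rw [hprod]; exact sq _) ∈ H := by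
          convert hdia (-a / 2) using 1
          exact Subtype.ext (by rw [dia_val, dia_val, hprod])
        convert (mul_mem_cancel_left h5).1 h4 using 2
        rw [hprod, show -(2 * (c (-a / 2) * x ^ (N + 1))) = c (-(2 * (-a / 2))) * x ^ (N + 1) by
          rw [map_neg, map_mul, map_ofNat]; ring]
        congr 2
        field_simp
    intro g hg
    obtain ⟨h, hh, eh⟩ := ih g hg
    have he : ∀ i j, (X : k[X]) ^ (N + 1) ∣ (h⁻¹ * g : SL(2, k[X])) i j - (1 : SL(2, k[X])) i j := by
      apply trunc_eq_iff.1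
      rw [map_mul, ← eh, ← map_mul, inv_mul_cancel]
    choose D hD using he
    have htr : (D 0 0).coeff 0 + (D 1 1).coeff 0 = 0 := by
      have hdet := det_eq (h⁻¹ * g)
      have e00 := hD 0 0
      have e01 := hD 0 1
      have e10 := hD 1 0
      have e11 := hD 1 1
      simp at e00 e01 e10 e11 hdet
      rw [sub_eq_iff_eq_add] at e00 e11
      rw [e00, e01, e10, e11] at hdet
      have h1 : (X : k[X]) ^ (N + 1) * (D 0 0 + D 1 1 + X ^ (N + 1) * (D 0 0 * D 1 1 - D 0 1 * D 1 0)) = 0 := by
        linear_combination hdet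
      have h3 := congrArg (fun P => P.coeff 0) ((mul_eq_zero.1 h1).resolve_left (pow_ne_zero _ X_ne_zero))
      simpa [Polynomial.mul_coeff_zero] using h3
    have hsplit : ∀ P : k[X], Ideal.Quotient.mk I (X ^ (N + 1) * P) = c (P.coeff 0) * x ^ (N + 1) := by
      intro P
      conv_lhs => rw [eq_C_add_X_mul P, mul_add, ← mul_assoc, ← pow_succ, map_add, map_mul, map_mul, map_pow,
        map_pow]
      rw [← hx, hxz _ le_rfl, zero_mul, add_zero, mul_comm]
      rfl
    have hmem : trunc k (N + 1 + 1) (h⁻¹ * g) ∈ H := by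
      have hprod := mul_mem (mul_mem (hup ((D 0 1).coeff 0)) (hlow ((D 1 0).coeff 0))) (hdia ((D 0 0).coeff 0))
      convert hprod using 1
      have z : ∀ a b : k, c a * x ^ (N + 1) * (c b * x ^ (N + 1)) = 0 := fun a b => by
        rw [show c a * x ^ (N + 1) * (c b * x ^ (N + 1)) = c a * c b * x ^ (N + 1 + (N + 1)) by ring,
          hxz _ (by omega), mul_zero]
      have hneg : (D 1 1).coeff 0 = -(D 0 0).coeff 0 := by linear_combination htr
      refine Matrix.SpecialLinearGroup.ext _ _ fun i j => ?_
      have hji := congrArg (Ideal.Quotient.mk I) (hD i j)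
      rw [map_sub, sub_eq_iff_eq_add', hsplit] at hji
      rw [trunc_entry, hji]
      set u := (D 0 1).coeff 0
      set l := (D 1 0).coeff 0
      set a := (D 0 0).coeff 0
      fin_cases i <;> fin_cases j <;>
        simp [upper_val, lower_val, dia_val, Matrix.mul_apply, Fin.sum_univ_two, hneg, add_mul, mul_add, mul_sub,
          sub_mul, z, u, l, a] <;>
        ring
    obtain ⟨h', hh', eh'⟩ := hmem
    exact ⟨h * h', mul_mem hh hh', by rw [map_mul, eh', ← map_mul, mul_inv_cancel_left]⟩

end CfsgLib.QuadPair
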