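import Cfsg.Agent.Lib.QuadPair.Dense

/-!
# Derived subgroups of matrix groups with full elementary subgroups
-/

set_option autoImplicit false

namespace CfsgLib.QuadPair

open scoped MatrixGroups commutatorElement

/-- The derived series of a subgroup, as subgroups of the ambient group. -/
def derivedIter {G : Type*} [Group G] (H : Subgroup G) : ℕ → Subgroup G
  | 0 => H
  | n + 1 => ⁅derivedIter H n, derivedIter H n⁆

theorem derivedIter_le {G : Type*} [Group G] (H : Subgroup G) : ∀ n, derivedIter H n ≤ H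
  | 0 => le_rfl
  | n + 1 => Subgroup.commutator_le.2 fun a ha b hb => by
      rw [commutatorElement_def]
      exact mul_mem (mul_mem (mul_mem (derivedIter_le H n ha) (derivedIter_le H n hb))
        (inv_mem (derivedIter_le H n ha))) (inv_mem (derivedIter_le H n hb))

theorem derivedIter_conj {G : Type*} [Group G] (H : Subgroup G) {g : G} (hg : g ∈ H) :
    ∀ n, ∀ x ∈ derivedIter H n, g * x * g⁻¹ ∈ derivedIter H n
  | 0, x, hx => mul_mem (mul_mem hg hx) (inv_mem hg)
  | n + 1, x, hx => by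
      have h : ⁅derivedIter H n, derivedIter H n⁆ ≤ (derivedIter H (n + 1)).comap (MulAut.conj g).toMonoidHom := by
        refine Subgroup.commutator_le.2 fun a ha b hb => ?_
        show g * ⁅a, b⁆ * g⁻¹ ∈ ⁅derivedIter H n, derivedIter H n⁆
        rw [conjugate_commutatorElement]
        exact Subgroup.commutator_mem_commutator (derivedIter_conj H hg n a ha) (derivedIter_conj H hg n b hb)
      exact h hx

theorem map_derivedIter {G G' : Type*} [Group G] [Group G'] (f : G →* G') (H : Subgroup G) :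
    ∀ n, (derivedIter H n).map f = derivedIter (H.map f) n
  | 0 => rfl
  | n + 1 => by simp only [derivedIter, Subgroup.map_commutator, map_derivedIter f H n]

section Ring

variable {k R : Type*} [Field k] [CommRing R] [Algebra k R]

theorem elementary_commutator {t : k} (ht : t ≠ 0) (ht2 : t ^ 2 ≠ 1) (D : Subgroup SL(2, R))
    (hD : ∀ a : R, upper a ∈ D ∧ lower a ∈ D) (a : R) : upper a ∈ ⁅D, D⁆ ∧ lower a ∈ ⁅D, D⁆ := by
  set c := algebraMap k R with hc
  have hinv : c t * c t⁻¹ = 1 := by rw [← map_mul, mul_inv_cancel₀ ht, map_one]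
  set w : k → SL(2, R) := fun s => upper (c s) * lower (-c s⁻¹) * upper (c s) with hw
  set d := w t * w (-1) with hd
  have hdD : d ∈ D := by
    have : ∀ s, w s ∈ D := fun s => mul_mem (mul_mem (hD _).1 (hD _).2) (hD _).1
    exact mul_mem (this _) (this _)
  have hdval : (d : Matrix (Fin 2) (Fin 2) R) = !![c t, 0; 0, c t⁻¹] := by
    ext i j
    fin_cases i <;> fin_cases j <;>
      simp [hd, hw, upper_val, lower_val, Matrix.mul_apply, Fin.sum_univ_two, hinv, mul_comm (c t⁻¹) (c t)]
  have h10 : (d : Matrix (Fin 2) (Fin 2) R) 1 0 = 0 := by simp [hdval]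
  have h00 : (d : Matrix (Fin 2) (Fin 2) R) 0 0 = c t := by simp [hdval]
  have hu : t ^ 2 - 1 ≠ 0 := sub_ne_zero.2 ht2
  have hl : (t⁻¹) ^ 2 - 1 ≠ 0 := sub_ne_zero.2 fun h => ht2 (by
    rw [inv_pow, inv_eq_one] at h; exact h)
  refine ⟨?_, ?_⟩
  · have h := Subgroup.commutator_mem_commutator hdD (hD (c (t ^ 2 - 1)⁻¹ * a)).1
    rw [commutatorElement_def, conj_upper h10, h00, upper_inv, upper_mul] at h
    convert h using 2
    rw [← map_pow, ← mul_assoc, ← map_mul]
    have : c (t ^ 2 * (t ^ 2 - 1)⁻¹) * a + -(c (t ^ 2 - 1)⁻¹ * a) = c ((t ^ 2 - 1) * (t ^ 2 - 1)⁻¹) * a := by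
      rw [sub_mul, map_sub, one_mul]; ring
    rw [this, mul_inv_cancel₀ hu, map_one, one_mul]
  · have hconj : ∀ b : R, d * lower b * d⁻¹ = lower (c t⁻¹ ^ 2 * b) := fun b => by
      apply mul_inv_eq_of_eq_mul
      refine ext_two ?_ ?_ ?_ ?_ <;> simp [lower_val, hdval, Matrix.mul_apply, Fin.sum_univ_two]
      linear_combination (-(c t⁻¹ * b)) * hinv
    have h := Subgroup.commutator_mem_commutator hdD (hD (c ((t⁻¹) ^ 2 - 1)⁻¹ * a)).2
    rw [commutatorElement_def, hconj, lower_inv, lower_mul] at h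
    convert h using 2
    rw [← map_pow, ← mul_assoc, ← map_mul]
    have : c (t⁻¹ ^ 2 * (t⁻¹ ^ 2 - 1)⁻¹) * a + -(c (t⁻¹ ^ 2 - 1)⁻¹ * a) =
        c ((t⁻¹ ^ 2 - 1) * (t⁻¹ ^ 2 - 1)⁻¹) * a := by
      rw [sub_mul, map_sub, one_mul]; ring
    rw [this, mul_inv_cancel₀ hl, map_one, one_mul]

theorem elementary_derivedIter {t : k} (ht : t ≠ 0) (ht2 : t ^ 2 ≠ 1) (D : Subgroup SL(2, R))
    (hD : ∀ a : R, upper a ∈ D ∧ lower a ∈ D) : ∀ n (a : R), upper a ∈ derivedIter D n ∧ lower a ∈ derivedIter D n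
  | 0, a => hD a
  | n + 1, a => elementary_commutator ht ht2 _ (elementary_derivedIter ht ht2 D hD n) a

end Ring

variable {k : Type*} [Field k]

open Polynomial in
/-- The `n`-th derived subgroup of `cong k` is trivial modulo `X ^ n`. -/
theorem derivedIter_trunc : ∀ n, 1 ≤ n → ∀ g ∈ derivedIter (cong k) n, trunc k n g = 1 := by
  intro n hn
  induction n, hn using Nat.le_induction with
  | base =>
    have h : ∀ a ∈ cong k, trunc k 1 a = upper (Ideal.Quotient.mk _ ((a : Matrix (Fin 2) (Fin 2) k[X]) 0 1)) := by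
      intro a ha
      rw [← trunc_upper, trunc_eq_iff]
      intro i j
      rw [pow_one, Polynomial.X_dvd_iff]
      fin_cases i <;> fin_cases j <;> simp [upper_val, ha.1, ha.2, cong_coeff ha]
    have hle : ⁅cong k, cong k⁆ ≤ (trunc k 1).ker := Subgroup.commutator_le.2 fun a ha b hb => by
      rw [MonoidHom.mem_ker, map_commutatorElement, h a ha, h b hb, commutatorElement_eq_one_iff_mul_comm, upper_mul,
        upper_mul, add_comm]
    exact fun g hg => hle hg
  | succ n hn ih =>
    have hle : ⁅derivedIter (cong k) n, derivedIter (cong k) n⁆ ≤ (trunc k (n + 1)).ker := by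
      refine Subgroup.commutator_le.2 fun a ha b hb => ?_
      rw [MonoidHom.mem_ker, map_commutatorElement, commutatorElement_eq_one_iff_mul_comm, ← map_mul, ← map_mul,
        trunc_eq_iff]
      have hab : ∀ g ∈ derivedIter (cong k) n, ∃ D : Fin 2 → Fin 2 → k[X], ∀ i j,
          (g : Matrix (Fin 2) (Fin 2) k[X]) i j = (1 : Matrix (Fin 2) (Fin 2) k[X]) i j + X ^ n * D i j := by
        intro g hg
        have h := trunc_eq_iff.1 ((ih g hg).trans (map_one (trunc k n)).symm)
        choose D hD using h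
        exact ⟨D, fun i j => by rw [← hD, Matrix.SpecialLinearGroup.coe_one]; ring⟩
      obtain ⟨P, hP⟩ := hab a ha
      obtain ⟨Q, hQ⟩ := hab b hb
      have hdvd : (X : k[X]) ^ (n + 1) ∣ X ^ (2 * n) := pow_dvd_pow X (by omega)
      intro i j
      refine hdvd.trans ⟨P i 0 * Q 0 j + P i 1 * Q 1 j - (Q i 0 * P 0 j + Q i 1 * P 1 j), ?_⟩
      fin_cases i <;> fin_cases j <;>
        simp [Matrix.mul_apply, Fin.sum_univ_two, hP, hQ] <;> ring
    exact fun g hg => hle hg

theorem derivedIter_mono {G : Type*} [Group G] {H K : Subgroup G} (h : H ≤ K) :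
    ∀ n, derivedIter H n ≤ derivedIter K n
  | 0 => h
  | n + 1 => Subgroup.commutator_mono (derivedIter_mono h n) (derivedIter_mono h n)

end CfsgLib.QuadPair
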