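import Cfsg.Agent.Lib.QuadPair.Rosenlicht

/-!
# `upperSet` of a finite algebra generated by an invertible element
-/

set_option autoImplicit false
set_option linter.style.haveILetI false

namespace CfsgLib.QuadPair

open scoped MatrixGroups
open Function
open scoped commutatorElement

/-- The fixed points of an element of order `p` on an invariant set have cardinality congruent to the set's. -/
theorem card_commuting_modEq {G : Type*} [Group G] {p : ℕ} [Fact p.Prime] {u : G} (hu : u ^ p = 1)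
    (S : Set G) [Finite S] (hS : ∀ g ∈ S, u * g * u⁻¹ ∈ S) :
    Nat.card S ≡ Nat.card {g : G // g ∈ S ∧ u * g = g * u} [MOD p] := by
  classical
  haveI := Fintype.ofFinite S
  let f : Function.End S := fun g => ⟨u * g * u⁻¹, hS g g.2⟩
  have hpow : ∀ n : ℕ, ∀ g : S, (((f ^ n) g : S) : G) = u ^ n * g * (u ^ n)⁻¹ := by
    intro n
    induction n with
    | zero => intro g; simp; rfl
    | succ n ih =>
      intro g
      rw [pow_succ]
      show (((f ^ n) (f g) : S) : G) = _
      rw [ih]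
      show u ^ n * (u * g * u⁻¹) * (u ^ n)⁻¹ = _
      rw [pow_succ]; group
  have hf : f ^ p ^ 1 = 1 := by
    funext g
    apply Subtype.ext
    rw [pow_one, hpow, hu, one_mul, inv_one, mul_one]
    rfl
  have h := Equiv.Perm.card_fixedPoints_modEq hf
  rw [← Nat.card_eq_fintype_card, ← Nat.card_eq_fintype_card] at h
  refine h.trans (congrArg (· % p) ?_)
  refine Nat.card_congr ⟨fun g => ⟨g.1.1, g.1.2, ?_⟩, fun g => ⟨⟨g.1, g.2.1⟩, ?_⟩, fun g => rfl, fun g => rfl⟩
  · have h1 : u * (g.1 : G) * u⁻¹ = g.1 := congrArg Subtype.val g.2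
    exact mul_inv_eq_iff_eq_mul.1 h1
  · exact Subtype.ext (mul_inv_eq_iff_eq_mul.2 g.2.2)

section Ring

variable {A : Type*} [CommRing A]

theorem upper_pow (a : A) : ∀ n : ℕ, upper a ^ n = upper (n * a)
  | 0 => by simp [upper_zero]
  | n + 1 => by rw [pow_succ, upper_pow a n, upper_mul, Nat.cast_succ, add_mul, one_mul]

theorem lower_pow (a : A) : ∀ n : ℕ, lower a ^ n = lower (n * a)
  | 0 => by simp [lower_zero]
  | n + 1 => by rw [pow_succ, lower_pow a n, lower_mul, Nat.cast_succ, add_mul, one_mul]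

theorem upper_injective : Injective (upper : A → SL(2, A)) := fun a b h => by
  have := congrArg (fun g : SL(2, A) => (g : Matrix (Fin 2) (Fin 2) A) 0 1) h
  simpa [upper_val] using this

/-- The elements commuting with `upper 1`. -/
theorem of_comm_upper_one {g : SL(2, A)} (h : upper 1 * g = g * upper 1) :
    (g : Matrix (Fin 2) (Fin 2) A) 1 0 = 0 ∧
      (g : Matrix (Fin 2) (Fin 2) A) 1 1 = (g : Matrix (Fin 2) (Fin 2) A) 0 0 := by
  have h0 := congrArg (fun m : SL(2, A) => (m : Matrix (Fin 2) (Fin 2) A) 0 0) h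
  have h1 := congrArg (fun m : SL(2, A) => (m : Matrix (Fin 2) (Fin 2) A) 0 1) h
  simp [upper_val, Matrix.mul_apply, Fin.sum_univ_two] at h0 h1
  exact ⟨h0, by linear_combination h1⟩

theorem sq_of_comm_upper_one {g : SL(2, A)} (h : upper 1 * g = g * upper 1) :
    g * g = upper (2 * ((g : Matrix (Fin 2) (Fin 2) A) 0 0 * (g : Matrix (Fin 2) (Fin 2) A) 0 1)) := by
  obtain ⟨h0, h1⟩ := of_comm_upper_one h
  have hd := det_eq g
  rw [h0, h1, mul_zero, sub_zero] at hd
  refine ext_two ?_ ?_ ?_ ?_ <;> simp [upper_val, Matrix.mul_apply, Fin.sum_univ_two, h0, h1, hd]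
  ring

/-- A conjugation invariant subgroup of order divisible by `p` contains a nontrivial `upper s`. -/
theorem exists_upper_of_dvd [Finite A] {p : ℕ} [hp : Fact p.Prime] (hpo : p ≠ 2) (hchar : (p : A) = 0)
    (N : Subgroup SL(2, A)) (hN : ∀ g ∈ N, upper 1 * g * (upper 1)⁻¹ ∈ N) (hdvd : p ∣ Nat.card N) :
    ∃ s : A, s ≠ 0 ∧ upper s ∈ N := by
  have hu : upper (1 : A) ^ p = 1 := by rw [upper_pow, hchar, zero_mul, upper_zero]
  set C := N ⊓ Subgroup.centralizer ({upper (1 : A)} : Set SL(2, A)) with hC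
  have hcard : Nat.card (N : Set SL(2, A)) ≡ Nat.card C [MOD p] := by
    refine (card_commuting_modEq hu (N : Set SL(2, A)) hN).trans (congrArg (· % p) (Nat.card_congr ?_))
    refine Equiv.subtypeEquivRight fun g => ?_
    rw [hC, Subgroup.mem_inf, Subgroup.mem_centralizer_singleton_iff]
    exact and_congr Iff.rfl eq_comm
  have hdC : p ∣ Nat.card C :=
    (Nat.modEq_zero_iff_dvd.1 (hcard.symm.trans (Nat.modEq_zero_iff_dvd.2 hdvd)))
  obtain ⟨⟨g, hgC⟩, hg⟩ := exists_prime_orderOf_dvd_card' p hdC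
  rw [Subgroup.orderOf_mk] at hg
  obtain ⟨hgN, hgc⟩ := Subgroup.mem_inf.1 hgC
  rw [Subgroup.mem_centralizer_singleton_iff] at hgc
  have h2 := sq_of_comm_upper_one hgc.symm
  refine ⟨_, ?_, h2 ▸ mul_mem hgN hgN⟩
  intro h0
  rw [h0, upper_zero, ← pow_two] at h2
  have := orderOf_dvd_of_pow_eq_one h2
  rw [hg] at this
  exact hpo ((Nat.prime_dvd_prime_iff_eq hp.out Nat.prime_two).1 this)

end Ring

/-- A non-central normal subgroup of `SL₂` of a field with at least four elements is everything. -/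
theorem normal_eq_top {F : Type*} [Field F] (hF : ∃ a : F, a ≠ 0 ∧ a ^ 2 ≠ 1) (N : Subgroup SL(2, F)) [N.Normal]
    (hN : ¬ N ≤ Subgroup.center SL(2, F)) : N = ⊤ := by
  haveI := Matrix.ProjectiveSpecialLinearGroup.rank_two_simple' hF
  let q := QuotientGroup.mk' (Subgroup.center SL(2, F))
  have hn : (N.map q).Normal := Subgroup.Normal.map inferInstance q (QuotientGroup.mk'_surjective _)
  rcases hn.eq_bot_or_eq_top with h | h
  · exact absurd (by
      intro n hn'
      have : q n ∈ N.map q := ⟨n, hn', rfl⟩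
      rw [h, Subgroup.mem_bot] at this
      exact (QuotientGroup.eq_one_iff n).1 this) hN
  · obtain ⟨a, ha, ha2⟩ := hF
    rw [eq_top_iff, ← Matrix.SL2.commutator_eq_top ha ha2, commutator_def, Subgroup.commutator_le]
    intro g _ g' _
    have hdec : ∀ g : SL(2, F), ∃ n ∈ N, ∃ z ∈ Subgroup.center SL(2, F), g = n * z := by
      intro g
      obtain ⟨n, hn', hq⟩ : q g ∈ N.map q := h ▸ Subgroup.mem_top _
      exact ⟨n, hn', n⁻¹ * g, (QuotientGroup.eq).1 hq, by rw [mul_inv_cancel_left]⟩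
    obtain ⟨n, hn', z, hz, rfl⟩ := hdec g
    obtain ⟨n', hn'', z', hz', rfl⟩ := hdec g'
    have e : ⁅n * z, n' * z'⁆ = ⁅n, n'⁆ := by
      rw [Subgroup.mem_center_iff] at hz hz'
      have a1 : ∀ x, x * z = z * x := hz
      have a2 : ∀ x, x * z' = z' * x := hz'
      rw [commutatorElement_def, commutatorElement_def, mul_inv_rev, mul_inv_rev]
      have i1 : ∀ x, x * z⁻¹ = z⁻¹ * x := fun x => Commute.inv_right (a1 x : Commute x z)
      have i2 : ∀ x, x * z'⁻¹ = z'⁻¹ * x := fun x => Commute.inv_right (a2 x : Commute x z')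
      calc n * z * (n' * z') * (z⁻¹ * n⁻¹) * (z'⁻¹ * n'⁻¹)
          = n * (z * (n' * z')) * z⁻¹ * n⁻¹ * z'⁻¹ * n'⁻¹ := by group
        _ = n * (n' * z') * n⁻¹ * z'⁻¹ * n'⁻¹ := by rw [← a1 (n' * z')]; group
        _ = n * n' * (z' * n⁻¹) * z'⁻¹ * n'⁻¹ := by group
        _ = n * n' * n⁻¹ * n'⁻¹ := by rw [← a2 n⁻¹]; group
    rw [e, commutatorElement_def]
    exact mul_mem (mul_mem (mul_mem hn' hn'') (inv_mem hn')) (inv_mem hn'')

theorem exists_sq_ne_one {F : Type*} [Field F] (h : Nat.card F = 0 ∨ 4 ≤ Nat.card F) :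
    ∃ a : F, a ≠ 0 ∧ a ^ 2 ≠ 1 := by
  classical
  by_contra hc
  push Not at hc
  have hsub : (Set.univ : Set F) ⊆ {0, 1, -1} := by
    intro a _
    by_cases ha : a = 0
    · exact Or.inl ha
    · have h1 : (a - 1) * (a + 1) = 0 := by linear_combination hc a ha
      rcases mul_eq_zero.1 h1 with h1 | h1
      · exact Or.inr (Or.inl (sub_eq_zero.1 h1))
      · exact Or.inr (Or.inr (eq_neg_of_add_eq_zero_left h1))
  have hfin : (Set.univ : Set F).Finite := (Set.toFinite _).subset hsub
  haveI : Finite F := Set.finite_univ_iff.1 hfin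
  have h3 := Set.ncard_le_ncard hsub
  rw [Set.ncard_univ] at h3
  have := (Set.ncard_insert_le (0 : F) {1, -1}).trans (Nat.add_le_add_right (Set.ncard_insert_le (1 : F) {-1}) 1)
  rw [Set.ncard_singleton] at this
  have := Nat.card_pos (α := F)
  omega

theorem five_le_card {k : Type*} [Field k] [Finite k] (h2 : (2 : k) ≠ 0) (h3 : Nat.card k ≠ 3) :
    5 ≤ Nat.card k := by
  haveI := Fintype.ofFinite k
  rw [Nat.card_eq_fintype_card] at h3 ⊢
  obtain ⟨n, hp, hn⟩ := FiniteField.card k (ringChar k)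
  have h2' : ringChar k ≠ 2 := fun e => h2 (by
    haveI := ringChar.of_eq e
    exact CharTwo.two_eq_zero)
  have := hp.two_le
  have hge : ringChar k ≤ Fintype.card k := by rw [hn]; exact Nat.le_self_pow n.ne_zero _
  by_contra hlt
  have h4 : Fintype.card k ≠ 4 := fun e => by
    have : ringChar k ∣ 2 ^ 2 := by
      rw [show (2 : ℕ) ^ 2 = Fintype.card k by rw [e]; norm_num, hn]
      exact dvd_pow_self _ n.ne_zero
    exact h2' ((Nat.prime_dvd_prime_iff_eq hp Nat.prime_two).1 (hp.dvd_of_dvd_pow this))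
  omega

theorem card_eq_zero_or {k F : Type*} [Field k] [Field F] [Algebra k F] (h2 : (2 : k) ≠ 0) (h3 : Nat.card k ≠ 3) :
    Nat.card F = 0 ∨ 4 ≤ Nat.card F := by
  rcases finite_or_infinite F with hF | hF
  · right
    haveI : Finite k := Finite.of_injective _ (algebraMap k F).injective
    have := five_le_card h2 h3
    have := Nat.card_le_card_of_injective _ (algebraMap k F).injective
    omega
  · exact Or.inl Nat.card_eq_zero_of_infinite

theorem mul_entries {A : Type*} [CommRing A] (J : Ideal A) {i j : ℕ} {M N : Matrix (Fin 2) (Fin 2) A}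
    (hM : ∀ a b, M a b ∈ J ^ i) (hN : ∀ a b, N a b ∈ J ^ j) (a b : Fin 2) : (M * N) a b ∈ J ^ (i + j) := by
  rw [Matrix.mul_apply, pow_add]
  exact sum_mem fun c _ => Ideal.mul_mem_mul (hM a c) (hN c b)

theorem map_pairGroup {k A B : Type*} [Field k] [CommRing A] [CommRing B] [Algebra k A] [Algebra k B]
    (φ : A →ₐ[k] B) (x : A) :
    (pairGroup k x).map (Matrix.SpecialLinearGroup.map φ.toRingHom) = pairGroup k (φ x) := by
  rw [pairGroup, pairGroup, MonoidHom.map_closure, Set.image_union, ← Set.range_comp, ← Set.range_comp]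
  congr 2 <;> refine congrArg Set.range (funext fun c => ?_)
  · refine ext_two ?_ ?_ ?_ ?_ <;> simp [upper_val]
  · refine ext_two ?_ ?_ ?_ ?_ <;> simp [lower_val]

/-- `[[l, 0], [0, l⁻¹]]` -/
def diagEl {F : Type*} [Field F] (l : F) (hl : l ≠ 0) : SL(2, F) :=
  ⟨!![l, 0; 0, l⁻¹], by simp [Matrix.det_fin_two, hl]⟩

theorem diagEl_val {F : Type*} [Field F] (l : F) (hl : l ≠ 0) :
    (diagEl l hl : Matrix (Fin 2) (Fin 2) F) = !![l, 0; 0, l⁻¹] := rfl

/-- `[[0, 1], [-1, 0]]` -/
def swapEl {A : Type*} [CommRing A] : SL(2, A) := ⟨!![0, 1; -1, 0], by simp [Matrix.det_fin_two]⟩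

theorem swapEl_val {A : Type*} [CommRing A] :
    ((swapEl : SL(2, A)) : Matrix (Fin 2) (Fin 2) A) = !![0, 1; -1, 0] := rfl

/-- **If `upperSet` consists of units and zero, the algebra is a field.** -/
theorem isField_of_upperSet_units {k A : Type*} [Field k] [Finite k] [CommRing A] [Finite A] [Nontrivial A]
    [Algebra k A] (h2 : (2 : k) ≠ 0) (h3 : Nat.card k ≠ 3) {x : A} (hx : IsUnit x)
    (htop : Algebra.adjoin k ({x} : Set A) = ⊤) (hU : ∀ μ ∈ upperSet k x, μ ≠ 0 → IsUnit μ) : IsField A := by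
  classical
  haveI := Fintype.ofFinite k
  haveI : Finite (SL(2, A)) := by
    haveI : Finite (Matrix (Fin 2) (Fin 2) A) := by unfold Matrix; infer_instance
    exact Subtype.finite
  obtain ⟨n, hpp, hn⟩ := FiniteField.card k (ringChar k)
  set p := ringChar k with hp
  haveI : Fact p.Prime := ⟨hpp⟩
  have hp2 : p ≠ 2 := fun e => h2 (by
    haveI := ringChar.of_eq e
    exact CharTwo.two_eq_zero)
  have hpA : (p : A) = 0 := by
    rw [← map_natCast (algebraMap k A), ringChar.Nat.cast_ringChar, map_zero]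
  set H := pairGroup k x with hH
  have h1H : upper (1 : A) ∈ H := by simpa using upper_mem (k := k) x 1
  obtain ⟨m, hm⟩ := Ideal.exists_maximal A
  -- the reduction at a maximal ideal
  have hsurj : ∀ P : Ideal A, ∀ [P.IsMaximal], H.map (Matrix.SpecialLinearGroup.map (Ideal.Quotient.mk P)) = ⊤ := by
    intro P hP
    letI := Ideal.Quotient.field P
    haveI : Module.Finite k A := Module.Finite.of_finite
    haveI : Finite (A ⧸ P) := Finite.of_surjective _ Ideal.Quotient.mk_surjective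
    haveI : Module.Finite k (A ⧸ P) := Module.Finite.of_finite
    have h := map_pairGroup (Ideal.Quotient.mkₐ k P) x
    rw [show ((Ideal.Quotient.mkₐ k P).toRingHom : A →+* A ⧸ P) = Ideal.Quotient.mk P from rfl] at h
    rw [hH, h]
    refine pairGroup_eq_top h2 h3 (hx.map (Ideal.Quotient.mk P)).ne_zero ?_
    rw [eq_top_iff]
    intro y _
    have hy : y ∈ Algebra.adjoin k ({(Ideal.Quotient.mkₐ k P) x} : Set (A ⧸ P)) := by
      rw [← Set.image_singleton, ← AlgHom.map_adjoin, htop, Algebra.map_top, AlgHom.mem_range]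
      exact Ideal.Quotient.mk_surjective y
    exact IntermediateField.algebra_adjoin_le_adjoin k _ hy
  letI := Ideal.Quotient.field m
  set π := Matrix.SpecialLinearGroup.map (n := Fin 2) (Ideal.Quotient.mk m) with hπ
  set N := H ⊓ π.ker with hN
  have hπu : ∀ a, π (upper a) = upper (Ideal.Quotient.mk m a) := fun a => by
    refine ext_two ?_ ?_ ?_ ?_ <;> simp [hπ, upper_val]
  have hπl : ∀ a, π (lower a) = lower (Ideal.Quotient.mk m a) := fun a => by
    refine ext_two ?_ ?_ ?_ ?_ <;> simp [hπ, lower_val]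
  have hUm : ∀ s ∈ upperSet k x, Ideal.Quotient.mk m s = 0 → s = 0 := by
    intro s hs h0
    by_contra hne
    exact hm.ne_top (Ideal.eq_top_of_isUnit_mem _ (Ideal.Quotient.eq_zero_iff_mem.1 h0) (hU s hs hne))
  have hNp : ¬ p ∣ Nat.card N := by
    intro hd
    obtain ⟨s, hs, hsN⟩ := exists_upper_of_dvd hp2 hpA N (fun g hg => Subgroup.mem_inf.2 ⟨mul_mem (mul_mem h1H hg.1) (inv_mem h1H), by
      show π _ = 1
      rw [map_mul, map_mul, show π g = 1 from hg.2, mul_one, map_inv, mul_inv_cancel]⟩) hd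
    exact hs (hUm s hsN.1 (upper_injective (by rw [upper_zero, ← hπu]; exact hsN.2)))
  have hcop : ∀ {g : SL(2, A)}, g ∈ N → ∀ j : ℕ, g ^ p ^ j = 1 → g = 1 := by
    intro g hg j hgj
    have h1 : orderOf g ∣ p ^ j := orderOf_dvd_of_pow_eq_one hgj
    have h4 : orderOf g ∣ Nat.card N := by
      rw [← Subgroup.orderOf_mk g hg]; exact orderOf_dvd_natCard _
    exact orderOf_eq_one_iff.1 (Nat.eq_one_of_dvd_one ((Nat.Coprime.pow_left j
      ((Nat.Prime.coprime_iff_not_dvd hpp).2 hNp)).gcd_eq_one ▸ Nat.dvd_gcd h1 h4))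
  -- the kernel is central
  have hcen : ∀ a ∈ N, ∀ g ∈ H, a * g = g * a := by
    intro a ha g hg
    rw [← commutatorElement_eq_one_iff_mul_comm]
    have hcN : ⁅a, g⁆ ∈ N := Subgroup.mem_inf.2 ⟨mul_mem (mul_mem (mul_mem ha.1 hg) (inv_mem ha.1)) (inv_mem hg), by
      show π _ = 1
      rw [map_commutatorElement, show π a = 1 from ha.2, commutatorElement_one_left]⟩
    set J := nilradical A
    have hent : ∀ i j, ((⁅a, g⁆ : SL(2, A)) : Matrix (Fin 2) (Fin 2) A) i j -
        (1 : Matrix (Fin 2) (Fin 2) A) i j ∈ J := by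
      intro i j
      show _ ∈ nilradical A
      rw [nilradical_eq_sInf, Submodule.mem_sInf]
      rintro (P : Ideal A) (hP : Ideal.IsPrime P)
      haveI := hP
      haveI : Finite (A ⧸ P) := Finite.of_surjective _ Ideal.Quotient.mk_surjective
      haveI : P.IsMaximal := Ideal.Quotient.maximal_of_isField _ (Finite.isField_of_domain _)
      letI := Ideal.Quotient.field P
      set ρ := Matrix.SpecialLinearGroup.map (n := Fin 2) (Ideal.Quotient.mk P) with hρ
      haveI hnorm : (N.map ρ).Normal := ⟨fun y hy z => by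
        obtain ⟨y, hy, rfl⟩ := hy
        obtain ⟨z, hz, rfl⟩ : z ∈ H.map ρ := (hsurj P).symm ▸ Subgroup.mem_top z
        exact ⟨z * y * z⁻¹, Subgroup.mem_inf.2 ⟨mul_mem (mul_mem hz hy.1) (inv_mem hz), by
          show π _ = 1
          rw [map_mul, map_mul, show π y = 1 from hy.2, mul_one, map_inv, mul_inv_cancel]⟩, by
          rw [map_mul, map_mul, map_inv]⟩⟩
      have hc : N.map ρ ≤ Subgroup.center SL(2, A ⧸ P) := by
        by_contra hnc
        have ht := normal_eq_top (exists_sq_ne_one (card_eq_zero_or (k := k) h2 h3)) (N.map ρ) hnc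
        refine hNp (dvd_trans ?_ (Subgroup.card_map_dvd (H := N) ρ))
        rw [ht, Subgroup.card_top]
        have hpP : (p : A ⧸ P) = 0 := by rw [← map_natCast (Ideal.Quotient.mk P), hpA, map_zero]
        have hu : upper (1 : A ⧸ P) ^ p = 1 := by rw [upper_pow, hpP, zero_mul, upper_zero]
        have hne : upper (1 : A ⧸ P) ≠ 1 := fun e => one_ne_zero (upper_injective (e.trans upper_zero.symm))
        exact orderOf_eq_prime hu hne ▸ orderOf_dvd_natCard _
      have h1 : ρ ⁅a, g⁆ = 1 := by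
        rw [map_commutatorElement, commutatorElement_eq_one_iff_mul_comm]
        exact (Subgroup.mem_center_iff.1 (hc ⟨a, ha, rfl⟩) (ρ g)).symm
      rw [← Ideal.Quotient.eq_zero_iff_mem, map_sub, sub_eq_zero]
      have h4 := congrArg (fun M : SL(2, A ⧸ P) => (M : Matrix (Fin 2) (Fin 2) (A ⧸ P)) i j) h1
      refine Eq.trans h4 ?_
      fin_cases i <;> fin_cases j <;> simp
    obtain ⟨e, he⟩ : IsNilpotent J := IsArtinianRing.isNilpotent_nilradical (R := A)
    set D := ((⁅a, g⁆ : SL(2, A)) : Matrix (Fin 2) (Fin 2) A) - 1 with hD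
    have hDpow : ∀ i : ℕ, ∀ a b, (D ^ i) a b ∈ J ^ i := by
      intro i
      induction i with
      | zero => intro a b; simp
      | succ i ih =>
        intro a b
        rw [pow_succ]
        exact mul_entries J ih (j := 1) (fun a b => by rw [pow_one]; exact hent a b) a b
    obtain ⟨i, hi⟩ : ∃ i : ℕ, e ≤ p ^ i := ⟨e, (Nat.lt_pow_self hpp.one_lt).le⟩
    refine hcop hcN i (Subtype.ext ?_)
    haveI : CharP A p := by
      rcases CharP.exists A with ⟨q, hq⟩
      have hqp : q ∣ p := (CharP.cast_eq_zero_iff A q p).1 hpA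
      rcases (Nat.dvd_prime hpp).1 hqp with rfl | rfl
      · exact absurd rfl (CharP.char_ne_one A 1)
      · exact hq
    rw [Matrix.SpecialLinearGroup.coe_pow, Matrix.SpecialLinearGroup.coe_one,
      show ((⁅a, g⁆ : SL(2, A)) : Matrix (Fin 2) (Fin 2) A) = 1 + D by rw [hD]; abel,
      add_pow_char_pow_of_commute (p := p) i (Commute.one_left D), one_pow, add_eq_left]
    ext a b
    have := Ideal.pow_le_pow_right hi (hDpow (p ^ i) a b)
    rwa [he, Ideal.zero_eq_bot, Ideal.mem_bot] at this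
  have uniq : ∀ g ∈ H, ∀ h ∈ H, π g = π h → g ^ p = 1 → h ^ p = 1 → g = h := by
    intro g hg h hh e egp ehp
    have hnN : h⁻¹ * g ∈ N := Subgroup.mem_inf.2 ⟨mul_mem (inv_mem hh) hg, by
      show π _ = 1
      rw [map_mul, map_inv, e, inv_mul_cancel]⟩
    have hc : Commute h (h⁻¹ * g) := (hcen _ hnN h hh).symm
    have h1 : (h⁻¹ * g) ^ p ^ 1 = 1 := by
      rw [pow_one]
      have := hc.mul_pow p
      rw [mul_inv_cancel_left, egp, ehp, one_mul] at this
      exact this.symm
    have := hcop hnN 1 h1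
    exact (inv_mul_eq_one.1 this).symm
  have upow : ∀ s : A, upper s ^ p = 1 := fun s => by rw [upper_pow, hpA, zero_mul, upper_zero]
  have lpow : ∀ s : A, lower s ^ p = 1 := fun s => by rw [lower_pow, hpA, zero_mul, lower_zero]
  have hlift : ∀ κ : A ⧸ m, ∃ s ∈ upperSet k x, Ideal.Quotient.mk m s = κ := by
    intro κ
    obtain ⟨g, hg, hgκ⟩ : upper κ ∈ H.map π := (hsurj m).symm ▸ Subgroup.mem_top _
    set j := Nat.card N
    obtain ⟨e, he⟩ : ∃ e : ℕ, ((e * j : ℕ) : k) = 1 := by
      have hj : (j : k) ≠ 0 := fun h => hNp ((ringChar.spec k j).1 h)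
      haveI : CharP k p := ringChar.charP k
      obtain ⟨e, he⟩ := ZMod.natCast_zmod_surjective (n := p) ((j : ZMod p)⁻¹)
      refine ⟨e, ?_⟩
      have hjz : (j : ZMod p) ≠ 0 := fun h => hNp ((ZMod.natCast_eq_zero_iff _ _).1 h)
      have h1 : ((e * j : ℕ) : ZMod p) = 1 := by push_cast; rw [he, inv_mul_cancel₀ hjz]
      have := congrArg (ZMod.castHom dvd_rfl k) h1
      rwa [map_natCast, map_one] at this
    have hgp : g ^ p ∈ N := ⟨pow_mem hg p, by
      show π _ = 1
      rw [map_pow, hgκ]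
      have : (p : A ⧸ m) = 0 := by rw [← map_natCast (Ideal.Quotient.mk m), hpA, map_zero]
      rw [upper_pow, this, zero_mul, upper_zero]⟩
    set g' := g ^ (e * j) with hg'
    have hg'H : g' ∈ H := pow_mem hg _
    have hπg' : π g' = upper κ := by
      rw [hg', map_pow, hgκ, upper_pow]
      have : ((e * j : ℕ) : A ⧸ m) = 1 := by
        rw [← map_natCast (algebraMap k (A ⧸ m)), he, map_one]
      rw [this, one_mul]
    have hg'p : g' ^ p = 1 := by
      rw [hg', ← pow_mul, show e * j * p = p * j * e by ring, pow_mul, pow_mul]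
      have h1 : (g ^ p) ^ j = 1 := by
        have := pow_card_eq_one' (G := N) (x := ⟨_, hgp⟩)
        exact congrArg Subtype.val this
      rw [h1, one_pow]
    have hcomm : upper 1 * g' = g' * upper 1 := by
      have h := uniq (upper 1 * g' * (upper 1)⁻¹) (mul_mem (mul_mem h1H hg'H) (inv_mem h1H)) g' hg'H (by
        rw [map_mul, map_mul, map_inv, hπg', hπu, upper_mul, upper_inv, upper_mul]
        simp) (by rw [conj_pow, hg'p, mul_one, mul_inv_cancel]) hg'p
      exact mul_inv_eq_iff_eq_mul.1 h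
    have h2' := sq_of_comm_upper_one hcomm
    set s := 2 * ((g' : Matrix (Fin 2) (Fin 2) A) 0 0 * (g' : Matrix (Fin 2) (Fin 2) A) 0 1)
    refine ⟨(2 : k)⁻¹ • s, Submodule.smul_mem _ _ (show upper s ∈ H from h2' ▸ mul_mem hg'H hg'H), ?_⟩
    have h5 : Ideal.Quotient.mk m s = κ + κ := upper_injective (by
      rw [← hπu, ← h2', map_mul, hπg', upper_mul])
    rw [Algebra.smul_def, map_mul, h5, Ideal.Quotient.mk_algebraMap, ← Algebra.smul_def, ← two_smul k κ,
      inv_smul_smul₀ h2]
  choose ψ hψU hψ using hlift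
  have hψu : ∀ s ∈ upperSet k x, ψ (Ideal.Quotient.mk m s) = s := fun s hs =>
    sub_eq_zero.1 (hUm _ (sub_mem (hψU _) hs) (by rw [map_sub, hψ, sub_self]))
  have hψadd : ∀ a b, ψ (a + b) = ψ a + ψ b := fun a b => by
    conv_lhs => rw [← hψ a, ← hψ b, ← map_add, hψu _ (add_mem (hψU a) (hψU b))]
  have hψ1 : ψ 1 = 1 := by simpa using hψu 1 (one_mem_upperSet x)
  have hψunit : ∀ a, a ≠ 0 → IsUnit (ψ a) := fun a ha => hU _ (hψU a) fun h => ha (by rw [← hψ a, h, map_zero])
  have hsq : ∀ l μ : A ⧸ m, ψ (l * l * μ) = ψ (l * l) * ψ μ := by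
    intro l μ
    rcases eq_or_ne l 0 with rfl | hl
    · have h0 : ψ 0 = 0 := by simpa using hψu 0 (zero_mem _)
      simp [h0]
    obtain ⟨h, hh, hhl⟩ : diagEl l hl ∈ H.map π :=
      (hsurj m).symm ▸ Subgroup.mem_top _
    have key : ∀ μ, h * upper (ψ μ) * h⁻¹ = upper (ψ (l * l * μ)) := fun μ => by
      refine uniq _ (mul_mem (mul_mem hh (hψU μ)) (inv_mem hh)) _ (hψU _) ?_ (by
        rw [conj_pow, upow, mul_one, mul_inv_cancel]) (upow _)
      rw [map_mul, map_mul, map_inv, hhl, hπu, hπu, hψ, hψ]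
      apply mul_inv_eq_of_eq_mul
      refine ext_two ?_ ?_ ?_ ?_ <;> simp [upper_val, diagEl_val, Matrix.mul_apply, Fin.sum_univ_two]
      field_simp
    have k1 := key 1
    rw [hψ1, mul_one, mul_inv_eq_iff_eq_mul] at k1
    have e00 := congrArg (fun M : SL(2, A) => (M : Matrix (Fin 2) (Fin 2) A) 0 0) k1
    simp [upper_val, Matrix.mul_apply, Fin.sum_univ_two] at e00
    have h10 : (h : Matrix (Fin 2) (Fin 2) A) 1 0 = 0 :=
      (hψunit (l * l) (mul_ne_zero hl hl)).mul_right_eq_zero.1 (by linear_combination e00)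
    have k2 : ∀ μ, ψ (l * l * μ) = (h : Matrix (Fin 2) (Fin 2) A) 0 0 ^ 2 * ψ μ := fun μ => by
      have := key μ
      rw [conj_upper h10] at this
      exact (upper_injective this).symm
    have k3 := k2 1
    rw [mul_one, hψ1, mul_one] at k3
    rw [k2 μ, k3]
  have hψmul : ∀ a μ : A ⧸ m, ψ (a * μ) = ψ a * ψ μ := by
    intro a μ
    haveI : Finite (A ⧸ m) := Finite.of_surjective _ Ideal.Quotient.mk_surjective
    haveI := Fintype.ofFinite (A ⧸ m)
    obtain ⟨q, hq⟩ := CharP.exists (A ⧸ m)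
    haveI : Fact q.Prime := ⟨(CharP.char_is_prime_or_zero (A ⧸ m) q).resolve_right
      (CharP.char_ne_zero_of_finite (A ⧸ m) q)⟩
    obtain ⟨u, v, huv⟩ := FiniteField.exists_root_sum_quadratic (f := (Polynomial.X : Polynomial (A ⧸ m)) ^ 2)
      (g := (Polynomial.X : Polynomial (A ⧸ m)) ^ 2 - Polynomial.C a) (Polynomial.degree_X_pow 2)
      (Polynomial.degree_X_pow_sub_C (by norm_num) a) (FiniteField.odd_card_of_char_ne_two (by
        intro hc
        have h0 : ((2 : ℕ) : A ⧸ m) = 0 := (ringChar.spec _ 2).2 (dvd_of_eq hc)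
        rw [← map_natCast (algebraMap k (A ⧸ m))] at h0
        exact h2 (by exact_mod_cast (algebraMap k (A ⧸ m)).injective (h0.trans (map_zero _).symm))))
    have ha : a = u * u + v * v := by
      simp only [Polynomial.eval_pow, Polynomial.eval_X, Polynomial.eval_sub, Polynomial.eval_C] at huv
      linear_combination -huv
    rw [ha, add_mul, hψadd, hψadd, hsq, hsq, add_mul]
  set xm := Ideal.Quotient.mk m x with hxm
  have hxm0 : xm ≠ 0 := (hx.map (Ideal.Quotient.mk m)).ne_zero
  -- `x` is the value at its class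
  have hxψ : ψ xm = x := by
    set b := ψ xm⁻¹ with hb
    set w := upper (1 : A) * lower (-b * x) * upper 1 with hw
    have hlb : lower (-b * x) ∈ H := (lower_mem_iff hx _).2 (neg_mem (hψU _))
    have hwH : w ∈ H := mul_mem (mul_mem h1H hlb) h1H
    have hπw : π w = swapEl := by
      rw [hw, map_mul, map_mul, hπu, hπl, map_one, map_mul, map_neg, hb, hψ, ← hxm, neg_mul,
        inv_mul_cancel₀ hxm0]
      refine ext_two ?_ ?_ ?_ ?_ <;> simp [upper_val, lower_val, swapEl_val, Matrix.mul_apply, Fin.sum_univ_two]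
    have hν : lower (ψ (-xm⁻¹) * x) ∈ H := (lower_mem_iff hx _).2 (hψU _)
    have h := uniq _ (mul_mem (mul_mem hwH h1H) (inv_mem hwH)) _ hν (by
      rw [map_mul, map_mul, map_inv, hπw, hπu, hπl, map_one, map_mul, hψ, ← hxm, neg_mul, inv_mul_cancel₀ hxm0,
        ]
      apply mul_inv_eq_of_eq_mul
      refine ext_two ?_ ?_ ?_ ?_ <;> simp [upper_val, lower_val, swapEl_val, Matrix.mul_apply, Fin.sum_univ_two]) (by
      rw [conj_pow, upow, mul_one, mul_inv_cancel]) (lpow _)
    rw [mul_inv_eq_iff_eq_mul] at h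
    have e01 := congrArg (fun M : SL(2, A) => (M : Matrix (Fin 2) (Fin 2) A) 0 1) h
    simp [upper_val, lower_val, Matrix.mul_apply, Fin.sum_univ_two] at e01
    have hw00 : (w : Matrix (Fin 2) (Fin 2) A) 0 0 = 1 - b * x := by
      simp [hw, upper_val, lower_val, Matrix.mul_apply, Fin.sum_univ_two]
      ring
    rw [hw00, sub_eq_zero] at e01
    calc ψ xm = ψ xm * (b * x) := by rw [← e01, mul_one]
      _ = ψ (xm * xm⁻¹) * x := by rw [hψmul, hb, mul_assoc]
      _ = x := by rw [mul_inv_cancel₀ hxm0, hψ1, one_mul]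
  refine ⟨⟨0, 1, zero_ne_one⟩, mul_comm, fun {a} ha => ?_⟩
  have hall : ∀ a : A, ψ (Ideal.Quotient.mk m a) = a := by
    intro a
    have hmem : a ∈ Algebra.adjoin k ({x} : Set A) := htop ▸ Algebra.mem_top
    induction hmem using Algebra.adjoin_induction with
    | mem y hy => rw [Set.mem_singleton_iff.1 hy, ← hxm, hxψ]
    | algebraMap r => exact hψu _ (upper_mem x r)
    | add y z _ _ hy hz => rw [map_add, hψadd, hy, hz]
    | mul y z _ _ hy hz => rw [map_mul, hψmul, hy, hz]
  exact (hU a (hall a ▸ hψU _) ha).exists_right_inv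

end CfsgLib.QuadPair
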