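import Cfsg.Agent.Lib.QuadPair.Elements
import Cfsg.Agent.Lib.QuadPair.Residue
import Cfsg.Agent.Lib.QuadPair.Derived

/-!
# The minimal polynomial of `αβ` on `[M, σ]`
-/

set_option autoImplicit false
set_option linter.style.haveILetI false

namespace CfsgLib.QuadPair

open Cfsg Polynomial
open scoped MatrixGroups

variable {k : Type*} [Field k] {M : Type*} [AddCommGroup M] [Module k M]

/-- `f` generates the annihilator of `[M, σ]` in `k[αβ]`. -/
def IsAnnPoly (a b : M →ₗ[k] M) (f : k[X]) : Prop :=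
  f ≠ 0 ∧ ∀ p : k[X], f ∣ p ↔ aeval (a * b) p * a = 0

theorem exists_annPoly [FiniteDimensional k M] (a b : M →ₗ[k] M) : ∃ f, IsAnnPoly a b f := by
  classical
  let I : Ideal k[X] :=
    { carrier := {p | aeval (a * b) p * a = 0}
      add_mem' := fun {p q} hp hq => by
        show aeval (a * b) (p + q) * a = 0
        rw [map_add, add_mul, hp, hq, add_zero]
      zero_mem' := by show aeval (a * b) (0 : k[X]) * a = 0; rw [map_zero, zero_mul]
      smul_mem' := fun c p hp => by
        show aeval (a * b) (c * p) * a = 0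
        rw [map_mul, mul_assoc, hp, mul_zero] }
  refine ⟨Submodule.IsPrincipal.generator I, fun h => ?_,
    fun p => (Submodule.IsPrincipal.mem_iff_generator_dvd I).symm⟩
  have hm : minpoly k (a * b) ∈ I := by
    show aeval (a * b) _ * a = 0
    rw [minpoly.aeval, zero_mul]
  rw [Submodule.IsPrincipal.mem_iff_generator_dvd I, h, zero_dvd_iff] at hm
  exact minpoly.ne_zero (IsIntegral.of_finite k (a * b)) hm

theorem finrank_range_map_eq [FiniteDimensional k M] {a P : M →ₗ[k] M}
    (h : Module.finrank k (LinearMap.range a) ≤ Module.finrank k (LinearMap.range (P * a))) :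
    ∀ w ∈ LinearMap.range a, P w = 0 → w = 0 := by
  have hr : LinearMap.range (P * a) = LinearMap.range (P.domRestrict (LinearMap.range a)) := by
    rw [Module.End.mul_eq_comp, LinearMap.range_comp, LinearMap.range_domRestrict]
  rw [hr] at h
  have h1 := LinearMap.finrank_range_add_finrank_ker (P.domRestrict (LinearMap.range a))
  have h2 : LinearMap.ker (P.domRestrict (LinearMap.range a)) = ⊥ := Submodule.finrank_eq_zero.1 (by omega)
  intro w hw hP
  have : (⟨w, hw⟩ : LinearMap.range a) ∈ LinearMap.ker (P.domRestrict (LinearMap.range a)) := hP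
  rw [h2, Submodule.mem_bot] at this
  exact congrArg Subtype.val this

variable {G : Subgroup (LinearMap.GeneralLinearGroup k M)} {σ τ : LinearMap.GeneralLinearGroup k M}

/-- A member of the polynomial group acting as `1 + p(αβ) α` forces `p` to be `0` or a unit modulo `f`. -/
theorem coprime_or_dvd [FiniteDimensional k M] (hσ : σ ∈ minimalQuadraticElements G)
    (hτ : τ ∈ minimalQuadraticElements G) {f : k[X]} (hf : IsAnnPoly (alpha σ) (alpha τ) f) {h : SL(2, k[X])}
    (hh : h ∈ polyPair k) (p : k[X])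
    (hact : ∀ u : kˣ, act (alpha σ) (alpha τ) (scale (Units.map (C : k →+* k[X]).toMonoidHom u) h) =
      1 + (u : k) • (aeval (alpha σ * alpha τ) p * alpha σ)) :
    f ∣ p ∨ IsCoprime p f := by
  classical
  by_cases hp : f ∣ p
  · exact Or.inl hp
  refine Or.inr ?_
  set a := alpha σ
  set b := alpha τ
  set γ := aeval (a * b) p * a with hγ
  have hne : γ ≠ 0 := fun e => hp ((hf.2 p).2 e)
  have ha : a * a = 0 := hσ.1.2.1.1
  have hb : b * b = 0 := hτ.1.2.1.1
  have hsq : γ * γ = 0 := by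
    rw [hγ, mul_assoc, ← mul_assoc a, left_mul_aeval a b ha, smul_mul_assoc, ha, smul_zero, mul_zero]
  have hle : Subgroup.closure (scalarFamily σ ∪ scalarFamily τ) ≤ G :=
    (Subgroup.closure_le _).2 (Set.union_subset hσ.1.2.2 hτ.1.2.2)
  have hfam : ∀ c : k, oneAdd (c • γ) (smul_sq hsq c) ∈ G := by
    intro c
    rcases eq_or_ne c 0 with rfl | hc
    · convert one_mem G using 1
      exact Units.ext (by simp [oneAdd_val])
    · refine hle ?_
      rw [← rho_range ha hb]
      refine ⟨⟨_, polyPair_scale (Units.mk0 c hc) hh⟩, Units.ext ?_⟩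
      rw [rho_val, oneAdd_val]
      exact hact (Units.mk0 c hc)
  have hrank := rank_le_of_family hσ hsq hne hfam
  have hinj := finrank_range_map_eq hrank
  rw [← gcd_isUnit_iff]
  by_contra hnu
  obtain ⟨g₁, hg₁⟩ := gcd_dvd_left p f
  obtain ⟨g₂, hg₂⟩ := gcd_dvd_right p f
  have hg₂f : ¬ f ∣ g₂ := fun hd => by
    obtain ⟨w, hw⟩ := hd
    have hg20 : g₂ ≠ 0 := fun e => hf.1 (by rw [hg₂, e, mul_zero])
    refine hnu (IsUnit.of_mul_eq_one w (mul_right_cancel₀ hg20 ?_))
    rw [one_mul]
    conv_rhs => rw [hw, hg₂]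
    ring
  refine hg₂f ((hf.2 g₂).2 (LinearMap.ext fun v => ?_))
  rw [LinearMap.zero_apply, Module.End.mul_apply]
  refine hinj _ ?_ ?_
  · refine ⟨aeval (b * a) g₂ v, ?_⟩
    rw [← Module.End.mul_apply, ← aeval_mul_left, Module.End.mul_apply]
  · rw [← Module.End.mul_apply, ← map_mul, ← Module.End.mul_apply]
    have : aeval (a * b) (p * g₂) * a = 0 := (hf.2 _).1 ⟨g₁, by
      calc p * g₂ = gcd p f * g₂ * g₁ := by rw [mul_comm (gcd p f) g₂, mul_assoc, ← hg₁, mul_comm]
        _ = f * g₁ := by rw [← hg₂]⟩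
    rw [this, LinearMap.zero_apply]

/-- The entries of a scaled matrix. -/
theorem scale_divX (u : kˣ) (h : SL(2, k[X])) :
    let h' := scale (Units.map (C : k →+* k[X]).toMonoidHom u) h
    ((h' : Matrix (Fin 2) (Fin 2) k[X]) 0 0).divX = ((h : Matrix (Fin 2) (Fin 2) k[X]) 0 0).divX ∧
      (h' : Matrix (Fin 2) (Fin 2) k[X]) 0 1 = C (u : k) * (h : Matrix (Fin 2) (Fin 2) k[X]) 0 1 ∧
      ((h' : Matrix (Fin 2) (Fin 2) k[X]) 1 0).divX = C ((↑u⁻¹ : k)) * ((h : Matrix (Fin 2) (Fin 2) k[X]) 1 0).divX ∧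
      ((h' : Matrix (Fin 2) (Fin 2) k[X]) 1 1).divX = ((h : Matrix (Fin 2) (Fin 2) k[X]) 1 1).divX := by
  intro h'
  have hv : (h' : Matrix (Fin 2) (Fin 2) k[X]) =
      (scaleFun (Units.map (C : k →+* k[X]).toMonoidHom u) h : Matrix (Fin 2) (Fin 2) k[X]) := rfl
  refine ⟨?_, ?_, ?_, ?_⟩ <;> rw [hv, scaleFun_val]
  · simp
  · simp
  · simp [Polynomial.divX_C_mul]
  · simp

/-- Congruences making a member act as `1 + p(αβ) α` after scaling. -/
theorem act_scale_of_congr {a b : M →ₗ[k] M} {f : k[X]} (hf : IsAnnPoly a b f) {h : SL(2, k[X])} {p : k[X]}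
    (h0 : f ∣ ((h : Matrix (Fin 2) (Fin 2) k[X]) 0 0).divX) (h1 : f ∣ (h : Matrix (Fin 2) (Fin 2) k[X]) 0 1 - p)
    (h2 : X * f ∣ ((h : Matrix (Fin 2) (Fin 2) k[X]) 1 0).divX)
    (h3 : f ∣ ((h : Matrix (Fin 2) (Fin 2) k[X]) 1 1).divX) (u : kˣ) :
    act a b (scale (Units.map (C : k →+* k[X]).toMonoidHom u) h) = 1 + (u : k) • (aeval (a * b) p * a) := by
  obtain ⟨e0, e1, e2, e3⟩ := scale_divX u h
  rw [act, e0, e1, e2, e3, phi_congr a b ((hf.2 f).1 dvd_rfl) (p' := 0) (q' := C (u : k) * p) (r' := 0) (s' := 0)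
    (by simpa using h0) (by rw [← mul_sub]; exact h1.mul_left _) (by rw [sub_zero]; exact h2.mul_left _) (by simpa using h3)]
  simp [phi, Algebra.smul_def, mul_assoc]

theorem dvd_divX {f P : k[X]} {c : k} (hP : P.coeff 0 = c) (h : X * f ∣ P - C c) : f ∣ P.divX := by
  obtain ⟨w, hw⟩ := h
  refine ⟨w, ?_⟩
  have := eq_C_add_X_mul P
  rw [hP] at this
  exact mul_left_cancel₀ X_ne_zero (by linear_combination hw - this)

/-- Congruences to the upper unitriangular matrix, in matrix form. -/
theorem divX_congr_of_entries {g : k[X]} {h : SL(2, k[X])} (hh : h ∈ cong k) {p : k[X]}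
    (hd : ∀ i j, g ∣ (h : Matrix (Fin 2) (Fin 2) k[X]) i j - (upper p : Matrix (Fin 2) (Fin 2) k[X]) i j)
    {f : k[X]} (hf : X * (X * f) ∣ g) :
    f ∣ ((h : Matrix (Fin 2) (Fin 2) k[X]) 0 0).divX ∧ f ∣ (h : Matrix (Fin 2) (Fin 2) k[X]) 0 1 - p ∧
      X * f ∣ ((h : Matrix (Fin 2) (Fin 2) k[X]) 1 0).divX ∧ f ∣ ((h : Matrix (Fin 2) (Fin 2) k[X]) 1 1).divX := by
  have hXf : X * f ∣ g := (dvd_mul_left _ _).trans hf
  refine ⟨dvd_divX hh.1 ?_, ?_, dvd_divX hh.2 ?_, dvd_divX (cong_coeff hh) ?_⟩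
  · simpa [upper_val] using hXf.trans (hd 0 0)
  · simpa [upper_val] using ((dvd_mul_left f X).trans hXf).trans (hd 0 1)
  · simpa [upper_val] using hf.trans (hd 1 0)
  · simpa [upper_val] using hXf.trans (hd 1 1)

/-- For invertible `αβ` the action only depends on the matrix modulo `f`. -/
theorem act_scale_of_congr_sep [FiniteDimensional k M] {a b : M →ₗ[k] M} (ha : a * a = 0) {f : k[X]}
    (hf : IsAnnPoly a b f) (hX : ¬ X ∣ f)
    (hd : Module.finrank k (LinearMap.range a) = Module.finrank k (LinearMap.range b))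
    {h : SL(2, k[X])} (hh : h ∈ cong k) {p : k[X]}
    (hdv : ∀ i j, f ∣ (h : Matrix (Fin 2) (Fin 2) k[X]) i j - (upper p : Matrix (Fin 2) (Fin 2) k[X]) i j)
    (u : kˣ) :
    act a b (scale (Units.map (C : k →+* k[X]).toMonoidHom u) h) = 1 + (u : k) • (aeval (a * b) p * a) := by
  classical
  have hco : IsCoprime (X : k[X]) f := (Polynomial.prime_X.irreducible.coprime_iff_not_dvd).2 hX
  have key : ∀ P : k[X], ∀ c : k, P.coeff 0 = c → f ∣ P - C c → f ∣ P.divX := fun P c hP hd' => by
    have h1 := eq_C_add_X_mul P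
    rw [hP] at h1
    rw [show P - C c = X * P.divX by linear_combination h1] at hd'
    exact hco.symm.dvd_of_dvd_mul_left hd'
  obtain ⟨w, hw⟩ := key _ _ hh.2 (by simpa [upper_val] using hdv 1 0)
  obtain ⟨e0, e1, e2, e3⟩ := scale_divX u h
  rw [act, e0, e1, e2, e3]
  have hfa : aeval (a * b) f * a = 0 := (hf.2 f).1 dvd_rfl
  have hfb : b * aeval (a * b) f = 0 := by
    obtain ⟨P, Q, hPQ⟩ := hco
    have hPa : aeval (a * b) (P * X) * a = a := by
      have := congrArg (fun q => aeval (a * b) q * a) hPQ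
      simp only [map_add, add_mul, map_one, one_mul] at this
      rwa [map_mul (aeval (a * b)) Q f, mul_assoc (aeval (a * b) Q), hfa, mul_zero, add_zero] at this
    have hX' : aeval (a * b) (P * X) = aeval (a * b) P * (a * b) := by rw [map_mul, aeval_X]
    have hinjV : ∀ v, b (a v) = 0 → a v = 0 := fun v hv => by
      have h1 : ((a * b) * a) v = 0 := by
        rw [Module.End.mul_apply, Module.End.mul_apply, hv, map_zero]
      have h2 := congrArg (fun F : M →ₗ[k] M => F v) hPa
      rw [hX', mul_assoc, Module.End.mul_apply, h1, map_zero] at h2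
      exact h2.symm
    have hrange : LinearMap.range b = (LinearMap.range a).map b := by
      refine (Submodule.eq_of_le_of_finrank_le LinearMap.map_le_range ?_).symm
      rw [← hd]
      have h3 := LinearMap.finrank_range_add_finrank_ker (b.domRestrict (LinearMap.range a))
      have h4 : LinearMap.ker (b.domRestrict (LinearMap.range a)) = ⊥ := by
        rw [LinearMap.ker_eq_bot']
        rintro ⟨_, v, rfl⟩ hv
        exact Subtype.ext (hinjV v hv)
      rw [h4, finrank_bot, add_zero, LinearMap.range_domRestrict] at h3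
      exact le_of_eq h3.symm
    refine LinearMap.ext fun m => ?_
    rw [LinearMap.zero_apply, Module.End.mul_apply]
    obtain ⟨_, ⟨v, rfl⟩, hv⟩ : b (aeval (a * b) f m) ∈ (LinearMap.range a).map b :=
      hrange ▸ LinearMap.mem_range_self b _
    have h5 : a (b (a v)) = 0 := by
      rw [hv, ← Module.End.mul_apply, ← Module.End.mul_apply]
      have : a * b * aeval (a * b) f = 0 := by
        have hc : a * b * aeval (a * b) f = aeval (a * b) f * (a * b) := by
          have h7 := congrArg (aeval (a * b)) (mul_comm (X : k[X]) f)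
          rwa [map_mul, map_mul, aeval_X] at h7
        rw [hc, ← mul_assoc, hfa, zero_mul]
      rw [this, LinearMap.zero_apply]
    have h6 : a v = 0 := by
      have h2 := congrArg (fun F : M →ₗ[k] M => F v) hPa
      rw [hX', Module.End.mul_apply, Module.End.mul_apply, Module.End.mul_apply, h5, map_zero] at h2
      exact h2.symm
    rw [← hv, h6, map_zero]
  have hphi : ∀ p q r r' s : k[X], f ∣ r - r' → phi a b p q r s = phi a b p q r' s := by
    rintro p q r r' s ⟨z, hz⟩
    rw [eq_add_of_sub_eq hz]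
    simp only [phi, map_add (aeval (a * b)), mul_add, map_mul]
    rw [← mul_assoc b, hfb, zero_mul, zero_add]
  rw [hphi _ _ (C ((↑u⁻¹ : k)) * ((h : Matrix (Fin 2) (Fin 2) k[X]) 1 0).divX) 0 _
      (by rw [sub_zero, hw]; exact ⟨C ((↑u⁻¹ : k)) * w, by ring⟩),
    phi_congr a b hfa (p' := 0) (q' := C (u : k) * p) (r' := 0) (s' := 0)
      (by rw [sub_zero]; exact key _ _ hh.1 (by simpa [upper_val] using hdv 0 0))
      (by rw [← mul_sub]; exact Dvd.dvd.mul_left (by simpa [upper_val] using hdv 0 1) _) (by simp)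
      (by rw [sub_zero]; exact key _ _ (cong_coeff hh) (by simpa [upper_val] using hdv 1 1))]
  simp [phi, Algebra.smul_def, mul_assoc]

/-- The invertible case: the annihilator is irreducible. -/
theorem irreducible_of_not_X_dvd [FiniteDimensional k M] (h2 : (2 : k) ≠ 0) (h3 : Nat.card k ≠ 3)
    (hσ : σ ∈ minimalQuadraticElements G) (hτ : τ ∈ minimalQuadraticElements G) {f : k[X]}
    (hf : IsAnnPoly (alpha σ) (alpha τ) f) (hX : ¬ X ∣ f) : Irreducible f := by
  classical
  have hfu : ¬ IsUnit f := fun hu => hσ.1.2.1.2 (by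
    show alpha σ = 0
    have := (hf.2 1).1 (hu.dvd)
    rwa [map_one, one_mul] at this)
  have hd : Module.finrank k (LinearMap.range (alpha σ)) = Module.finrank k (LinearMap.range (alpha τ)) :=
    le_antisymm (hσ.2 _ hτ.1) (hτ.2 _ hσ.1)
  let pb := AdjoinRoot.powerBasis hf.1
  haveI : Module.Finite k (AdjoinRoot f) := pb.finite
  have hgen : pb.gen = AdjoinRoot.root f := AdjoinRoot.powerBasis_gen hf.1
  have hroot : IsUnit (AdjoinRoot.root f) := by
    obtain ⟨P, Q, hPQ⟩ := (Polynomial.prime_X.irreducible.coprime_iff_not_dvd (n := f)).2 hX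
    refine IsUnit.of_mul_eq_one (AdjoinRoot.mk f P) ?_
    have := congrArg (AdjoinRoot.mk f) hPQ
    rwa [map_add, map_mul, map_mul, AdjoinRoot.mk_self, mul_zero, add_zero, AdjoinRoot.mk_X, map_one, mul_comm] at this
  have himg : (polyPair k).map (Matrix.SpecialLinearGroup.map (AdjoinRoot.mk f)) =
      pairGroup k (AdjoinRoot.root f) := by
    rw [polyPair, pairGroup, MonoidHom.map_closure, Set.image_union, ← Set.range_comp, ← Set.range_comp]
    congr 2 <;> refine congrArg Set.range (funext fun c => ?_)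
    · rw [Function.comp_apply, map_upper, AdjoinRoot.mk_C]; rfl
    · rw [Function.comp_apply, map_lower, map_mul, AdjoinRoot.mk_C, AdjoinRoot.mk_X]; rfl
  have hU : ∀ μ ∈ upperSet k (AdjoinRoot.root f), μ ≠ 0 → IsUnit μ := by
    intro μ hμ hne
    obtain ⟨p, rfl⟩ := AdjoinRoot.mk_surjective μ
    obtain ⟨h, hh, hhμ⟩ : upper (AdjoinRoot.mk f p) ∈
        (polyPair k).map (Matrix.SpecialLinearGroup.map (AdjoinRoot.mk f)) := himg ▸ hμ
    have hdv : ∀ i j, f ∣ (h : Matrix (Fin 2) (Fin 2) k[X]) i j - (upper p : Matrix (Fin 2) (Fin 2) k[X]) i j := by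
      intro i j
      rw [← AdjoinRoot.mk_eq_mk]
      have h1 := congrArg (fun g : SL(2, AdjoinRoot f) => (g : Matrix (Fin 2) (Fin 2) (AdjoinRoot f)) i j) hhμ
      refine Eq.trans h1 ?_
      fin_cases i <;> fin_cases j <;> simp [upper_val]
    rcases coprime_or_dvd hσ hτ hf hh p
      (act_scale_of_congr_sep hσ.1.2.1.1 hf hX hd (polyPair_le hh) hdv) with hd' | hc
    · exact absurd (AdjoinRoot.mk_eq_zero.2 hd') hne
    · obtain ⟨P, Q, hPQ⟩ := hc
      refine IsUnit.of_mul_eq_one (AdjoinRoot.mk f P) ?_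
      have := congrArg (AdjoinRoot.mk f) hPQ
      rwa [map_add, map_mul, map_mul, AdjoinRoot.mk_self, mul_zero, add_zero, map_one, mul_comm] at this
  haveI : Nontrivial (AdjoinRoot f) := by
    refine ⟨⟨0, 1, fun h => hfu ?_⟩⟩
    rw [← map_one (AdjoinRoot.mk f), eq_comm, AdjoinRoot.mk_eq_zero] at h
    exact isUnit_of_dvd_one h
  have hfield : IsField (AdjoinRoot f) := by
    rcases finite_or_infinite k with hk | hk
    · haveI : Finite (AdjoinRoot f) := Module.finite_of_finite k
      exact isField_of_upperSet_units h2 h3 hroot AdjoinRoot.adjoinRoot_eq_top hU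
    · refine ⟨⟨0, 1, zero_ne_one⟩, mul_comm, fun {a} ha => (hU a ?_ ha).exists_right_inv⟩
      have := upperSet_eq_top_of_infinite pb h2 (hgen ▸ hroot)
      rw [hgen] at this
      rw [this]
      exact Submodule.mem_top
  exact ((Ideal.span_singleton_prime hf.1).1 (Ideal.Quotient.maximal_of_isField _ hfield).isPrime).irreducible

/-- A deep element acting like a nontrivial upper matrix modulo a factor prime to `X`. -/
theorem exists_deep_upper (h2 : (2 : k) ≠ 0) (h3 : Nat.card k ≠ 3) {g : k[X]} (hg0 : g ≠ 0) (hgu : ¬ IsUnit g)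
    (hX : ¬ X ∣ g) (N : ℕ) :
    ∃ h ∈ derivedIter (polyPair k) N, ∃ p : k[X], ¬ g ∣ p ∧
      ∀ i j, g ∣ (h : Matrix (Fin 2) (Fin 2) k[X]) i j - (upper p : Matrix (Fin 2) (Fin 2) k[X]) i j := by
  classical
  let pb := AdjoinRoot.powerBasis hg0
  haveI : Module.Finite k (AdjoinRoot g) := pb.finite
  have hgen : pb.gen = AdjoinRoot.root g := AdjoinRoot.powerBasis_gen hg0
  have hroot : IsUnit (AdjoinRoot.root g) := by
    obtain ⟨P, Q, hPQ⟩ := (Polynomial.prime_X.irreducible.coprime_iff_not_dvd (n := g)).2 hX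
    refine IsUnit.of_mul_eq_one (AdjoinRoot.mk g P) ?_
    have := congrArg (AdjoinRoot.mk g) hPQ
    rwa [map_add, map_mul, map_mul, AdjoinRoot.mk_self, mul_zero, add_zero, AdjoinRoot.mk_X, map_one, mul_comm] at this
  haveI : Nontrivial (AdjoinRoot g) := by
    refine ⟨⟨0, 1, fun h => hgu ?_⟩⟩
    rw [← map_one (AdjoinRoot.mk g), eq_comm, AdjoinRoot.mk_eq_zero] at h
    exact isUnit_of_dvd_one h
  set π := Matrix.SpecialLinearGroup.map (n := Fin 2) (AdjoinRoot.mk g) with hπ
  have himg : (polyPair k).map π = pairGroup k (AdjoinRoot.root g) := by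
    rw [polyPair, pairGroup, MonoidHom.map_closure, Set.image_union, ← Set.range_comp, ← Set.range_comp]
    congr 2 <;> refine congrArg Set.range (funext fun c => ?_)
    · rw [Function.comp_apply, hπ, map_upper, AdjoinRoot.mk_C]; rfl
    · rw [Function.comp_apply, hπ, map_lower, map_mul, AdjoinRoot.mk_C, AdjoinRoot.mk_X]; rfl
  set D := derivedIter (pairGroup k (AdjoinRoot.root g)) N with hD
  obtain ⟨t, ht, ht2⟩ := exists_sq_ne_one (card_eq_zero_or (k := k) (F := k) h2 h3)
  obtain ⟨s, hs, hsD⟩ : ∃ s : AdjoinRoot g, s ≠ 0 ∧ upper s ∈ D := by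
    rcases finite_or_infinite k with hk | hk
    · haveI := Fintype.ofFinite k
      obtain ⟨n, hpp, hn⟩ := FiniteField.card k (ringChar k)
      haveI : Fact (ringChar k).Prime := ⟨hpp⟩
      haveI : Finite (AdjoinRoot g) := Module.finite_of_finite k
      haveI : Finite (SL(2, AdjoinRoot g)) := by
        haveI : Finite (Matrix (Fin 2) (Fin 2) (AdjoinRoot g)) := by unfold Matrix; infer_instance
        exact Subtype.finite
      have hpA : ((ringChar k : ℕ) : AdjoinRoot g) = 0 := by
        rw [← map_natCast (algebraMap k (AdjoinRoot g)), ringChar.Nat.cast_ringChar, map_zero]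
      have hp2 : ringChar k ≠ 2 := fun e => h2 (by
        haveI := ringChar.of_eq e
        exact CharTwo.two_eq_zero)
      obtain ⟨q, hq, hqg⟩ := WfDvdMonoid.exists_irreducible_factor hgu hg0
      haveI : Fact (Irreducible q) := ⟨hq⟩
      haveI : Module.Finite k (AdjoinRoot q) := (AdjoinRoot.powerBasis hq.ne_zero).finite
      have hqX : AdjoinRoot.root q ≠ 0 := by
        rw [← AdjoinRoot.mk_X, Ne, AdjoinRoot.mk_eq_zero]
        exact fun hd => hX (((Irreducible.associated_of_dvd hq Polynomial.irreducible_X hd).symm.dvd).trans hqg)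
      have hq0 : q.eval₂ (algebraMap k (AdjoinRoot q)) (AdjoinRoot.root q) = 0 := AdjoinRoot.eval₂_root q
      let φ : AdjoinRoot g →ₐ[k] AdjoinRoot q := AdjoinRoot.liftAlgHom g (Algebra.ofId k (AdjoinRoot q))
        (AdjoinRoot.root q) (by
          obtain ⟨w, hw⟩ := hqg
          show g.eval₂ (algebraMap k (AdjoinRoot q)) (AdjoinRoot.root q) = 0
          rw [hw, Polynomial.eval₂_mul, hq0, zero_mul])
      set ρ := Matrix.SpecialLinearGroup.map (n := Fin 2) φ.toRingHom with hρ
      have hφr : φ (AdjoinRoot.root g) = AdjoinRoot.root q := AdjoinRoot.liftAlgHom_root _ _ _ _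
      have hDmap : ∀ a, upper a ∈ D.map ρ := by
        have h := map_pairGroup φ (AdjoinRoot.root g)
        rw [hφr, pairGroup_eq_top h2 h3 hqX] at h
        · intro a
          rw [hD, map_derivedIter, hρ, h]
          exact (elementary_derivedIter (k := k) ht ht2 ⊤ (fun b => ⟨trivial, trivial⟩) N a).1
        · rw [eq_top_iff]
          intro y _
          have hy : y ∈ Algebra.adjoin k ({AdjoinRoot.root q} : Set (AdjoinRoot q)) := by
            rw [AdjoinRoot.adjoinRoot_eq_top]; exact Algebra.mem_top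
          exact IntermediateField.algebra_adjoin_le_adjoin k _ hy
      refine exists_upper_of_dvd hp2 hpA D
        (fun y hy => derivedIter_conj _ (by simpa using upper_mem (k := k) (AdjoinRoot.root g) 1) N y hy) ?_
      refine dvd_trans ?_ (Subgroup.card_map_dvd (H := D) ρ)
      have hpP : ((ringChar k : ℕ) : AdjoinRoot q) = 0 := by
        rw [← map_natCast (algebraMap k (AdjoinRoot q)), ringChar.Nat.cast_ringChar, map_zero]
      have hu : upper (1 : AdjoinRoot q) ^ ringChar k = 1 := by rw [upper_pow, hpP, zero_mul, upper_zero]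
      have hne : upper (1 : AdjoinRoot q) ≠ 1 := fun e => one_ne_zero (upper_injective (e.trans upper_zero.symm))
      rw [← orderOf_eq_prime hu hne, ← Subgroup.orderOf_mk (upper 1) (hDmap 1)]
      exact orderOf_dvd_natCard _
    · refine ⟨1, one_ne_zero, ?_⟩
      have hall := upperSet_eq_top_of_infinite pb h2 (hgen ▸ hroot)
      rw [hgen] at hall
      have hup : ∀ b, b ∈ upperSet k (AdjoinRoot.root g) := fun b => hall ▸ Submodule.mem_top
      refine (elementary_derivedIter (k := k) ht ht2 _ (fun b => ⟨hup b, ?_⟩) N 1).1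
      have := (lower_mem_iff hroot (b * Ring.inverse (AdjoinRoot.root g))).2 (hup _)
      rwa [mul_assoc, Ring.inverse_mul_cancel _ hroot, mul_one] at this
  rw [hD, ← himg, ← map_derivedIter] at hsD
  obtain ⟨h, hh, hhs⟩ := hsD
  obtain ⟨p, rfl⟩ := AdjoinRoot.mk_surjective s
  refine ⟨h, hh, p, fun hd => hs (AdjoinRoot.mk_eq_zero.2 hd), fun i j => ?_⟩
  rw [← AdjoinRoot.mk_eq_mk]
  have h1 := congrArg (fun y : SL(2, AdjoinRoot g) => (y : Matrix (Fin 2) (Fin 2) (AdjoinRoot g)) i j) hhs
  refine Eq.trans h1 ?_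
  fin_cases i <;> fin_cases j <;> simp [upper_val]

/-- When `αβ` kills something of `[M, σ]`, it kills all of it. -/
theorem aba_eq_zero_of_X_dvd [FiniteDimensional k M] (h2 : (2 : k) ≠ 0) (h3 : Nat.card k ≠ 3)
    (hσ : σ ∈ minimalQuadraticElements G) (hτ : τ ∈ minimalQuadraticElements G) {f : k[X]}
    (hf : IsAnnPoly (alpha σ) (alpha τ) f) (hX : X ∣ f) : alpha σ * alpha τ * alpha σ = 0 := by
  classical
  obtain ⟨g, hfg, hg⟩ := Polynomial.exists_eq_pow_rootMultiplicity_mul_and_not_dvd f hf.1 0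
  rw [map_zero, sub_zero] at hfg hg
  set n := f.rootMultiplicity 0
  have hg0 : g ≠ 0 := fun e => hg (e ▸ dvd_zero X)
  have hn : 1 ≤ n := by
    rcases Nat.eq_zero_or_pos n with h | h
    · rw [hfg, h, pow_zero, one_mul] at hX; exact absurd hX hg
    · exact h
  by_cases hgu : IsUnit g
  · rcases eq_or_lt_of_le hn with h1 | h1
    · have hd : f ∣ X := by rw [hfg, ← h1, pow_one]; exact hgu.mul_right_dvd.2 dvd_rfl
      simpa using (hf.2 X).1 hd
    · exfalso
      obtain ⟨h, hh, he⟩ := dense h2 (n + 1) (upper (X ^ (n - 1))) (upper_mem_cong _)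
      have hXf : X * (X * f) ∣ (X : k[X]) ^ (n + 1 + 1) := by
        rw [pow_succ' X (n + 1), pow_succ' X n, hfg]
        exact mul_dvd_mul_left _ (mul_dvd_mul_left _ (hgu.mul_right_dvd.2 dvd_rfl))
      obtain ⟨c0, c1, c2, c3⟩ := divX_congr_of_entries (polyPair_le hh) (trunc_eq_iff.1 he) hXf
      rcases coprime_or_dvd hσ hτ hf hh _ (act_scale_of_congr hf c0 c1 c2 c3) with hd | hc
      · rw [hfg] at hd
        have := (pow_dvd_pow_iff X_ne_zero Polynomial.not_isUnit_X).1 ((dvd_mul_right _ g).trans hd)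
        omega
      · exact Polynomial.not_isUnit_X (hc.isUnit_of_dvd' (dvd_pow_self X (by omega)) hX)
  · exfalso
    obtain ⟨h, hh, p₀, hp₀, hdv⟩ := exists_deep_upper h2 h3 hg0 hgu hg (n + 2)
    have hhP := derivedIter_le _ _ hh
    have hT : ∀ i j, (X : k[X]) ^ (n + 2) ∣
        (h : Matrix (Fin 2) (Fin 2) k[X]) i j - (1 : SL(2, k[X])) i j :=
      trunc_eq_iff.1 ((derivedIter_trunc (n + 2) (by omega) h (derivedIter_mono polyPair_le _ hh)).trans
        (map_one _).symm)
    have hco : IsCoprime ((X : k[X]) ^ (n + 2)) g :=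
      ((Polynomial.prime_X.irreducible.coprime_iff_not_dvd).2 hg).pow_left
    obtain ⟨u, v, huv⟩ := id hco
    set p := u * X ^ (n + 2) * p₀ with hp
    have hboth : ∀ i j, (X : k[X]) ^ (n + 2) * g ∣
        (h : Matrix (Fin 2) (Fin 2) k[X]) i j - (upper p : Matrix (Fin 2) (Fin 2) k[X]) i j := by
      intro i j
      refine hco.mul_dvd ?_ ?_
      · have h1 := hT i j
        fin_cases i <;> fin_cases j <;> simp [upper_val] at h1 ⊢ <;>
          first | exact h1 | exact dvd_sub h1 ⟨u * p₀, by rw [hp]; ring⟩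
      · have h1 := hdv i j
        fin_cases i <;> fin_cases j <;> simp [upper_val] at h1 ⊢ <;>
          first
          | exact h1
          | (obtain ⟨w, hw⟩ := h1
             exact ⟨w + v * p₀, by rw [hp]; linear_combination hw - p₀ * huv⟩)
    have hXf : X * (X * f) ∣ (X : k[X]) ^ (n + 2) * g := ⟨1, by rw [hfg]; ring⟩
    obtain ⟨c0, c1, c2, c3⟩ := divX_congr_of_entries (polyPair_le hhP) hboth hXf
    rcases coprime_or_dvd hσ hτ hf hhP _ (act_scale_of_congr hf c0 c1 c2 c3) with hd | hc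
    · refine hp₀ ?_
      have h1 : g ∣ p := by rw [hfg] at hd; exact (dvd_mul_left g _).trans hd
      have h4 : p₀ = p + g * (v * p₀) := by rw [hp]; linear_combination -p₀ * huv
      rw [h4]; exact dvd_add h1 (dvd_mul_right _ _)
    · exact Polynomial.not_isUnit_X (hc.isUnit_of_dvd' ⟨u * X ^ (n + 1) * p₀, by rw [hp]; ring⟩ hX)

/-- **The dichotomy for two minimal quadratic elements.** -/
theorem dichotomy [FiniteDimensional k M] (h2 : (2 : k) ≠ 0) (h3 : Nat.card k ≠ 3)
    (hσ : σ ∈ minimalQuadraticElements G) (hτ : τ ∈ minimalQuadraticElements G) :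
    (alpha σ * alpha τ * alpha σ = 0 ∧ alpha τ * alpha σ * alpha τ = 0) ∨
      ∃ f, IsAnnPoly (alpha σ) (alpha τ) f ∧ Irreducible f ∧ ¬ X ∣ f := by
  have key : ∀ {σ τ : LinearMap.GeneralLinearGroup k M}, σ ∈ minimalQuadraticElements G →
      τ ∈ minimalQuadraticElements G → alpha σ * alpha τ * alpha σ = 0 ∨
        ∃ f, IsAnnPoly (alpha σ) (alpha τ) f ∧ Irreducible f ∧ ¬ X ∣ f := by
    intro σ τ hσ hτ
    obtain ⟨f, hf⟩ := exists_annPoly (alpha σ) (alpha τ)
    by_cases hX : X ∣ f
    · exact Or.inl (aba_eq_zero_of_X_dvd h2 h3 hσ hτ hf hX)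
    · exact Or.inr ⟨f, hf, irreducible_of_not_X_dvd h2 h3 hσ hτ hf hX, hX⟩
  rcases key hσ hτ with h | h
  · rcases key hτ hσ with h' | ⟨f, hf, hirr, hX⟩
    · exact Or.inl ⟨h, h'⟩
    · exfalso
      have h4 : aeval (alpha τ * alpha σ) ((X : k[X]) ^ 2) * alpha τ = 0 := by
        rw [map_pow, aeval_X, pow_two]
        simp only [mul_assoc] at h ⊢
        rw [← mul_assoc (alpha σ) (alpha τ) (alpha σ * alpha τ), ← mul_assoc (alpha σ * alpha τ) (alpha σ),
          mul_assoc (alpha σ) (alpha τ) (alpha σ), h, zero_mul, mul_zero]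
      have h5 : f ∣ X := hirr.prime.dvd_of_dvd_pow ((hf.2 _).2 h4)
      exact hX (Irreducible.associated_of_dvd hirr Polynomial.irreducible_X h5).symm.dvd
  · exact Or.inr h

end CfsgLib.QuadPair
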