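import Cfsg.Agent.Lib.QuadPair.SLTwo

/-!
# The polynomial matrix group acting through a pair of square zero elements
-/

set_option autoImplicit false

namespace CfsgLib.QuadPair

open Polynomial
open scoped MatrixGroups

variable {k E : Type*} [Field k] [Ring E] [Algebra k E]

theorem divX_eq {P Q : k[X]} {c : k} (h : P = C c + X * Q) : P.divX = Q := by
  subst h
  ext n
  simp [Polynomial.coeff_divX, Polynomial.coeff_X_mul, Polynomial.coeff_C]

theorem eq_C_add_X_mul (P : k[X]) : P = C (P.coeff 0) + X * P.divX := by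
  rw [add_comm]; exact (Polynomial.X_mul_divX_add P).symm

/-- The polynomial matrices which are upper unitriangular modulo `X`. -/
def cong (k : Type*) [Field k] : Subgroup SL(2, k[X]) where
  carrier := {g | ((g : Matrix (Fin 2) (Fin 2) k[X]) 0 0).coeff 0 = 1 ∧
    ((g : Matrix (Fin 2) (Fin 2) k[X]) 1 0).coeff 0 = 0}
  one_mem' := by simp
  mul_mem' := fun {g h} hg hh => by
    simp only [Set.mem_setOf_eq, Matrix.SpecialLinearGroup.coe_mul, Matrix.mul_apply, Fin.sum_univ_two,
      Polynomial.coeff_add, Polynomial.mul_coeff_zero] at hg hh ⊢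
    simp [hg.1, hg.2, hh.1, hh.2]
  inv_mem' := fun {g} hg => by
    have h := congrArg (fun P => P.coeff 0) (det_eq g)
    simp only [Polynomial.coeff_sub, Polynomial.mul_coeff_zero, hg.1, hg.2, Polynomial.coeff_one_zero] at h
    simp only [Set.mem_setOf_eq, Matrix.SpecialLinearGroup.coe_inv, Matrix.adjugate_fin_two]
    simpa [hg.2] using h

theorem cong_coeff {g : SL(2, k[X])} (hg : g ∈ cong k) :
    ((g : Matrix (Fin 2) (Fin 2) k[X]) 1 1).coeff 0 = 1 := by
  have h := congrArg (fun P => P.coeff 0) (det_eq g)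
  simp only [Polynomial.coeff_sub, Polynomial.mul_coeff_zero, hg.1, hg.2, Polynomial.coeff_one_zero] at h
  simpa using h

variable (a b : E)

/-- The element attached to `[[X p, q], [X r, X s]]`. -/
noncomputable def phi (p q r s : k[X]) : E :=
  aeval (a * b) p * (a * b) + aeval (a * b) q * a + b * aeval (a * b) r + b * aeval (a * b) s * a

theorem left_mul_aeval (ha : a * a = 0) (p : k[X]) : a * aeval (a * b) p = p.coeff 0 • a := by
  induction p using Polynomial.induction_on' with
  | add p q hp hq => rw [map_add, mul_add, hp, hq, Polynomial.coeff_add, add_smul]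
  | monomial n c =>
    rw [Polynomial.aeval_monomial, Polynomial.coeff_monomial]
    rcases n with _ | n
    · simp [Algebra.smul_def, Algebra.commutes c a]
    · rw [if_neg (Nat.succ_ne_zero n), zero_smul, ← mul_assoc, ← Algebra.commutes c a, pow_succ', mul_assoc,
        ← mul_assoc a (a * b) _, ← mul_assoc a a b, ha, zero_mul, zero_mul, mul_zero]

theorem right_mul_aeval (hb : b * b = 0) (p : k[X]) : aeval (a * b) p * b = p.coeff 0 • b := by
  induction p using Polynomial.induction_on' with
  | add p q hp hq => rw [map_add, add_mul, hp, hq, Polynomial.coeff_add, add_smul]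
  | monomial n c =>
    rw [Polynomial.aeval_monomial, Polynomial.coeff_monomial]
    rcases n with _ | n
    · simp [Algebra.smul_def]
    · rw [if_neg (Nat.succ_ne_zero n), zero_smul, mul_assoc, pow_succ, mul_assoc, mul_assoc a b b, hb, mul_zero,
        mul_zero, mul_zero]

/-- `T ^ n a = a (b a) ^ n`. -/
theorem aeval_mul_left (p : k[X]) : aeval (a * b) p * a = a * aeval (b * a) p := by
  induction p using Polynomial.induction_on' with
  | add p q hp hq => simp [map_add, add_mul, mul_add, hp, hq]
  | monomial n c =>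
    have h : ∀ n : ℕ, (a * b) ^ n * a = a * (b * a) ^ n := fun n => by
      induction n with
      | zero => simp
      | succ n ih => rw [pow_succ, pow_succ', mul_assoc, mul_assoc a b a, ← mul_assoc _ a (b * a), ih, mul_assoc, ← pow_succ, pow_succ']
    rw [Polynomial.aeval_monomial, Polynomial.aeval_monomial, mul_assoc, h, ← mul_assoc, Algebra.commutes,
      mul_assoc]

theorem phi_mul (ha : a * a = 0) (hb : b * b = 0) (p q r s p' q' r' s' : k[X]) :
    phi a b p q r s * phi a b p' q' r' s' =
      phi a b (X * (p * p') + q * r') (X * (p * q') + X * (q * s')) (X * (r * p') + X * (s * r'))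
        (r * q' + X * (s * s')) := by
  simp only [phi]
  set T := a * b with hT
  have hX : aeval T (X : k[X]) = T := aeval_X T
  have hcomm : ∀ u : k[X], T * aeval T u = aeval T u * T := fun u => by
    have h := congrArg (aeval T) (mul_comm (X : k[X]) u)
    rwa [map_mul, map_mul, hX] at h
  have hc2 : ∀ (u : k[X]) (z : E), T * (aeval T u * z) = aeval T u * (T * z) := fun u z => by
    rw [← mul_assoc, hcomm, mul_assoc]
  have hab : ∀ z : E, a * (b * z) = T * z := fun z => (mul_assoc a b z).symm
  have haT : a * T = 0 := by rw [hT, ← mul_assoc, ha, zero_mul]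
  have hTb : T * b = 0 := by rw [hT, mul_assoc, hb, mul_zero]
  have z1 : ∀ z : E, T * (b * z) = 0 := fun z => by rw [← mul_assoc, hTb, zero_mul]
  have hal : ∀ u : k[X], a * aeval T u = u.coeff 0 • a := left_mul_aeval a b ha
  have hbr : ∀ u : k[X], aeval T u * b = u.coeff 0 • b := right_mul_aeval a b hb
  have z2 : ∀ (u : k[X]) (z : E), a * (aeval T u * (T * z)) = 0 := fun u z => by
    rw [← mul_assoc, hal, smul_mul_assoc, ← mul_assoc, haT, zero_mul, smul_zero]
  have z2' : ∀ u : k[X], a * (aeval T u * T) = 0 := fun u => by simpa using z2 u 1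
  have z3 : ∀ (u : k[X]) (z : E), a * (aeval T u * (a * z)) = 0 := fun u z => by
    rw [← mul_assoc, hal, smul_mul_assoc, ← mul_assoc, ha, zero_mul, smul_zero]
  have z3' : ∀ u : k[X], a * (aeval T u * a) = 0 := fun u => by simpa using z3 u 1
  have z4 : ∀ (u : k[X]) (z : E), b * (aeval T u * (b * z)) = 0 := fun u z => by
    rw [← mul_assoc (aeval T u) b z, hbr, smul_mul_assoc, mul_smul_comm, ← mul_assoc, hb, zero_mul, smul_zero]
  simp only [add_mul, mul_add, map_add (aeval T), map_mul, hX, mul_assoc, hab, hcomm, hc2, z1, z2, z2', z3, z3', z4,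
    mul_zero, add_zero, zero_add]
  abel

theorem phi_add (p q r s p' q' r' s' : k[X]) :
    phi a b p q r s + phi a b p' q' r' s' = phi a b (p + p') (q + q') (r + r') (s + s') := by
  simp only [phi, map_add, add_mul, mul_add]
  abel

/-- The action attached to a polynomial matrix. -/
noncomputable def act (g : SL(2, k[X])) : E :=
  1 + phi a b ((g : Matrix (Fin 2) (Fin 2) k[X]) 0 0).divX ((g : Matrix (Fin 2) (Fin 2) k[X]) 0 1)
    ((g : Matrix (Fin 2) (Fin 2) k[X]) 1 0).divX ((g : Matrix (Fin 2) (Fin 2) k[X]) 1 1).divX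

theorem act_one : act a b (1 : SL(2, k[X])) = 1 := by
  simp [act, phi]

theorem act_mul (ha : a * a = 0) (hb : b * b = 0) {g h : SL(2, k[X])} (hg : g ∈ cong k) (hh : h ∈ cong k) :
    act a b (g * h) = act a b g * act a b h := by
  have g0 := eq_C_add_X_mul ((g : Matrix (Fin 2) (Fin 2) k[X]) 0 0)
  have g2 := eq_C_add_X_mul ((g : Matrix (Fin 2) (Fin 2) k[X]) 1 0)
  have g3 := eq_C_add_X_mul ((g : Matrix (Fin 2) (Fin 2) k[X]) 1 1)
  have h0 := eq_C_add_X_mul ((h : Matrix (Fin 2) (Fin 2) k[X]) 0 0)
  have h2 := eq_C_add_X_mul ((h : Matrix (Fin 2) (Fin 2) k[X]) 1 0)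
  have h3 := eq_C_add_X_mul ((h : Matrix (Fin 2) (Fin 2) k[X]) 1 1)
  rw [hg.1, C_1] at g0; rw [hg.2, C_0, zero_add] at g2; rw [cong_coeff hg, C_1] at g3
  rw [hh.1, C_1] at h0; rw [hh.2, C_0, zero_add] at h2; rw [cong_coeff hh, C_1] at h3
  simp only [act]
  set p := ((g : Matrix (Fin 2) (Fin 2) k[X]) 0 0).divX
  set q := (g : Matrix (Fin 2) (Fin 2) k[X]) 0 1
  set r := ((g : Matrix (Fin 2) (Fin 2) k[X]) 1 0).divX
  set s := ((g : Matrix (Fin 2) (Fin 2) k[X]) 1 1).divX
  set p' := ((h : Matrix (Fin 2) (Fin 2) k[X]) 0 0).divX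
  set q' := (h : Matrix (Fin 2) (Fin 2) k[X]) 0 1
  set r' := ((h : Matrix (Fin 2) (Fin 2) k[X]) 1 0).divX
  set s' := ((h : Matrix (Fin 2) (Fin 2) k[X]) 1 1).divX
  have m00 : ((g * h : SL(2, k[X])) : Matrix (Fin 2) (Fin 2) k[X]) 0 0 =
      C 1 + X * (p + p' + (X * (p * p') + q * r')) := by
    simp only [Matrix.SpecialLinearGroup.coe_mul, Matrix.mul_apply, Fin.sum_univ_two, g0, h0, h2, C_1, q]
    ring
  have m01 : ((g * h : SL(2, k[X])) : Matrix (Fin 2) (Fin 2) k[X]) 0 1 =
      q + q' + (X * (p * q') + X * (q * s')) := by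
    simp only [Matrix.SpecialLinearGroup.coe_mul, Matrix.mul_apply, Fin.sum_univ_two, g0, h3, q, q']
    ring
  have m10 : ((g * h : SL(2, k[X])) : Matrix (Fin 2) (Fin 2) k[X]) 1 0 =
      C 0 + X * (r + r' + (X * (r * p') + X * (s * r'))) := by
    simp only [Matrix.SpecialLinearGroup.coe_mul, Matrix.mul_apply, Fin.sum_univ_two, g2, g3, h0, h2, C_0]
    ring
  have m11 : ((g * h : SL(2, k[X])) : Matrix (Fin 2) (Fin 2) k[X]) 1 1 =
      C 1 + X * (s + s' + (r * q' + X * (s * s'))) := by
    simp only [Matrix.SpecialLinearGroup.coe_mul, Matrix.mul_apply, Fin.sum_univ_two, g2, g3, h3, C_1, q']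
    ring
  rw [divX_eq m00, m01, divX_eq m10, divX_eq m11, ← phi_add, ← phi_add, ← phi_mul a b ha hb]
  noncomm_ring

/-- The action as a homomorphism into units. -/
noncomputable def actHom (ha : a * a = 0) (hb : b * b = 0) : cong k →* Eˣ :=
  MonoidHom.toHomUnits
    { toFun := fun g => act a b (g : SL(2, k[X]))
      map_one' := act_one a b
      map_mul' := fun g h => act_mul a b ha hb g.2 h.2 }

theorem actHom_val (ha : a * a = 0) (hb : b * b = 0) (g : cong k) :
    (actHom a b ha hb g : E) = act a b (g : SL(2, k[X])) := rfl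

theorem upper_mem_cong (p : k[X]) : upper p ∈ cong k := by
  constructor <;> simp [upper_val]

theorem lower_mem_cong (p : k[X]) : lower (p * X) ∈ cong k := by
  constructor <;> simp [lower_val, Polynomial.mul_coeff_zero]

theorem act_upper (p : k[X]) : act a b (upper p) = 1 + aeval (a * b) p * a := by
  simp [act, phi, upper_val]

theorem act_lower (p : k[X]) : act a b (lower (p * X)) = 1 + b * aeval (a * b) p := by
  have : (p * X : k[X]).divX = p := divX_eq (c := (0 : k)) (by rw [C_0, zero_add, mul_comm])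
  simp [act, phi, lower_val, this]

/-- Two matrices congruent in the appropriate sense act equally. -/
theorem phi_congr {f : k[X]} (hf : aeval (a * b) f * a = 0) {p q r s p' q' r' s' : k[X]}
    (hp : f ∣ p - p') (hq : f ∣ q - q') (hr : X * f ∣ r - r') (hs : f ∣ s - s') :
    phi a b p q r s = phi a b p' q' r' s' := by
  obtain ⟨u, hu⟩ := hp
  obtain ⟨v, hv⟩ := hq
  obtain ⟨w, hw⟩ := hr
  obtain ⟨z, hz⟩ := hs
  have hfT : aeval (a * b) f * (a * b) = 0 := by rw [← mul_assoc, hf, zero_mul]
  have key : ∀ u : k[X], aeval (a * b) (f * u) * a = 0 := fun u => by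
    rw [mul_comm, map_mul, mul_assoc, hf, mul_zero]
  have key2 : ∀ u : k[X], aeval (a * b) (f * u) * (a * b) = 0 := fun u => by
    rw [← mul_assoc, key, zero_mul]
  have key3 : ∀ u : k[X], aeval (a * b) (X * (f * u)) = 0 := fun u => by
    rw [mul_comm X, map_mul, aeval_X, key2]
  rw [eq_add_of_sub_eq hu, eq_add_of_sub_eq hv, eq_add_of_sub_eq hw, eq_add_of_sub_eq hz]
  simp only [phi, map_add (aeval (a * b)), add_mul, mul_add, key, key2, key3, mul_zero, zero_add, mul_assoc]

end CfsgLib.QuadPair
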