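import Cfsg.Prelude.Def_RootSubgroups
import Cfsg.Agent.Lib.QuadPair.Rep
import Cfsg.Agent.Lib.QuadPair.Dense

/-!
# Quadratic elements as `1 + α`
-/

set_option autoImplicit false

namespace CfsgLib.QuadPair

open Cfsg Polynomial
open scoped MatrixGroups

variable {k : Type*} [Field k] {M : Type*} [AddCommGroup M] [Module k M]

/-- `σ - 1`. -/
def alpha (σ : LinearMap.GeneralLinearGroup k M) : M →ₗ[k] M := (σ : M →ₗ[k] M) - 1

theorem alpha_add_one (σ : LinearMap.GeneralLinearGroup k M) : (σ : M →ₗ[k] M) = 1 + alpha σ := by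
  simp [alpha]

/-- The unit `1 + γ` for `γ ^ 2 = 0`. -/
def oneAdd (γ : M →ₗ[k] M) (h : γ * γ = 0) : LinearMap.GeneralLinearGroup k M :=
  ⟨1 + γ, 1 - γ, by rw [show (1 + γ) * (1 - γ) = 1 - γ * γ by noncomm_ring, h, sub_zero],
    by rw [show (1 - γ) * (1 + γ) = 1 - γ * γ by noncomm_ring, h, sub_zero]⟩

theorem oneAdd_val (γ : M →ₗ[k] M) (h : γ * γ = 0) : (oneAdd γ h : M →ₗ[k] M) = 1 + γ := rfl

theorem smul_sq {γ : M →ₗ[k] M} (h : γ * γ = 0) (c : k) : (c • γ) * (c • γ) = 0 := by
  rw [smul_mul_assoc, mul_smul_comm, h, smul_zero, smul_zero]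

theorem IsQuadraticOn.sq {σ : LinearMap.GeneralLinearGroup k M} (h : IsQuadraticOn σ) : alpha σ * alpha σ = 0 := h.1

theorem IsQuadraticOn.ne {σ : LinearMap.GeneralLinearGroup k M} (h : IsQuadraticOn σ) : alpha σ ≠ 0 := h.2

theorem mem_scalarFamily_iff {σ τ : LinearMap.GeneralLinearGroup k M} :
    τ ∈ scalarFamily σ ↔ ∃ c : k, (τ : M →ₗ[k] M) = 1 + c • alpha σ := Iff.rfl

theorem oneAdd_mem_scalarFamily {σ : LinearMap.GeneralLinearGroup k M} (h : alpha σ * alpha σ = 0) (c : k) :
    oneAdd (c • alpha σ) (smul_sq h c) ∈ scalarFamily σ := ⟨c, rfl⟩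

theorem self_mem_scalarFamily (σ : LinearMap.GeneralLinearGroup k M) : σ ∈ scalarFamily σ :=
  ⟨1, by rw [one_smul]; exact alpha_add_one σ⟩

/-- The minimality of the rank, in additive form. -/
theorem rank_le_of_family {G : Subgroup (LinearMap.GeneralLinearGroup k M)} {σ : LinearMap.GeneralLinearGroup k M}
    (hσ : σ ∈ minimalQuadraticElements G) {γ : M →ₗ[k] M} (hsq : γ * γ = 0) (hne : γ ≠ 0)
    (hfam : ∀ c : k, oneAdd (c • γ) (smul_sq hsq c) ∈ G) :
    Module.finrank k (LinearMap.range (alpha σ)) ≤ Module.finrank k (LinearMap.range γ) := by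
  have hα : alpha (oneAdd γ hsq) = γ := by simp [alpha, oneAdd_val]
  have hq : oneAdd γ hsq ∈ quadraticElements G := by
    refine ⟨?_, ⟨?_, ?_⟩, ?_⟩
    · convert hfam 1 using 1
      exact Units.ext (by simp [oneAdd_val])
    · show alpha (oneAdd γ hsq) * alpha (oneAdd γ hsq) = 0
      rw [hα, hsq]
    · show alpha (oneAdd γ hsq) ≠ 0
      rw [hα]; exact hne
    · rintro τ ⟨c, hc⟩
      have : τ = oneAdd (c • γ) (smul_sq hsq c) := Units.ext (by
        rw [hc]
        show 1 + c • alpha (oneAdd γ hsq) = _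
        rw [hα]
        rfl)
      rw [this]; exact hfam c
  have := hσ.2 _ hq
  unfold commutatorRank at this
  rwa [show ((oneAdd γ hsq : LinearMap.GeneralLinearGroup k M) : M →ₗ[k] M) - 1 = γ from hα] at this

/-- Scaling preserves the polynomial group. -/
theorem polyPair_scale (c : kˣ) {h : SL(2, k[X])} (hh : h ∈ polyPair k) :
    scale (Units.map (C : k →+* k[X]).toMonoidHom c) h ∈ polyPair k := by
  induction hh using Subgroup.closure_induction with
  | mem y hy =>
    rcases hy with ⟨d, rfl⟩ | ⟨d, rfl⟩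
    · rw [scale_upper]
      convert polyPair_upper ((c : k) * d) using 2
      simp
    · rw [scale_lower]
      convert polyPair_lower ((↑c⁻¹ : k) * d) using 2
      simp [mul_assoc]
  | one => rw [map_one]; exact one_mem _
  | mul a b _ _ ha hb => rw [map_mul]; exact mul_mem ha hb
  | inv a _ ha => rw [map_inv]; exact inv_mem ha

variable {σ τ : LinearMap.GeneralLinearGroup k M}

/-- The homomorphism from the polynomial group onto the group generated by two scalar families. -/
noncomputable def rho (hσ : alpha σ * alpha σ = 0) (hτ : alpha τ * alpha τ = 0) :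
    polyPair k →* LinearMap.GeneralLinearGroup k M :=
  (actHom (alpha σ) (alpha τ) hσ hτ).comp (Subgroup.inclusion polyPair_le)

theorem rho_val (hσ : alpha σ * alpha σ = 0) (hτ : alpha τ * alpha τ = 0) (g : polyPair k) :
    ((rho hσ hτ g : LinearMap.GeneralLinearGroup k M) : M →ₗ[k] M) = act (alpha σ) (alpha τ) (g : SL(2, k[X])) :=
  rfl

theorem rho_range (hσ : alpha σ * alpha σ = 0) (hτ : alpha τ * alpha τ = 0) :
    (rho hσ hτ).range = Subgroup.closure (scalarFamily σ ∪ scalarFamily τ) := by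
  set S := Set.range (fun c : k => upper (C c)) ∪ Set.range (fun c : k => lower (C c * X)) with hS
  rw [MonoidHom.range_eq_map]
  have htop : Subgroup.closure ((fun g : polyPair k => (g : SL(2, k[X]))) ⁻¹' S) = ⊤ :=
    Subgroup.closure_closure_coe_preimage (k := S)
  rw [← htop, MonoidHom.map_closure]
  congr 1
  have hu : ∀ c : k, act (alpha σ) (alpha τ) (upper (C c)) = 1 + c • alpha σ := fun c => by
    rw [act_upper, aeval_C, Algebra.smul_def]
  have hl : ∀ c : k, act (alpha σ) (alpha τ) (lower (C c * X)) = 1 + c • alpha τ := fun c => by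
    rw [act_lower, aeval_C, ← Algebra.commutes, Algebra.smul_def]
  ext g
  constructor
  · rintro ⟨⟨y, hy⟩, hy' | hy', rfl⟩
    · obtain ⟨c, hc⟩ := hy'
      exact Or.inl ⟨c, by rw [rho_val]; show act _ _ y = _; rw [show y = upper (C c) from hc.symm, hu]; rfl⟩
    · obtain ⟨c, hc⟩ := hy'
      exact Or.inr ⟨c, by rw [rho_val]; show act _ _ y = _; rw [show y = lower (C c * X) from hc.symm, hl]; rfl⟩
  · rintro (⟨c, hc⟩ | ⟨c, hc⟩)
    · exact ⟨⟨_, polyPair_upper c⟩, Or.inl ⟨c, rfl⟩, Units.ext (by rw [rho_val, hu, hc]; rfl)⟩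
    · exact ⟨⟨_, polyPair_lower c⟩, Or.inr ⟨c, rfl⟩, Units.ext (by rw [rho_val, hl, hc]; rfl)⟩

end CfsgLib.QuadPair
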