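import Cfsg.Agent.Lib.QuadPair.Special
import Cfsg.Agent.Lib.QuadPair.Baer

/-!
# Partners and commutators
-/

set_option autoImplicit false

namespace CfsgLib.QuadPair

open Cfsg Polynomial

variable {k : Type*} [Field k] {M : Type*} [AddCommGroup M] [Module k M]

section Algebra

variable {a b : M →ₗ[k] M}

/-- The commutator `αβ - βα`. -/
def bracket (a b : M →ₗ[k] M) : M →ₗ[k] M := a * b - b * a

theorem bracket_left (ha : a * a = 0) (h : IsNilPair a b) : a * bracket a b = 0 ∧ bracket a b * a = 0 := by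
  constructor
  · rw [bracket, mul_sub, ← mul_assoc, ha, zero_mul, ← mul_assoc, h.1, sub_zero]
  · rw [bracket, sub_mul, h.1, mul_assoc, ha, mul_zero, sub_zero]

theorem bracket_right (hb : b * b = 0) (h : IsNilPair a b) : b * bracket a b = 0 ∧ bracket a b * b = 0 := by
  constructor
  · rw [bracket, mul_sub, ← mul_assoc, h.2, ← mul_assoc, hb, zero_mul, sub_zero]
  · rw [bracket, sub_mul, h.2, mul_assoc, hb, mul_zero, sub_zero]

theorem bracket_sq (ha : a * a = 0) (hb : b * b = 0) (h : IsNilPair a b) : bracket a b * bracket a b = 0 := by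
  obtain ⟨-, h1⟩ := bracket_left ha h
  obtain ⟨-, h2⟩ := bracket_right hb h
  show bracket a b * (a * b - b * a) = 0
  rw [mul_sub, ← mul_assoc, h1, zero_mul, ← mul_assoc, h2, zero_mul, sub_zero]

theorem bracket_swap (a b : M →ₗ[k] M) : bracket b a = -bracket a b := by simp [bracket]

theorem IsNilPair.symm (h : IsNilPair a b) : IsNilPair b a := ⟨h.2, h.1⟩

end Algebra

theorem inv_val_of_sq (u : LinearMap.GeneralLinearGroup k M) (hu : alpha u * alpha u = 0) :
    ((u⁻¹ : LinearMap.GeneralLinearGroup k M) : M →ₗ[k] M) = 1 - alpha u := by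
  refine Units.inv_eq_of_mul_eq_one_right ?_
  rw [alpha_add_one u, show (1 + alpha u) * (1 - alpha u) = 1 - alpha u * alpha u by noncomm_ring, hu, sub_zero]

theorem commutator_val {u v : LinearMap.GeneralLinearGroup k M} (hu : alpha u * alpha u = 0)
    (hv : alpha v * alpha v = 0) (h : IsNilPair (alpha u) (alpha v)) :
    ((u * v * u⁻¹ * v⁻¹ : LinearMap.GeneralLinearGroup k M) : M →ₗ[k] M) = 1 + bracket (alpha u) (alpha v) := by
  rw [Units.val_mul, Units.val_mul, Units.val_mul, inv_val_of_sq u hu, inv_val_of_sq v hv, alpha_add_one u,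
    alpha_add_one v]
  have z1 : ∀ m, alpha u * (alpha u * m) = 0 := fun m => by rw [← mul_assoc, hu, zero_mul]
  have z2 : ∀ m, alpha v * (alpha v * m) = 0 := fun m => by rw [← mul_assoc, hv, zero_mul]
  have z3 : ∀ m, alpha u * (alpha v * (alpha u * m)) = 0 := fun m => by
    rw [← mul_assoc, ← mul_assoc, h.1, zero_mul]
  have z3' : alpha u * (alpha v * alpha u) = 0 := by rw [← mul_assoc, h.1]
  have z4 : alpha v * (alpha u * alpha v) = 0 := by rw [← mul_assoc, h.2]
  simp only [bracket, add_mul, mul_add, sub_mul, mul_sub, one_mul, mul_one, mul_assoc, z1, z2, z3, z3', z4, hu, hv,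
    mul_zero, zero_mul]
  abel

variable [FiniteDimensional k M] {G : Subgroup (LinearMap.GeneralLinearGroup k M)}
variable {σ τ : LinearMap.GeneralLinearGroup k M}

theorem isNilPair_conj {g u v : LinearMap.GeneralLinearGroup k M} (h : IsNilPair (alpha u) (alpha v)) :
    IsNilPair (alpha (g * u * g⁻¹)) (alpha (g * v * g⁻¹)) := by
  have key : ∀ u v : LinearMap.GeneralLinearGroup k M, alpha u * alpha v * alpha u = 0 →
      alpha (g * u * g⁻¹) * alpha (g * v * g⁻¹) * alpha (g * u * g⁻¹) = 0 := by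
    intro u v h
    rw [alpha_conj, alpha_conj]
    calc _ = (g : M →ₗ[k] M) * alpha u * (((g⁻¹ : LinearMap.GeneralLinearGroup k M) : M →ₗ[k] M) * g) * alpha v *
          (((g⁻¹ : LinearMap.GeneralLinearGroup k M) : M →ₗ[k] M) * g) * alpha u *
          ((g⁻¹ : LinearMap.GeneralLinearGroup k M) : M →ₗ[k] M) := by simp only [mul_assoc]
      _ = (g : M →ₗ[k] M) * (alpha u * alpha v * alpha u) *
          ((g⁻¹ : LinearMap.GeneralLinearGroup k M) : M →ₗ[k] M) := by
            rw [Units.inv_mul, mul_one, mul_one]; simp only [mul_assoc]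
      _ = 0 := by rw [h, mul_zero, zero_mul]
  exact ⟨key u v h.1, key v u h.2⟩

variable (h2 : (2 : k) ≠ 0) (h3 : Nat.card k ≠ 3)
include h2 h3

/-- **Every minimal element has a partner among its conjugates.** -/
theorem exists_partner (hG : IsQuadraticPair G) (hσ : σ ∈ minimalQuadraticElements G) :
    ∃ g ∈ G, ∃ f, IsSepPair (alpha σ) (alpha (g * σ * g⁻¹)) f := by
  by_contra hcon
  push Not at hcon
  have hnil : ∀ g ∈ G, IsNilPair (alpha σ) (alpha (g * σ * g⁻¹)) := fun g hg =>
    (dichotomy_root h2 h3 hσ (conj_mem_minimal hg hσ)).resolve_right fun ⟨f, hf⟩ => hcon g hg f hf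
  set W := {A | ∃ g ∈ G, A = sameActionSubgroup G (g * σ * g⁻¹)} with hW
  have hU := baer (G := G) (W := W) (by
    rintro A ⟨g, hg, rfl⟩; exact sameAction_le (conj_mem_minimal hg hσ)) (by
    rintro A ⟨g, hg, rfl⟩ B ⟨h, hh, rfl⟩
    refine IsNilPair.unipotent h2 h3 (conj_mem_minimal hg hσ) (conj_mem_minimal hh hσ) ?_
    have h1 := isNilPair_conj (g := g) (hnil (g⁻¹ * h) (mul_mem (inv_mem hg) hh))
    rwa [show g * (g⁻¹ * h * σ * (g⁻¹ * h)⁻¹) * g⁻¹ = h * σ * h⁻¹ by group] at h1) (by
    rintro A ⟨h, hh, rfl⟩ g hg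
    exact ⟨g * h, mul_mem hg hh, by rw [conjBy_sameAction hg, show g * (h * σ * h⁻¹) * g⁻¹ = g * h * σ * (g * h)⁻¹ by group]⟩)
  obtain ⟨⟨m, hm⟩, hirr⟩ := hG.1
  obtain ⟨v, -, hv, hv'⟩ := hasFixedSections_of_unipotent hU ⊥ ⊤
    (fun g _ w hw => by rw [Submodule.mem_bot] at hw ⊢; rw [hw, map_zero]) (fun _ _ _ _ => Submodule.mem_top)
    (fun h => hm ((Submodule.mem_bot k).1 (h Submodule.mem_top)))
  set U := ⨆ A ∈ W, A with hUdef
  have hUn : ∀ g ∈ G, ∀ u ∈ U, g * u * g⁻¹ ∈ U := by
    intro g hg u hu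
    have hle : U ≤ U.comap (MulAut.conj g).toMonoidHom := iSup₂_le fun A hA y hy => by
      obtain ⟨h, hh, rfl⟩ := hA
      refine (le_iSup₂_of_le (conjBy (sameActionSubgroup G (h * σ * h⁻¹)) g) ?_ le_rfl : _ ≤ U) ⟨y, hy, rfl⟩
      exact ⟨g * h, mul_mem hg hh, by rw [conjBy_sameAction hg, show g * (h * σ * h⁻¹) * g⁻¹ = g * h * σ * (g * h)⁻¹ by group]⟩
    exact hle hu
  rcases hirr (fixedMod (U : Set (LinearMap.GeneralLinearGroup k M)) ⊥) (fun g hg w hw => by
    rw [mem_fixedMod] at hw ⊢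
    intro u hu
    have h1 := hw _ (hUn g⁻¹ (inv_mem hg) u hu)
    rw [inv_inv, Submodule.mem_bot] at h1
    rw [Submodule.mem_bot]
    have e : alpha u * (g : M →ₗ[k] M) = (g : M →ₗ[k] M) * alpha (g⁻¹ * u * g) := by
      simp only [alpha, sub_mul, mul_sub, one_mul, mul_one, Units.val_mul, ← mul_assoc, Units.mul_inv]
    rw [← Module.End.mul_apply, e, Module.End.mul_apply, h1, map_zero]) with h | h
  · exact hv (by rw [← h]; exact mem_fixedMod.2 hv')
  · refine alpha_ne_zero hσ (LinearMap.ext fun x => ?_)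
    have hx : x ∈ fixedMod (U : Set (LinearMap.GeneralLinearGroup k M)) ⊥ := h ▸ Submodule.mem_top
    have hσU : σ ∈ U := (le_iSup₂_of_le (sameActionSubgroup G (1 * σ * 1⁻¹)) ⟨1, one_mem G, rfl⟩ le_rfl : _ ≤ U) (by
      rw [one_mul, inv_one, mul_one]; exact self_mem_sameAction hσ)
    exact (Submodule.mem_bot k).1 (mem_fixedMod.1 hx σ hσU)

omit h2 h3

/-- The rank of the commutator is at most the minimal rank. -/
theorem bracket_rank_le (hσ : σ ∈ minimalQuadraticElements G) (hn : IsNilPair (alpha σ) (alpha τ)) :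
    Module.finrank k (LinearMap.range (alpha σ * alpha τ)) +
      Module.finrank k (LinearMap.range (alpha τ * alpha σ)) ≤ Module.finrank k (LinearMap.range (alpha σ)) ∧
    LinearMap.range (alpha σ * alpha τ) ≤ LinearMap.range (alpha σ) ⊓ LinearMap.ker (alpha τ) ∧
    Module.finrank k ↥(LinearMap.range (alpha σ) ⊓ LinearMap.ker (alpha τ)) +
      Module.finrank k (LinearMap.range (alpha τ * alpha σ)) = Module.finrank k (LinearMap.range (alpha σ)) := by
  set a := alpha σ
  set b := alpha τ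
  have hle : LinearMap.range (a * b) ≤ LinearMap.range a ⊓ LinearMap.ker b := by
    rintro _ ⟨m, rfl⟩
    refine ⟨⟨b m, rfl⟩, ?_⟩
    show (a * b) m ∈ LinearMap.ker b
    rw [LinearMap.mem_ker, ← Module.End.mul_apply, ← mul_assoc, hn.2, LinearMap.zero_apply]
  have hker : (LinearMap.ker (b.domRestrict (LinearMap.range a))).map (LinearMap.range a).subtype =
      LinearMap.range a ⊓ LinearMap.ker b := by
    ext v
    constructor
    · rintro ⟨⟨w, hw⟩, hw', rfl⟩; exact ⟨hw, hw'⟩
    · rintro ⟨hv, hv'⟩; exact ⟨⟨v, hv⟩, hv', rfl⟩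
  have h1 := LinearMap.finrank_range_add_finrank_ker (b.domRestrict (LinearMap.range a))
  rw [LinearMap.range_domRestrict, ← LinearMap.range_comp, ← Module.End.mul_eq_comp] at h1
  have h4 : Module.finrank k (LinearMap.ker (b.domRestrict (LinearMap.range a))) =
      Module.finrank k ↥(LinearMap.range a ⊓ LinearMap.ker b) := by
    rw [← hker, Submodule.finrank_map_subtype_eq]
  have h5 := Submodule.finrank_mono hle
  exact ⟨by omega, hle, by omega⟩

theorem bracket_family (hσ : σ ∈ minimalQuadraticElements G) (hτ : τ ∈ minimalQuadraticElements G)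
    (hn : IsNilPair (alpha σ) (alpha τ)) (c : k) :
    ∃ u ∈ G, ((u : LinearMap.GeneralLinearGroup k M) : M →ₗ[k] M) = 1 + c • bracket (alpha σ) (alpha τ) := by
  set v := oneAdd (c • alpha σ) (smul_sq (sq_of_min hσ) c) with hv
  have hva : alpha v = c • alpha σ := by simp [alpha, v, oneAdd_val]
  have hvG : v ∈ G := hσ.1.2.2 (oneAdd_mem_scalarFamily (sq_of_min hσ) c)
  refine ⟨v * τ * v⁻¹ * τ⁻¹, mul_mem (mul_mem (mul_mem hvG hτ.1.1) (inv_mem hvG)) (inv_mem hτ.1.1), ?_⟩
  have hn' : IsNilPair (alpha v) (alpha τ) := by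
    rw [hva]
    exact ⟨by simp only [smul_mul_assoc, mul_smul_comm, hn.1, smul_zero],
      by simp only [smul_mul_assoc, mul_smul_comm, hn.2, smul_zero]⟩
  rw [commutator_val (by rw [hva]; exact smul_sq (sq_of_min hσ) c) (sq_of_min hτ) hn', hva]
  simp [bracket, smul_sub]

/-- The element `1 + (αβ - βα)`. -/
noncomputable def commElt (σ τ : LinearMap.GeneralLinearGroup k M) : LinearMap.GeneralLinearGroup k M :=
  σ * τ * σ⁻¹ * τ⁻¹

/-- All that a non-commuting nilpotent pair gives. -/
structure CommData (G : Subgroup (LinearMap.GeneralLinearGroup k M)) (σ τ ε : LinearMap.GeneralLinearGroup k M) :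
    Prop where
  mem : ε ∈ minimalQuadraticElements G
  eq : alpha ε = bracket (alpha σ) (alpha τ)
  range_eq : LinearMap.range (alpha ε) =
    (LinearMap.range (alpha σ) ⊓ LinearMap.ker (alpha τ)) ⊔ (LinearMap.range (alpha τ) ⊓ LinearMap.ker (alpha σ))
  ker_eq : LinearMap.ker (alpha ε) = (LinearMap.ker (alpha σ) ⊔ LinearMap.range (alpha τ)) ⊓
    (LinearMap.ker (alpha τ) ⊔ LinearMap.range (alpha σ))
  range_mul : LinearMap.range (alpha σ * alpha τ) = LinearMap.range (alpha σ) ⊓ LinearMap.ker (alpha τ)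
  range_mul' : LinearMap.range (alpha τ * alpha σ) = LinearMap.range (alpha τ) ⊓ LinearMap.ker (alpha σ)
  disjoint : Disjoint (LinearMap.range (alpha σ) ⊓ LinearMap.ker (alpha τ))
    (LinearMap.range (alpha τ) ⊓ LinearMap.ker (alpha σ))

theorem commData (hσ : σ ∈ minimalQuadraticElements G) (hτ : τ ∈ minimalQuadraticElements G)
    (hn : IsNilPair (alpha σ) (alpha τ)) (hne : bracket (alpha σ) (alpha τ) ≠ 0) :
    CommData G σ τ (commElt σ τ) := by
  set a := alpha σ with ha
  set b := alpha τ with hb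
  set δ := bracket a b with hδ
  have hab : alpha (commElt σ τ) = δ := by
    rw [alpha, commElt, commutator_val (sq_of_min hσ) (sq_of_min hτ) hn, add_sub_cancel_left]
  obtain ⟨s1, s2, s3⟩ := bracket_rank_le hσ hn
  obtain ⟨t1, t2, t3⟩ := bracket_rank_le hτ hn.symm
  have hdd : Module.finrank k (LinearMap.range a) = Module.finrank k (LinearMap.range b) :=
    le_antisymm (hσ.2 _ hτ.1) (hτ.2 _ hσ.1)
  rw [← ha, ← hb] at s1 s2 s3 t1 t2 t3
  have hδsq : δ * δ = 0 := bracket_sq (sq_of_min hσ) (sq_of_min hτ) hn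
  have hlow : Module.finrank k (LinearMap.range a) ≤ Module.finrank k (LinearMap.range δ) := by
    refine rank_le_of_family hσ hδsq hne fun c => ?_
    obtain ⟨u, hu, eu⟩ := bracket_family hσ hτ hn c
    convert hu using 1
    exact Units.ext (by rw [oneAdd_val, eu])
  have hsub : LinearMap.range δ ≤ LinearMap.range (a * b) ⊔ LinearMap.range (b * a) := by
    rintro _ ⟨m, rfl⟩
    rw [hδ, bracket, LinearMap.sub_apply]
    exact sub_mem (Submodule.mem_sup_left ⟨m, rfl⟩) (Submodule.mem_sup_right ⟨m, rfl⟩)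
  have hsum := Submodule.finrank_sup_add_finrank_inf_eq (LinearMap.range (a * b)) (LinearMap.range (b * a))
  have hsubd := Submodule.finrank_mono hsub
  have e1 : LinearMap.range (a * b) = LinearMap.range a ⊓ LinearMap.ker b :=
    Submodule.eq_of_le_of_finrank_le s2 (by omega)
  have e2 : LinearMap.range (b * a) = LinearMap.range b ⊓ LinearMap.ker a :=
    Submodule.eq_of_le_of_finrank_le t2 (by omega)
  have hrange : LinearMap.range δ = LinearMap.range (a * b) ⊔ LinearMap.range (b * a) :=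
    Submodule.eq_of_le_of_finrank_le hsub (by omega)
  have hdisj : LinearMap.range (a * b) ⊓ LinearMap.range (b * a) = ⊥ :=
    Submodule.finrank_eq_zero.1 (by omega)
  have hk1 : LinearMap.ker (b * a) = LinearMap.ker a ⊔ LinearMap.range b := by
    refine (Submodule.eq_of_le_of_finrank_le (sup_le ?_ ?_) ?_).symm
    · intro m hm
      rw [LinearMap.mem_ker] at hm ⊢
      rw [Module.End.mul_apply, hm, map_zero]
    · rintro _ ⟨m, rfl⟩
      rw [LinearMap.mem_ker, ← Module.End.mul_apply, hn.2, LinearMap.zero_apply]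
    · have h1 := LinearMap.finrank_range_add_finrank_ker (b * a)
      have h2 := LinearMap.finrank_range_add_finrank_ker a
      have h4 := Submodule.finrank_sup_add_finrank_inf_eq (LinearMap.ker a) (LinearMap.range b)
      rw [inf_comm (LinearMap.ker a)] at h4
      rw [e2] at h1
      omega
  have hk2 : LinearMap.ker (a * b) = LinearMap.ker b ⊔ LinearMap.range a := by
    refine (Submodule.eq_of_le_of_finrank_le (sup_le ?_ ?_) ?_).symm
    · intro m hm
      rw [LinearMap.mem_ker] at hm ⊢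
      rw [Module.End.mul_apply, hm, map_zero]
    · rintro _ ⟨m, rfl⟩
      rw [LinearMap.mem_ker, ← Module.End.mul_apply, hn.1, LinearMap.zero_apply]
    · have h1 := LinearMap.finrank_range_add_finrank_ker (a * b)
      have h2 := LinearMap.finrank_range_add_finrank_ker b
      have h4 := Submodule.finrank_sup_add_finrank_inf_eq (LinearMap.ker b) (LinearMap.range a)
      rw [inf_comm (LinearMap.ker b)] at h4
      rw [e1] at h1
      omega
  have hfam : ∀ c : k, ∃ u ∈ G, ((u : LinearMap.GeneralLinearGroup k M) : M →ₗ[k] M) = 1 + c • δ :=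
    bracket_family hσ hτ hn
  have hq : commElt σ τ ∈ quadraticElements G := by
    refine ⟨mul_mem (mul_mem (mul_mem hσ.1.1 hτ.1.1) (inv_mem hσ.1.1)) (inv_mem hτ.1.1), ⟨?_, ?_⟩, ?_⟩
    · show alpha _ * alpha _ = 0; rw [hab]; exact hδsq
    · show alpha _ ≠ 0; rw [hab]; exact hne
    · rintro u ⟨c, hc⟩
      obtain ⟨w, hw, ew⟩ := hfam c
      have : u = w := Units.ext (by
        rw [hc, ew]
        show 1 + c • alpha (commElt σ τ) = _
        rw [hab])
      rw [this]; exact hw
  refine ⟨⟨hq, fun t ht => ?_⟩, hab, ?_, ?_, e1, e2, ?_⟩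
  · refine le_trans (le_of_eq ?_) (hσ.2 t ht)
    show Module.finrank k (LinearMap.range (alpha (commElt σ τ))) = Module.finrank k (LinearMap.range a)
    rw [hab]
    have h6 := Submodule.finrank_mono (le_of_eq hrange)
    omega
  · rw [hab, hrange, e1, e2]
  · rw [hab, ← hk1, ← hk2]
    ext m
    constructor
    · intro hm
      have hm' : (a * b) m = (b * a) m := sub_eq_zero.1 hm
      have : (a * b) m ∈ LinearMap.range (a * b) ⊓ LinearMap.range (b * a) := ⟨⟨m, rfl⟩, ⟨m, hm'.symm⟩⟩
      rw [hdisj, Submodule.mem_bot] at this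
      exact ⟨hm'.symm.trans this, this⟩
    · rintro ⟨h1, h2⟩
      have h1' : (b * a) m = 0 := h1
      have h2' : (a * b) m = 0 := h2
      rw [LinearMap.mem_ker, hδ, bracket, LinearMap.sub_apply, h1', h2', sub_zero]
  · rw [disjoint_iff, ← e1, ← e2, hdisj]

include h2 h3

/-- Non-commuting pairs stay such inside the two classes. -/
theorem bracket_class (hσ : σ ∈ minimalQuadraticElements G) (hτ : τ ∈ minimalQuadraticElements G)
    (hn : IsNilPair (alpha σ) (alpha τ)) (hne : bracket (alpha σ) (alpha τ) ≠ 0)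
    {u v : LinearMap.GeneralLinearGroup k M} (hu : u ∈ sameActionSubgroup G σ) (hv : v ∈ sameActionSubgroup G τ) :
    bracket (alpha u) (alpha v) ∈ actSpace G (commElt σ τ) (sq_of_min (commData hσ hτ hn hne).mem) ∧
      (u ≠ 1 → v ≠ 1 → bracket (alpha u) (alpha v) ≠ 0) := by
  have D := commData hσ hτ hn hne
  by_cases hu1 : u = 1
  · subst hu1
    refine ⟨?_, fun h => absurd rfl h⟩
    rw [alpha_one, bracket, zero_mul, mul_zero, sub_zero]; exact zero_mem _
  by_cases hv1 : v = 1
  · subst hv1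
    refine ⟨?_, fun _ h => absurd rfl h⟩
    rw [alpha_one, bracket, zero_mul, mul_zero, sub_zero]; exact zero_mem _
  have cu := mem_class_of_actSpace hσ ((mem_sameAction_iff hσ).1 hu)
    fun e => hu1 (Units.ext (by rw [alpha_add_one u, e, add_zero]; rfl))
  have cv := mem_class_of_actSpace hτ ((mem_sameAction_iff hτ).1 hv)
    fun e => hv1 (Units.ext (by rw [alpha_add_one v, e, add_zero]; rfl))
  have a1 : LinearMap.ker (alpha u) = LinearMap.ker (alpha σ) := cu.2.1
  have a2 : LinearMap.range (alpha u) = LinearMap.range (alpha σ) := cu.2.2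
  have b1 : LinearMap.ker (alpha v) = LinearMap.ker (alpha τ) := cv.2.1
  have b2 : LinearMap.range (alpha v) = LinearMap.range (alpha τ) := cv.2.2
  have hn' := hn.of_class h2 h3 hσ hτ hu hv
  have hne' : bracket (alpha u) (alpha v) ≠ 0 := by
    intro h0
    obtain ⟨s1, s2, s3⟩ := bracket_rank_le cu.1 hn'
    obtain ⟨t1, t2, t3⟩ := bracket_rank_le cv.1 hn'.symm
    have hz : LinearMap.range (alpha u * alpha v) = ⊥ := by
      rw [eq_bot_iff]
      refine le_trans (le_inf s2
        (?_ : _ ≤ LinearMap.range (alpha v) ⊓ LinearMap.ker (alpha u))) (le_of_eq ?_)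
      · rw [show alpha u * alpha v = alpha v * alpha u from sub_eq_zero.1 h0]; exact t2
      · rw [a1, a2, b1, b2]; exact D.disjoint.eq_bot
    have hz' : LinearMap.range (alpha v * alpha u) = ⊥ := by
      rw [← show alpha u * alpha v = alpha v * alpha u from sub_eq_zero.1 h0]; exact hz
    rw [hz', finrank_bot, a2, b1] at s3
    rw [hz, finrank_bot, b2, a1] at t3
    have hr : Module.finrank k (LinearMap.range (alpha (commElt σ τ))) =
        Module.finrank k (LinearMap.range (alpha σ)) := le_antisymm (D.mem.2 _ hσ.1) (hσ.2 _ D.mem.1)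
    have hs := Submodule.finrank_sup_add_finrank_inf_eq (LinearMap.range (alpha σ) ⊓ LinearMap.ker (alpha τ))
      (LinearMap.range (alpha τ) ⊓ LinearMap.ker (alpha σ))
    rw [D.disjoint.eq_bot, finrank_bot, ← D.range_eq, hr] at hs
    have hpos : Module.finrank k (LinearMap.range (alpha σ)) ≠ 0 := fun e =>
      alpha_ne_zero hσ (LinearMap.range_eq_bot.1 (Submodule.finrank_eq_zero.1 e))
    have hdd : Module.finrank k (LinearMap.range (alpha σ)) = Module.finrank k (LinearMap.range (alpha τ)) :=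
      le_antisymm (hσ.2 _ hτ.1) (hτ.2 _ hσ.1)
    omega
  refine ⟨?_, fun _ _ => hne'⟩
  have D' := commData cu.1 cv.1 hn' hne'
  rw [← D'.eq]
  refine ⟨le_of_eq ?_, le_of_eq ?_, ?_⟩
  · rw [D'.range_eq, D.range_eq, a1, a2, b1, b2]
  · rw [D'.ker_eq, D.ker_eq, a1, a2, b1, b2]
  · intro c
    exact ⟨oneAdd _ (smul_sq (sq_of_min D'.mem) c), D'.mem.1.2.2 (oneAdd_mem_scalarFamily (sq_of_min D'.mem) c), rfl⟩

omit h2 h3 in
theorem oneAdd_mem_sameAction (hσ : σ ∈ minimalQuadraticElements G) {γ : M →ₗ[k] M}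
    (hγ : γ ∈ actSpace G σ (sq_of_min hσ)) : oneAdd γ (actSpace_sq hγ) ∈ sameActionSubgroup G σ :=
  (mem_sameAction_iff hσ).2 (by simpa [alpha, oneAdd_val] using hγ)

/-- The bracket with a fixed member gives an injection. -/
theorem finrank_le_of_bracket (hσ : σ ∈ minimalQuadraticElements G) (hτ : τ ∈ minimalQuadraticElements G)
    (hn : IsNilPair (alpha σ) (alpha τ)) (hne : bracket (alpha σ) (alpha τ) ≠ 0)
    (hρ : (commElt σ τ) ∈ minimalQuadraticElements G) :
    Module.finrank k (actSpace G σ (sq_of_min hσ)) ≤ Module.finrank k (actSpace G (commElt σ τ) (sq_of_min hρ)) := by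
  let L : ↥(actSpace G σ (sq_of_min hσ)) →ₗ[k] ↥(actSpace G (commElt σ τ) (sq_of_min hρ)) :=
    { toFun := fun γ => ⟨bracket γ.1 (alpha τ), by
        have := (bracket_class h2 h3 hσ hτ hn hne (oneAdd_mem_sameAction hσ γ.2) (self_mem_sameAction hτ)).1
        simpa [alpha, oneAdd_val] using this⟩
      map_add' := fun x y => Subtype.ext (by simp [bracket, add_mul, mul_add]; abel)
      map_smul' := fun c x => Subtype.ext (by simp [bracket, smul_sub]) }
  refine LinearMap.finrank_le_finrank_of_injective (f := L) ?_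
  rw [← LinearMap.ker_eq_bot, LinearMap.ker_eq_bot']
  rintro ⟨γ, hγ⟩ h0
  by_contra hγ0
  have h := (bracket_class h2 h3 hσ hτ hn hne (oneAdd_mem_sameAction hσ hγ) (self_mem_sameAction hτ)).2
    (fun e => hγ0 (Subtype.ext (by
      have := congrArg alpha e
      simpa [alpha, oneAdd_val] using this)))
    (fun e => alpha_ne_zero hτ (by rw [e, alpha_one]))
  exact h (by simpa [alpha, oneAdd_val, L] using congrArg Subtype.val h0)

end CfsgLib.QuadPair
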