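import Cfsg.Agent.Lib.QuadPair.Split

/-!
# Every quadratic element lies in a component or centralizes `Σ(G)`
-/

set_option autoImplicit false

namespace CfsgLib.QuadPair

open Cfsg Polynomial
open scoped commutatorElement

variable {k : Type*} [Field k] {M : Type*} [AddCommGroup M] [Module k M] [FiniteDimensional k M]
variable {G : Subgroup (LinearMap.GeneralLinearGroup k M)}

theorem rootJoinQ_le : rootJoinQ G ≤ G := iSup_quadraticRoot_le

theorem conj_mem_rootJoinQ {g : LinearMap.GeneralLinearGroup k M} (hg : g ∈ G)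
    {u : LinearMap.GeneralLinearGroup k M} (hu : u ∈ rootJoinQ G) : g * u * g⁻¹ ∈ rootJoinQ G := by
  have hle : rootJoinQ G ≤ (rootJoinQ G).comap (MulAut.conj g).toMonoidHom :=
    iSup₂_le fun A hA y hy => le_rootJoinQ (conjBy_mem_quadraticRoot hA hg) ⟨y, hy, rfl⟩
  exact hle hu

/-- Commuting with all minimal elements means centralizing the group of `Σ(G)`. -/
theorem mem_centralizer_of_commute {q : LinearMap.GeneralLinearGroup k M}
    (h : ∀ σ ∈ minimalQuadraticElements G, alpha q * alpha σ = alpha σ * alpha q) :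
    q ∈ Subgroup.centralizer (rootJoinQ G : Set (LinearMap.GeneralLinearGroup k M)) := by
  have hle : rootJoinQ G ≤ Subgroup.centralizer ({q} : Set (LinearMap.GeneralLinearGroup k M)) := by
    refine iSup₂_le ?_
    rintro _ ⟨σ, hσ, rfl⟩ u hu
    rw [Subgroup.mem_centralizer_singleton_iff]
    refine comm_of_bracket_zero ?_
    by_cases hu1 : u = 1
    · subst hu1; rw [bracket, alpha_one, zero_mul, mul_zero, sub_zero]
    · rw [bracket, h u (sameAction_eq_of_mem hσ hu hu1).1, sub_self]
  exact Subgroup.mem_centralizer_iff.2 fun u hu => Subgroup.mem_centralizer_singleton_iff.1 (hle hu)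

variable (h2 : (2 : k) ≠ 0) (h3 : Nat.card k ≠ 3)
include h2 h3

theorem exists_split_of_not_mem_centralizer (hG : IsQuadraticPair G) {q : LinearMap.GeneralLinearGroup k M}
    (hq : q ∈ quadraticElements G)
    (hc : q ∉ Subgroup.centralizer (rootJoinQ G : Set (LinearMap.GeneralLinearGroup k M))) :
    ∃ ε v, ε ∈ minimalQuadraticElements G ∧ v ∈ minimalQuadraticElements G ∧
      alpha ε * alpha v * alpha ε = alpha ε ∧ alpha v * alpha ε * alpha v = alpha v ∧
      sameActionSubgroup G v ∈ component G (sameActionSubgroup G ε) ∧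
      LinearMap.range (alpha ε) ≤ LinearMap.range (alpha q) ∧ LinearMap.ker (alpha q) ≤ LinearMap.ker (alpha ε) := by
  obtain ⟨σ, hσ, hne⟩ : ∃ σ ∈ minimalQuadraticElements G, alpha q * alpha σ * alpha q ≠ 0 := by
    by_contra hall
    push Not at hall
    exact hc (mem_centralizer_of_commute fun τ hτ => inert_commute h2 h3 hG hq hall hτ)
  obtain ⟨ε, hε, hr, hk⟩ := exists_member_below h2 h3 hq hσ hne
  obtain ⟨v, hv, e1, e2, hcomp⟩ := exists_opposite_component h2 h3 hG hε
  exact ⟨ε, v, hε, hv, e1, e2, hcomp, hr, hk⟩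

theorem quadratic_mem_sup (hG : IsQuadraticPair G) {q : LinearMap.GeneralLinearGroup k M}
    (hq : q ∈ quadraticElements G) :
    q ∈ rootJoinQ G ⊔ (G ⊓ Subgroup.centralizer (rootJoinQ G : Set (LinearMap.GeneralLinearGroup k M))) := by
  induction hn : Module.finrank k (LinearMap.range (alpha q)) using Nat.strong_induction_on generalizing q with
  | _ n ih =>
    by_cases hc : q ∈ Subgroup.centralizer (rootJoinQ G : Set (LinearMap.GeneralLinearGroup k M))
    · exact Subgroup.mem_sup_right (Subgroup.mem_inf.2 ⟨hq.1, hc⟩)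
    obtain ⟨ε, v, hε, hv, e1, e2, hcomp, hr, hk⟩ := exists_split_of_not_mem_centralizer h2 h3 hG hq hc
    obtain ⟨x, z, hx, hz, -, hdec, hxz, -, hxN, hzG, hlt⟩ := split_off h2 h3 hq hε hv e1 e2 hr hk
      (fun g hg u hu => conj_mem_rootJoinQ hg hu) rootJoinQ_le (le_rootJoinQ ⟨ε, hε, rfl⟩) (le_rootJoinQ hcomp.1)
    have hx1 : oneAdd x hx ∈ rootJoinQ G := by
      convert hxN 1 using 1
      exact Units.ext (by simp [oneAdd_val])
    have hqe : q = oneAdd x hx * oneAdd z hz := Units.ext (by
      rw [Units.val_mul, oneAdd_val, oneAdd_val, alpha_add_one q, hdec]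
      simp only [add_mul, mul_add, one_mul, mul_one, hxz, add_zero]
      abel)
    rw [hqe]
    refine mul_mem (Subgroup.mem_sup_left hx1) ?_
    by_cases hz0 : z = 0
    · have : oneAdd z hz = 1 := Units.ext (by rw [oneAdd_val, hz0, add_zero]; rfl)
      rw [this]; exact one_mem _
    · exact ih _ (by rw [← hn, alpha_oneAdd]; exact hlt) (quadratic_of_family hz hz0 hzG) rfl

/-- `G` is generated by `Σ(G)` and its centralizer. -/
theorem eq_rootJoinQ_sup (hG : IsQuadraticPair G) :
    rootJoinQ G ⊔ (G ⊓ Subgroup.centralizer (rootJoinQ G : Set (LinearMap.GeneralLinearGroup k M))) = G := by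
  refine le_antisymm (sup_le rootJoinQ_le inf_le_left) ?_
  conv_lhs => rw [← hG.2]
  exact (Subgroup.closure_le _).2 fun q hq => quadratic_mem_sup h2 h3 hG hq

theorem rootJoinQ_le_componentJoin_sup (hG : IsQuadraticPair G) (A : Subgroup (LinearMap.GeneralLinearGroup k M)) :
    rootJoinQ G ≤ componentJoin G A ⊔ Subgroup.centralizer (componentJoin G A : Set (LinearMap.GeneralLinearGroup k M)) := by
  refine iSup₂_le fun B hB => ?_
  by_cases hBA : B ∈ component G A
  · exact le_sup_of_le_left (le_componentJoin hBA)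
  · refine le_sup_of_le_right (Subgroup.le_centralizer_iff.1 (iSup₂_le fun C hC => ?_))
    rw [← Subgroup.commutator_eq_bot_iff_le_centralizer]
    exact commute_of_not_mem h2 h3 hG hC.1 hB fun h => hBA (component_eq_of_mem hC ▸ h)

theorem le_componentJoin_sup (hG : IsQuadraticPair G) (A : Subgroup (LinearMap.GeneralLinearGroup k M)) :
    G ≤ componentJoin G A ⊔ Subgroup.centralizer (componentJoin G A : Set (LinearMap.GeneralLinearGroup k M)) := by
  conv_lhs => rw [← eq_rootJoinQ_sup h2 h3 hG]
  exact sup_le (rootJoinQ_le_componentJoin_sup h2 h3 hG A)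
    (inf_le_right.trans (le_sup_of_le_right (Subgroup.centralizer_le (componentJoin_le_rootJoinQ A))))

/-- The group of a component is normal in `G`. -/
theorem conj_mem_componentJoin (hG : IsQuadraticPair G) (A : Subgroup (LinearMap.GeneralLinearGroup k M))
    {g : LinearMap.GeneralLinearGroup k M} (hg : g ∈ G) {u : LinearMap.GeneralLinearGroup k M}
    (hu : u ∈ componentJoin G A) : g * u * g⁻¹ ∈ componentJoin G A := by
  have hle : componentJoin G A ⊔ Subgroup.centralizer (componentJoin G A : Set (LinearMap.GeneralLinearGroup k M)) ≤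
      Subgroup.normalizer (componentJoin G A : Set (LinearMap.GeneralLinearGroup k M)) :=
    sup_le Subgroup.le_normalizer (Subgroup.centralizer_le_normalizer _)
  exact (Subgroup.mem_normalizer_iff.1 (hle (le_componentJoin_sup h2 h3 hG A hg)) u).1 hu

/-- Two orthogonal families, one in a component and one centralizing it, are not both nonzero. -/
theorem eq_zero_of_orthogonal (hG : IsQuadraticPair G) (A : Subgroup (LinearMap.GeneralLinearGroup k M))
    {x z : M →ₗ[k] M} (hx : x * x = 0) (hz : z * z = 0) (hxK : oneAdd x hx ∈ componentJoin G A)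
    (hzC : oneAdd z hz ∈ Subgroup.centralizer (componentJoin G A : Set (LinearMap.GeneralLinearGroup k M)))
    (hxz : x * z = 0) : x = 0 ∨ z = 0 := by
  set K := componentJoin G A
  let W : Submodule k M := ⨅ u ∈ K, LinearMap.ker (x * (u : M →ₗ[k] M))
  have hmem : ∀ m, m ∈ W ↔ ∀ u ∈ K, x ((u : M →ₗ[k] M) m) = 0 := by
    intro m
    simp [W]
  have hinv : ∀ g ∈ K ⊔ Subgroup.centralizer (K : Set (LinearMap.GeneralLinearGroup k M)),
      ∀ w ∈ W, (g : M →ₗ[k] M) w ∈ W := by
    intro g hg
    rw [Subgroup.sup_eq_closure] at hg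
    have hbase : ∀ g ∈ (K : Set (LinearMap.GeneralLinearGroup k M)) ∪
        Subgroup.centralizer (K : Set (LinearMap.GeneralLinearGroup k M)), ∀ w ∈ W, (g : M →ₗ[k] M) w ∈ W := by
      rintro g (hg | hg) w hw <;> rw [hmem] at hw ⊢ <;> intro u hu
      · rw [← Module.End.mul_apply (u : M →ₗ[k] M), ← Units.val_mul]
        exact hw _ (mul_mem hu hg)
      · have c1 := congrArg Units.val (Subgroup.mem_centralizer_iff.1 hg u hu)
        have c2 : x * (g : M →ₗ[k] M) = (g : M →ₗ[k] M) * x := by
          have e := congrArg Units.val (Subgroup.mem_centralizer_iff.1 hg _ hxK)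
          rw [Units.val_mul, Units.val_mul, oneAdd_val, add_mul, mul_add, one_mul, mul_one] at e
          exact add_left_cancel e
        rw [Units.val_mul, Units.val_mul] at c1
        rw [← Module.End.mul_apply (u : M →ₗ[k] M), c1, Module.End.mul_apply, ← Module.End.mul_apply x, c2,
          Module.End.mul_apply, hw u hu, map_zero]
    induction hg using Subgroup.closure_induction'' with
    | mem y hy => exact hbase y hy
    | inv_mem y hy =>
      exact hbase y⁻¹ (hy.imp (fun h => inv_mem h) (fun h => inv_mem h))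
    | one => intro w hw; rw [Units.val_one, Module.End.one_apply]; exact hw
    | mul a b _ _ ha hb => intro w hw; rw [Units.val_mul, Module.End.mul_apply]; exact ha _ (hb w hw)
  rcases hG.1.2 W (fun g hg w hw => hinv g (le_componentJoin_sup h2 h3 hG A hg) w hw) with h | h
  · refine Or.inr (LinearMap.ext fun m => ?_)
    rw [LinearMap.zero_apply, ← Submodule.mem_bot k, ← h, hmem]
    intro u hu
    have c2 : z * (u : M →ₗ[k] M) = (u : M →ₗ[k] M) * z := by
      have e := congrArg Units.val (Subgroup.mem_centralizer_iff.1 hzC _ hu)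
      rw [Units.val_mul, Units.val_mul, oneAdd_val, add_mul, mul_add, one_mul, mul_one] at e
      exact (add_left_cancel e).symm
    rw [← Module.End.mul_apply, ← Module.End.mul_apply, mul_assoc, ← c2, ← mul_assoc, hxz, zero_mul,
      LinearMap.zero_apply]
  · refine Or.inl (LinearMap.ext fun m => ?_)
    have hm : m ∈ W := h ▸ Submodule.mem_top
    rw [hmem] at hm
    simpa using hm 1 (one_mem K)

/-- **Every quadratic element lies in a component or centralizes all of them.** -/
theorem quadratic_cases (hG : IsQuadraticPair G) {q : LinearMap.GeneralLinearGroup k M}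
    (hq : q ∈ quadraticElements G) :
    (∃ A ∈ quadraticRootSubgroups G, q ∈ componentJoin G A) ∨
      q ∈ Subgroup.centralizer (rootJoinQ G : Set (LinearMap.GeneralLinearGroup k M)) := by
  induction hn : Module.finrank k (LinearMap.range (alpha q)) using Nat.strong_induction_on generalizing q with
  | _ n ih =>
    by_cases hc : q ∈ Subgroup.centralizer (rootJoinQ G : Set (LinearMap.GeneralLinearGroup k M))
    · exact Or.inr hc
    obtain ⟨ε, v, hε, hv, e1, e2, hcomp, hr, hk⟩ := exists_split_of_not_mem_centralizer h2 h3 hG hq hc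
    set A := sameActionSubgroup G ε with hA
    have hAm : A ∈ quadraticRootSubgroups G := ⟨ε, hε, rfl⟩
    obtain ⟨x, z, hx, hz, hx0, hdec, hxz, -, hxN, hzG, hlt⟩ := split_off h2 h3 hq hε hv e1 e2 hr hk
      (fun g hg u hu => conj_mem_componentJoin h2 h3 hG A hg hu) (componentJoin_le A)
      (le_componentJoin (mem_component_self hAm)) (le_componentJoin hcomp)
    have hx1 : oneAdd x hx ∈ componentJoin G A := by
      convert hxN 1 using 1
      exact Units.ext (by simp [oneAdd_val])
    have hqe : q = oneAdd x hx * oneAdd z hz := Units.ext (by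
      rw [Units.val_mul, oneAdd_val, oneAdd_val, alpha_add_one q, hdec]
      simp only [add_mul, mul_add, one_mul, mul_one, hxz, add_zero]
      abel)
    refine Or.inl ⟨A, hAm, ?_⟩
    rw [hqe]
    refine mul_mem hx1 ?_
    by_cases hz0 : z = 0
    · have : oneAdd z hz = 1 := Units.ext (by rw [oneAdd_val, hz0, add_zero]; rfl)
      rw [this]; exact one_mem _
    rcases ih _ (by rw [← hn, alpha_oneAdd]; exact hlt) (quadratic_of_family hz hz0 hzG) rfl with
      ⟨B, -, hB⟩ | hC
    · by_cases hcB : component G A = component G B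
      · rwa [componentJoin, hcB, ← componentJoin]
      · exfalso
        exact (eq_zero_of_orthogonal h2 h3 hG A hx hz hx1 (Subgroup.mem_centralizer_iff.2 fun u hu =>
          RootSub.commute_of_commutator_eq_bot (componentJoin_commute h2 h3 hG hcB) hu hB) hxz).elim hx0 hz0
    · exfalso
      exact (eq_zero_of_orthogonal h2 h3 hG A hx hz hx1
        (Subgroup.centralizer_le (componentJoin_le_rootJoinQ A) hC) hxz).elim hx0 hz0

end CfsgLib.QuadPair
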