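import Cfsg.Agent.Lib.QuadPair.Nil

/-!
# Every member of `E(ε)` is a commutator
-/

set_option autoImplicit false

namespace CfsgLib.QuadPair

open Cfsg Polynomial

variable {k : Type*} [Field k] {M : Type*} [AddCommGroup M] [Module k M] [FiniteDimensional k M]
variable {G : Subgroup (LinearMap.GeneralLinearGroup k M)} {σ τ ρ : LinearMap.GeneralLinearGroup k M}

theorem family_add {γ η : M →ₗ[k] M} (h : γ * η = 0)
    (hγ : ∀ c : k, ∃ u ∈ G, ((u : LinearMap.GeneralLinearGroup k M) : M →ₗ[k] M) = 1 + c • γ)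
    (hη : ∀ c : k, ∃ u ∈ G, ((u : LinearMap.GeneralLinearGroup k M) : M →ₗ[k] M) = 1 + c • η) (c : k) :
    ∃ u ∈ G, ((u : LinearMap.GeneralLinearGroup k M) : M →ₗ[k] M) = 1 + c • (γ + η) := by
  obtain ⟨u, hu, eu⟩ := hγ c
  obtain ⟨v, hv, ev⟩ := hη c
  refine ⟨u * v, mul_mem hu hv, ?_⟩
  rw [Units.val_mul, eu, ev]
  simp only [add_mul, mul_add, one_mul, mul_one, smul_mul_assoc, mul_smul_comm, h, smul_zero, smul_add, add_zero]
  abel

theorem family_smul {γ : M →ₗ[k] M}
    (hγ : ∀ c : k, ∃ u ∈ G, ((u : LinearMap.GeneralLinearGroup k M) : M →ₗ[k] M) = 1 + c • γ) (r c : k) :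
    ∃ u ∈ G, ((u : LinearMap.GeneralLinearGroup k M) : M →ₗ[k] M) = 1 + c • (r • γ) := by
  obtain ⟨u, hu, eu⟩ := hγ (c * r)
  exact ⟨u, hu, by rw [eu, smul_smul]⟩

theorem family_conj {γ : M →ₗ[k] M} {t : LinearMap.GeneralLinearGroup k M} (ht : t ∈ G)
    (hγ : ∀ c : k, ∃ u ∈ G, ((u : LinearMap.GeneralLinearGroup k M) : M →ₗ[k] M) = 1 + c • γ) (c : k) :
    ∃ u ∈ G, ((u : LinearMap.GeneralLinearGroup k M) : M →ₗ[k] M) =
      1 + c • ((t : M →ₗ[k] M) * γ * ((t⁻¹ : LinearMap.GeneralLinearGroup k M) : M →ₗ[k] M)) := by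
  obtain ⟨u, hu, eu⟩ := hγ c
  refine ⟨t * u * t⁻¹, mul_mem (mul_mem ht hu) (inv_mem ht), ?_⟩
  rw [Units.val_mul, Units.val_mul, eu, mul_add, add_mul, mul_one, Units.mul_inv, mul_smul_comm, smul_mul_assoc]

theorem exists_minimal_of_family (hσ : σ ∈ minimalQuadraticElements G) {γ : M →ₗ[k] M} (hsq : γ * γ = 0)
    (hne : γ ≠ 0) (hfam : ∀ c : k, ∃ u ∈ G, ((u : LinearMap.GeneralLinearGroup k M) : M →ₗ[k] M) = 1 + c • γ)
    (hrank : Module.finrank k (LinearMap.range γ) ≤ Module.finrank k (LinearMap.range (alpha σ))) :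
    oneAdd γ hsq ∈ minimalQuadraticElements G := by
  have hα : alpha (oneAdd γ hsq) = γ := by simp [alpha, oneAdd_val]
  have hq : oneAdd γ hsq ∈ quadraticElements G := by
    refine ⟨?_, ⟨?_, ?_⟩, ?_⟩
    · obtain ⟨u, hu, eu⟩ := hfam 1
      convert hu using 1
      exact Units.ext (by rw [oneAdd_val, eu, one_smul])
    · show alpha (oneAdd γ hsq) * alpha (oneAdd γ hsq) = 0; rw [hα]; exact hsq
    · show alpha (oneAdd γ hsq) ≠ 0; rw [hα]; exact hne
    · rintro u ⟨c, hc⟩
      obtain ⟨w, hw, ew⟩ := hfam c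
      have : u = w := Units.ext (by
        rw [hc, ew]
        show 1 + c • alpha (oneAdd γ hsq) = _
        rw [hα])
      rw [this]; exact hw
  refine ⟨hq, fun t ht => le_trans ?_ (hσ.2 t ht)⟩
  show Module.finrank k (LinearMap.range (alpha (oneAdd γ hsq))) ≤ Module.finrank k (LinearMap.range (alpha σ))
  rw [hα]; exact hrank

variable (h2 : (2 : k) ≠ 0) (h3 : Nat.card k ≠ 3)
include h2 h3

/-- An element opposite to a given one. -/
theorem exists_opposite' (hG : IsQuadraticPair G) (hσ : σ ∈ minimalQuadraticElements G) :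
    ∃ v ∈ minimalQuadraticElements G, alpha σ * alpha v * alpha σ = alpha σ ∧
      alpha v * alpha σ * alpha v = alpha v := by
  obtain ⟨g, hg, f, hf⟩ := exists_partner h2 h3 hG hσ
  have hτ := conj_mem_minimal hg hσ
  obtain ⟨v, hv, e1, e2, hv1⟩ := hf.exists_opposite h2 h3 hσ hτ
  exact ⟨v, (sameAction_eq_of_mem hτ hv hv1).1, e1, e2⟩

/-- The projection of a member onto the part commuting suitably with an opposite of the commutator. -/
theorem exists_pure (hσ : σ ∈ minimalQuadraticElements G) (hτ : τ ∈ minimalQuadraticElements G)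
    (hn : IsNilPair (alpha σ) (alpha τ)) (hne : bracket (alpha σ) (alpha τ) ≠ 0)
    {v : LinearMap.GeneralLinearGroup k M} (hv : v ∈ minimalQuadraticElements G)
    (hρ : commElt σ τ ∈ minimalQuadraticElements G)
    (e1 : bracket (alpha σ) (alpha τ) * alpha v * bracket (alpha σ) (alpha τ) = bracket (alpha σ) (alpha τ))
    (e2 : alpha v * bracket (alpha σ) (alpha τ) * alpha v = alpha v) :
    ∃ σ' ∈ minimalQuadraticElements G,
      alpha σ - alpha σ' ∈ actSpace G (commElt σ τ) (sq_of_min hρ) ∧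
      IsNilPair (alpha σ') (alpha τ) ∧ bracket (alpha σ') (alpha τ) = bracket (alpha σ) (alpha τ) ∧
      ∃ σ'' ∈ minimalQuadraticElements G, IsNilPair (alpha σ'') (bracket (alpha σ) (alpha τ)) ∧
        bracket (alpha σ'') (bracket (alpha σ) (alpha τ)) = alpha σ' := by
  have D := commData hσ hτ hn hne
  set a := alpha σ with ha
  set b := alpha τ with hb
  set δ := bracket a b with hδ
  set x := alpha v with hx
  have hda : δ * a = 0 := (bracket_left (sq_of_min hσ) hn).2
  have had : a * δ = 0 := (bracket_left (sq_of_min hσ) hn).1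
  have hbd : b * δ = 0 := (bracket_right (sq_of_min hτ) hn).1
  have hdb : δ * b = 0 := (bracket_right (sq_of_min hτ) hn).2
  have hdd : δ * δ = 0 := bracket_sq (sq_of_min hσ) (sq_of_min hτ) hn
  have hxx : x * x = 0 := sq_of_min hv
  have haa : a * a = 0 := sq_of_min hσ
  have had' : ∀ m, a * (δ * m) = 0 := fun m => by rw [← mul_assoc, had, zero_mul]
  have hda' : ∀ m, δ * (a * m) = 0 := fun m => by rw [← mul_assoc, hda, zero_mul]
  have hbd' : ∀ m, b * (δ * m) = 0 := fun m => by rw [← mul_assoc, hbd, zero_mul]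
  have hdb' : ∀ m, δ * (b * m) = 0 := fun m => by rw [← mul_assoc, hdb, zero_mul]
  have hdd' : ∀ m, δ * (δ * m) = 0 := fun m => by rw [← mul_assoc, hdd, zero_mul]
  have hxx' : ∀ m, x * (x * m) = 0 := fun m => by rw [← mul_assoc, hxx, zero_mul]
  have haa' : ∀ m, a * (a * m) = 0 := fun m => by rw [← mul_assoc, haa, zero_mul]
  have e1' : ∀ m, δ * (x * (δ * m)) = δ * m := fun m => by rw [← mul_assoc, ← mul_assoc, e1]
  have e2' : ∀ m, x * (δ * (x * m)) = x * m := fun m => by rw [← mul_assoc, ← mul_assoc, e2]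
  have e1'' : δ * (x * δ) = δ := by rw [← mul_assoc, e1]
  have e2'' : x * (δ * x) = x := by rw [← mul_assoc, e2]
  set Q := δ * x + x * δ with hQ
  set P := 1 - Q with hP
  set o := δ * x * a * (x * δ) with ho
  set t := δ * x * a * P with ht
  set u := P * a * (x * δ) with hu
  set z := P * a * P with hz
  have hsplit : a = t + u + o + z := by
    simp only [ht, hu, ho, hz, hP, hQ, mul_sub, sub_mul, mul_add, add_mul, one_mul, mul_one, mul_assoc, had', hda',
      hdd', hxx', e1', e2', had, hda, hdd, hxx, e1'', e2'', mul_zero, zero_mul]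
    abel
  -- the torus
  have hval : ∀ μ : k, μ ≠ 0 → ∃ T ∈ G, ((T : LinearMap.GeneralLinearGroup k M) : M →ₗ[k] M) =
      P + μ • (δ * x) + μ⁻¹ • (x * δ) := by
    intro μ hμ
    have hfamd : ∀ c : k, ∃ w ∈ G, ((w : LinearMap.GeneralLinearGroup k M) : M →ₗ[k] M) = 1 + c • δ :=
      bracket_family hσ hτ hn
    have hfamx : ∀ c : k, ∃ w ∈ G, ((w : LinearMap.GeneralLinearGroup k M) : M →ₗ[k] M) = 1 + c • x := fun c =>
      ⟨_, hv.1.2.2 (oneAdd_mem_scalarFamily hxx c), rfl⟩
    have hw : ∀ l : k, l ≠ 0 → ∃ w ∈ G, ((w : LinearMap.GeneralLinearGroup k M) : M →ₗ[k] M) =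
        P + l • δ - l⁻¹ • x := by
      intro l hl
      obtain ⟨p, hp, ep⟩ := hfamd l
      obtain ⟨q, hq, eq'⟩ := hfamx (-l⁻¹)
      refine ⟨p * q * p, mul_mem (mul_mem hp hq) hp, ?_⟩
      rw [Units.val_mul, Units.val_mul, ep, eq', hP, hQ]
      simp only [add_mul, mul_add, one_mul, mul_one, smul_mul_assoc, mul_smul_comm, smul_smul, mul_assoc, hdd,
        e1'', smul_zero, add_zero, zero_add]
      match_scalars <;> field_simp <;> ring
    obtain ⟨w, hw1, ew⟩ := hw μ hμ
    obtain ⟨w', hw2, ew'⟩ := hw (-1) (by norm_num)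
    refine ⟨w * w', mul_mem hw1 hw2, ?_⟩
    rw [Units.val_mul, ew, ew', hP, hQ]
    simp only [mul_sub, sub_mul, mul_add, add_mul, one_mul, mul_one, smul_mul_assoc, mul_smul_comm, smul_smul,
      mul_assoc, hdd', hxx', e1', e2', hdd, hxx, e1'', e2'', mul_zero, smul_zero, smul_sub, smul_add]
    match_scalars <;> field_simp <;> ring
  have hTinv : ∀ μ : k, μ ≠ 0 → ∀ T : LinearMap.GeneralLinearGroup k M,
      (T : M →ₗ[k] M) = P + μ • (δ * x) + μ⁻¹ • (x * δ) →
      ((T⁻¹ : LinearMap.GeneralLinearGroup k M) : M →ₗ[k] M) = P + μ⁻¹ • (δ * x) + μ • (x * δ) := by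
    intro μ hμ T eT
    refine Units.inv_eq_of_mul_eq_one_right ?_
    rw [eT, hP, hQ]
    simp only [mul_sub, sub_mul, mul_add, add_mul, one_mul, mul_one, smul_mul_assoc, mul_smul_comm, smul_smul,
      mul_assoc, hdd', hxx', e1', e2', hdd, hxx, e1'', e2'', mul_zero, smul_zero, smul_sub, smul_add]
    match_scalars <;> field_simp <;> ring
  have hconj : ∀ μ : k, μ ≠ 0 → (P + μ • (δ * x) + μ⁻¹ • (x * δ)) * a * (P + μ⁻¹ • (δ * x) + μ • (x * δ)) =
      μ • t + μ • u + (μ * μ) • o + z := by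
    intro μ hμ
    simp only [ht, hu, ho, hz, hP, hQ, mul_sub, sub_mul, mul_add, add_mul, one_mul, mul_one, smul_mul_assoc,
      mul_smul_comm, smul_smul, mul_assoc, had', hda', hdd', hxx', e1', e2', had, hda, hdd, hxx, e1'', e2'',
      mul_zero, zero_mul, smul_zero, smul_sub, smul_add]
    match_scalars <;> field_simp <;> ring
  have hfama : ∀ c : k, ∃ w ∈ G, ((w : LinearMap.GeneralLinearGroup k M) : M →ₗ[k] M) = 1 + c • a := fun c =>
    ⟨_, hσ.1.2.2 (oneAdd_mem_scalarFamily (sq_of_min hσ) c), rfl⟩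
  -- the part `o + z`
  obtain ⟨T₁, hT₁, eT₁⟩ := hval (-1) (by norm_num)
  set a' := (T₁ : M →ₗ[k] M) * a * ((T₁⁻¹ : LinearMap.GeneralLinearGroup k M) : M →ₗ[k] M) with ha'
  have ha'v : a' = -t - u + o + z := by
    rw [ha', hTinv (-1) (by norm_num) T₁ eT₁, eT₁, hconj (-1) (by norm_num)]
    module
  have haQa : a * (δ * (x * a)) = 0 ∧ a * (x * (δ * a)) = 0 := ⟨had' _, by rw [hda, mul_zero, mul_zero]⟩
  have hT₁Q : (T₁ : M →ₗ[k] M) = 1 - (2 : k) • Q := by
    rw [eT₁, hP, hQ, inv_neg, inv_one]; module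
  have hT₁i : ((T₁⁻¹ : LinearMap.GeneralLinearGroup k M) : M →ₗ[k] M) = 1 - (2 : k) • Q := by
    rw [hTinv (-1) (by norm_num) T₁ eT₁, hP, hQ, inv_neg, inv_one]; module
  have haa'0 : a * a' = 0 ∧ a' * a = 0 := by
    rw [ha', hT₁Q, hT₁i, hQ]
    constructor <;>
      simp only [mul_sub, sub_mul, mul_add, add_mul, one_mul, mul_one, smul_mul_assoc, mul_smul_comm, mul_assoc,
        haQa.1, haQa.2, had', haa', had, haa, hda, mul_zero, zero_mul, smul_zero, add_zero, sub_zero, smul_add]
  have hoz : ∀ c : k, ∃ w ∈ G, ((w : LinearMap.GeneralLinearGroup k M) : M →ₗ[k] M) = 1 + c • (o + z) := by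
    have h := family_smul (family_add (G := G) haa'0.1 hfama (family_conj hT₁ hfama)) (2 : k)⁻¹
    have e : (2 : k)⁻¹ • (a + a') = o + z := by
      rw [ha'v]
      conv_lhs => arg 2; arg 1; rw [hsplit]
      match_scalars <;> field_simp <;> norm_num
    rw [e] at h
    exact h
  have hoz2 : (o + z) * (o + z) = 0 := by
    have e : o + z = (2 : k)⁻¹ • (a + a') := by
      rw [ha'v]
      conv_rhs => arg 2; arg 1; rw [hsplit]
      match_scalars <;> field_simp <;> norm_num
    have h1 : a' * a' = 0 := by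
      rw [ha']
      calc _ = (T₁ : M →ₗ[k] M) * a * (((T₁⁻¹ : LinearMap.GeneralLinearGroup k M) : M →ₗ[k] M) *
            (T₁ : M →ₗ[k] M)) * a * ((T₁⁻¹ : LinearMap.GeneralLinearGroup k M) : M →ₗ[k] M) := by
              simp only [mul_assoc]
        _ = 0 := by rw [Units.inv_mul, mul_one, mul_assoc (T₁ : M →ₗ[k] M), haa, mul_zero, zero_mul]
    rw [e, smul_mul_assoc, mul_smul_comm, add_mul, mul_add, mul_add, haa'0.1, haa'0.2, h1, haa]
    simp
  have hoo : o * o = 0 := by simp only [ho, mul_assoc, hdd', had', hxx', mul_zero]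
  have hoz0 : o * z = 0 ∧ z * o = 0 := by
    constructor <;>
      simp only [ho, hz, hP, hQ, mul_assoc, sub_mul, mul_sub, add_mul, mul_add, one_mul, mul_one, hdd', had', hda',
        hxx', e1', e2', had, hda, hdd, hxx, e1'', e2'', mul_zero, zero_mul, sub_self, add_zero, zero_add, sub_zero]
  have hzz : z * z = 0 := by
    have h := hoz2
    rwa [add_mul, mul_add, mul_add, hoo, hoz0.1, hoz0.2, zero_add, zero_add, zero_add] at h
  -- separate `o` and `z`
  obtain ⟨μ, hμ, hμ2⟩ := exists_sq_ne_one (card_eq_zero_or (k := k) (F := k) h2 h3)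
  obtain ⟨T, hT, eT⟩ := hval μ hμ
  have hTo : (T : M →ₗ[k] M) * (o + z) * ((T⁻¹ : LinearMap.GeneralLinearGroup k M) : M →ₗ[k] M) =
      (μ * μ) • o + z := by
    rw [hTinv μ hμ T eT, eT]
    simp only [ho, hz, hP, hQ, mul_sub, sub_mul, mul_add, add_mul, one_mul, mul_one, smul_mul_assoc, mul_smul_comm,
      smul_smul, mul_assoc, had', hda', hdd', hxx', e1', e2', had, hda, hdd, hxx, e1'', e2'', mul_zero, zero_mul,
      smul_zero, smul_sub, smul_add]
    match_scalars <;> field_simp <;> ring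
  have hμne : μ * μ - 1 ≠ 0 := by rw [← pow_two]; exact sub_ne_zero.2 hμ2
  have hfTo := family_conj (G := G) hT hoz
  rw [hTo] at hfTo
  have hmul : ((μ * μ) • o + z) * ((-1 : k) • (o + z)) = 0 ∧
      ((μ * μ) • (o + z)) * ((-1 : k) • ((μ * μ) • o + z)) = 0 := by
    constructor <;>
      simp only [add_mul, mul_add, smul_add, smul_mul_assoc, mul_smul_comm, hoo, hzz, hoz0.1, hoz0.2, smul_zero,
        add_zero]
  have hfo : ∀ c : k, ∃ w ∈ G, ((w : LinearMap.GeneralLinearGroup k M) : M →ₗ[k] M) = 1 + c • o := by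
    have h := family_smul (family_add (G := G) hmul.1 hfTo (family_smul hoz (-1))) (μ * μ - 1)⁻¹
    have e : (μ * μ - 1)⁻¹ • ((μ * μ) • o + z + (-1 : k) • (o + z)) = o := by
      match_scalars <;> field_simp <;> ring
    rwa [e] at h
  have hfz : ∀ c : k, ∃ w ∈ G, ((w : LinearMap.GeneralLinearGroup k M) : M →ₗ[k] M) = 1 + c • z := by
    have h := family_smul (family_add (G := G) hmul.2 (family_smul hoz (μ * μ)) (family_smul hfTo (-1)))
      (μ * μ - 1)⁻¹
    have e : (μ * μ - 1)⁻¹ • ((μ * μ) • (o + z) + (-1 : k) • ((μ * μ) • o + z)) = z := by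
      match_scalars <;> field_simp <;> ring
    rwa [e] at h
  have hkerP : ∀ m, δ m = 0 → x m = 0 → P m = m := by
    intro m hm1 hm2
    rw [hP, hQ]
    simp [hm1, hm2]
  have hPδ : P * δ = 0 := by
    simp only [hP, hQ, sub_mul, add_mul, one_mul, mul_assoc, hdd, e1'', mul_zero, add_zero, sub_self]
  have hδP : δ * P = 0 := by
    simp only [hP, hQ, mul_sub, mul_add, mul_one, hdd', e1'', zero_add, sub_self]
  have hxP : x * P = 0 := by
    simp only [hP, hQ, mul_sub, mul_add, mul_one, hxx', e2'', add_zero, sub_self]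
  have hPx : P * x = 0 := by
    simp only [hP, hQ, sub_mul, add_mul, one_mul, mul_assoc, hxx, e2'', mul_zero, zero_add, sub_self]
  -- `z = 0`
  have hz0 : z = 0 := by
    by_contra hzne
    have hr := rank_le_of_family hσ hzz hzne fun c => by
      obtain ⟨w, hw, ew⟩ := hfz c
      convert hw using 1
      exact Units.ext (by rw [oneAdd_val, ew])
    rw [← ha] at hr
    have hsub : LinearMap.range z ≤ (LinearMap.range a).map P := by
      rintro _ ⟨m, rfl⟩
      exact ⟨a (P m), ⟨_, rfl⟩, rfl⟩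
    have hrk := LinearMap.finrank_range_add_finrank_ker (P.domRestrict (LinearMap.range a))
    rw [LinearMap.range_domRestrict] at hrk
    have hle := Submodule.finrank_mono hsub
    have hker0 : LinearMap.ker (P.domRestrict (LinearMap.range a)) = ⊥ := Submodule.finrank_eq_zero.1 (by omega)
    have heqz : LinearMap.range z = (LinearMap.range a).map P := Submodule.eq_of_le_of_finrank_le hsub (by omega)
    have hab0 : a * b = 0 := by
      refine LinearMap.ext fun m => ?_
      have hm : (a * b) m ∈ LinearMap.range δ := by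
        have hr' := D.range_eq
        rw [D.eq, ← hδ, ← ha, ← hb] at hr'
        rw [hr', ← D.range_mul]
        exact Submodule.mem_sup_left ⟨m, rfl⟩
      obtain ⟨y, hy⟩ := hm
      have hP0 : P ((a * b) m) = 0 := by rw [← hy, ← Module.End.mul_apply, hPδ, LinearMap.zero_apply]
      have hmem : (⟨(a * b) m, ⟨b m, rfl⟩⟩ : LinearMap.range a) ∈ LinearMap.ker (P.domRestrict (LinearMap.range a)) := hP0
      rw [hker0, Submodule.mem_bot] at hmem
      exact congrArg Subtype.val hmem
    have hba : b * a = -δ := by rw [hδ, bracket, hab0, zero_sub, neg_neg]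
    have hbP : b * P * a = -δ := by
      simp only [hP, hQ, mul_sub, sub_mul, mul_add, add_mul, mul_one, mul_assoc, hbd', hda, mul_zero, add_zero,
        sub_zero, zero_mul, hba]
    have hbz : b * z = 0 := by
      rw [hz, ← mul_assoc, ← mul_assoc, hbP, neg_mul, hδP, neg_zero]
    refine hne (LinearMap.ext fun m => ?_)
    obtain ⟨y, hy⟩ : P (a m) ∈ LinearMap.range z := heqz ▸ ⟨a m, ⟨m, rfl⟩, rfl⟩
    have h1 : (b * P * a) m = 0 := by
      rw [Module.End.mul_apply, Module.End.mul_apply, ← hy, ← Module.End.mul_apply, hbz, LinearMap.zero_apply]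
    rw [hbP, LinearMap.neg_apply, neg_eq_zero] at h1
    exact h1
  -- the pure part
  set a₀ := t + u with ha₀
  have ha₀' : a₀ = a - o := by rw [hsplit, hz0, ha₀]; abel
  have hao : a * o = 0 ∧ o * a = 0 := by
    constructor <;> simp only [ho, mul_assoc, had', hda, mul_zero]
  have hob : o * b = 0 ∧ b * o = 0 := by
    constructor <;> simp only [ho, mul_assoc, hbd', hdb, mul_zero]
  have hsq₀ : a₀ * a₀ = 0 := by
    rw [ha₀']; simp only [sub_mul, mul_sub, haa, hao.1, hao.2, hoo, sub_zero]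
  have hoA : o ∈ actSpace G (commElt σ τ) (sq_of_min hρ) := by
    refine ⟨?_, ?_, hfo⟩ <;> rw [D.eq]
    · rintro _ ⟨m, rfl⟩; exact ⟨x (a (x (δ m))), rfl⟩
    · intro m hm
      rw [LinearMap.mem_ker] at hm ⊢
      have : o m = (δ * x * a * x) (δ m) := by simp only [ho, ← mul_assoc]; rfl
      rw [this, hm, map_zero]
  have hfam₀ : ∀ c : k, ∃ w ∈ G, ((w : LinearMap.GeneralLinearGroup k M) : M →ₗ[k] M) = 1 + c • a₀ := by
    have h := family_add (G := G) (γ := a) (η := (-1 : k) • o) (by rw [mul_smul_comm, hao.1, smul_zero]) hfama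
      (family_smul hfo (-1))
    rwa [show a + (-1 : k) • o = a₀ by rw [ha₀', neg_one_smul, sub_eq_add_neg]] at h
  have hne₀ : a₀ ≠ 0 := by
    intro h0
    have hao' : a = o := by rw [ha₀'] at h0; exact sub_eq_zero.1 h0
    refine hne ?_
    rw [hδ, bracket, hao', hob.1, hob.2, sub_zero]
  have hrank₀ : Module.finrank k (LinearMap.range a₀) ≤ Module.finrank k (LinearMap.range a) := by
    have hsub : LinearMap.range a₀ ≤ (LinearMap.range a ⊓ LinearMap.ker P) ⊔ (LinearMap.range a).map P := by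
      rintro _ ⟨m, rfl⟩
      rw [ha₀, LinearMap.add_apply]
      refine add_mem (Submodule.mem_sup_left ?_) (Submodule.mem_sup_right ?_)
      · have e : t m = a (P m) - z m := by
          have h := congrArg (fun F : M →ₗ[k] M => (F * P) m) hsplit
          simp only [Module.End.mul_apply] at h
          rw [h, LinearMap.add_apply, LinearMap.add_apply, LinearMap.add_apply]
          have h1 : u * P = 0 := by rw [hu, mul_assoc, mul_assoc x, hδP, mul_zero, mul_zero]
          have h2' : o * P = 0 := by rw [ho, mul_assoc, mul_assoc x, hδP, mul_zero, mul_zero]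
          have h4 : t * P = t := by
            have hPP : P * P = P := by
              conv_lhs => arg 2; rw [hP, hQ]
              simp only [mul_sub, mul_add, mul_one, ← mul_assoc, hPδ, hPx, zero_mul, add_zero, sub_zero]
            rw [ht, mul_assoc, hPP]
          rw [← Module.End.mul_apply t, h4, ← Module.End.mul_apply u, h1, ← Module.End.mul_apply o, h2', hz0]
          simp
        rw [hz0, LinearMap.zero_apply, sub_zero] at e
        refine ⟨e ▸ ⟨P m, rfl⟩, ?_⟩
        show P (t m) = 0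
        rw [← Module.End.mul_apply, ht, ← mul_assoc, ← mul_assoc, ← mul_assoc, hPδ, zero_mul, zero_mul, zero_mul,
          LinearMap.zero_apply]
      · exact ⟨a ((x * δ) m), ⟨_, rfl⟩, by rw [hu]; rfl⟩
    have hrk := LinearMap.finrank_range_add_finrank_ker (P.domRestrict (LinearMap.range a))
    rw [LinearMap.range_domRestrict] at hrk
    have hker : (LinearMap.ker (P.domRestrict (LinearMap.range a))).map (LinearMap.range a).subtype =
        LinearMap.range a ⊓ LinearMap.ker P := by
      ext w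
      constructor
      · rintro ⟨⟨y, hy⟩, hy', rfl⟩; exact ⟨hy, hy'⟩
      · rintro ⟨hw, hw'⟩; exact ⟨⟨w, hw⟩, hw', rfl⟩
    have h4 : Module.finrank k (LinearMap.ker (P.domRestrict (LinearMap.range a))) =
        Module.finrank k ↥(LinearMap.range a ⊓ LinearMap.ker P) := by
      rw [← hker, Submodule.finrank_map_subtype_eq]
    have h5 := Submodule.finrank_mono hsub
    have h6 := Submodule.finrank_sup_add_finrank_inf_eq (LinearMap.range a ⊓ LinearMap.ker P) ((LinearMap.range a).map P)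
    omega
  set σ' := oneAdd a₀ hsq₀ with hσ'def
  have hα' : alpha σ' = a₀ := by simp [alpha, hσ'def, oneAdd_val]
  have hσ' : σ' ∈ minimalQuadraticElements G := exists_minimal_of_family hσ hsq₀ hne₀ hfam₀ hrank₀
  refine ⟨σ', hσ', by rw [hα', ha₀', sub_sub_cancel]; exact hoA, ⟨?_, ?_⟩, ?_, ?_⟩
  · rw [hα', ha₀']; simp only [sub_mul, mul_sub, hob.1, hob.2, mul_assoc, sub_zero, mul_zero, zero_mul]
    rw [← mul_assoc a b a, hn.1]
  · rw [hα', ha₀']; simp only [sub_mul, mul_sub, hob.2, hn.2, zero_mul, sub_zero]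
  · rw [hα', hδ, bracket, bracket, ha₀', sub_mul, mul_sub, hob.1, hob.2, sub_zero, sub_zero]
  -- the element opposite across `δ`
  have hxt : x * t ≠ 0 ∨ u * x ≠ 0 := by
    by_contra h
    push Not at h
    refine hne₀ ?_
    have ht0 : t = 0 := by
      have : t = δ * (x * t) := by simp only [ht, mul_assoc, e1']
      rw [this, h.1, mul_zero]
    have hu0 : u = 0 := by
      have : u = (u * x) * δ := by simp only [hu, mul_assoc, e2', e1'', hdd', hxx', e2'']
      rw [this, h.2, zero_mul]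
    rw [ha₀, ht0, hu0, add_zero]
  have hax : a₀ * x = u * x := by
    rw [ha₀, add_mul, ht, mul_assoc (δ * x * a) P x, hPx, mul_zero, zero_add]
  have hxa : x * a₀ = x * t := by
    simp only [ha₀, mul_add, hu, ← mul_assoc, hxP, zero_mul, add_zero]
  have hud : (u * x) * δ = u := by simp only [hu, mul_assoc, e2', e1'', hdd', hxx', e2'']
  have hdu : δ * u = 0 := by simp only [hu, ← mul_assoc, hδP, zero_mul]
  have htd : t * δ = 0 := by rw [ht, mul_assoc, hPδ, mul_zero]
  have hdt : δ * (x * t) = t := by simp only [ht, mul_assoc, e1']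
  have hnx : IsNilPair (alpha σ') (alpha v) := by
    refine (dichotomy_root h2 h3 hσ' hv).resolve_right ?_
    rintro ⟨f, hf⟩
    have g1 := hf.left_geom
    have g2 := hf.right_geom
    rw [hα', ← hx] at g1 g2
    by_cases hu0 : u = 0
    · have hzero : a₀ * x = 0 := by rw [hax, hu0, zero_mul]
      have : LinearMap.range x ≤ LinearMap.range x ⊓ LinearMap.ker a₀ := le_inf le_rfl (by
        rintro _ ⟨m, rfl⟩
        rw [LinearMap.mem_ker, ← Module.End.mul_apply, hzero, LinearMap.zero_apply])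
      rw [g1, le_bot_iff, LinearMap.range_eq_bot] at this
      exact alpha_ne_zero hv this
    · refine hu0 (LinearMap.ext fun m => ?_)
      have hm : u m ∈ LinearMap.range a₀ ⊓ LinearMap.ker x := by
        refine ⟨⟨(x * δ) m, ?_⟩, ?_⟩
        · rw [ha₀, LinearMap.add_apply, ← Module.End.mul_apply, ← Module.End.mul_apply,
            show t * (x * δ) = 0 by rw [ht, mul_assoc, ← mul_assoc P, hPx, zero_mul, mul_zero], LinearMap.zero_apply,
            zero_add]
          congr 1
          all_goals simp only [hu, mul_assoc, e2', e1'']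
        · show u m ∈ LinearMap.ker x
          rw [LinearMap.mem_ker, ← Module.End.mul_apply]
          simp only [hu, ← mul_assoc, hxP, zero_mul, LinearMap.zero_apply]
      rw [g2, Submodule.mem_bot] at hm
      rw [hm, LinearMap.zero_apply]
  set β := bracket (alpha σ') (alpha v) with hβ
  have hβv : β = u * x - x * t := by rw [hβ, bracket, hα', ← hx, hax, hxa]
  have hβne : β ≠ 0 := by
    intro h0
    rw [hβv] at h0
    rcases hxt with h | h <;> apply h
    · have := congrArg (fun F : M →ₗ[k] M => x * (δ * F)) h0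
      simp only [mul_sub, ← mul_assoc δ u, hdu, zero_mul, mul_zero, hdt, zero_sub, mul_neg, neg_eq_zero] at this
      exact this
    · rw [sub_eq_zero.1 h0]
      have := congrArg (fun F : M →ₗ[k] M => x * (δ * F)) h0
      simp only [mul_sub, ← mul_assoc δ u, hdu, zero_mul, mul_zero, hdt, zero_sub, mul_neg, neg_eq_zero] at this
      exact this
  have D' := commData hσ' hv hnx hβne
  have hβδ : β * δ = u := by
    rw [hβv, sub_mul, hud, mul_assoc x, htd, mul_zero, sub_zero]
  have hδβ : δ * β = -t := by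
    rw [hβv, mul_sub, ← mul_assoc δ u, hdu, zero_mul, hdt, zero_sub]
  refine ⟨commElt σ' v, D'.mem, ?_, ?_⟩
  · rw [show δ = alpha (commElt σ τ) from D.eq.symm]
    refine (dichotomy_root h2 h3 D'.mem D.mem).resolve_right ?_
    rintro ⟨f, hf⟩
    have g1 := hf.left_geom
    have g2 := hf.right_geom
    rw [D'.eq, show alpha (commElt σ τ) = δ from D.eq, ← hβ] at g1 g2
    by_cases hu0 : u = 0
    · have : LinearMap.range δ ≤ LinearMap.range δ ⊓ LinearMap.ker β := le_inf le_rfl (by
        rintro _ ⟨m, rfl⟩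
        rw [LinearMap.mem_ker, ← Module.End.mul_apply, hβδ, hu0, LinearMap.zero_apply])
      rw [g1, le_bot_iff, LinearMap.range_eq_bot] at this
      exact hne this
    · refine hu0 (LinearMap.ext fun m => ?_)
      have hm : u m ∈ LinearMap.range β ⊓ LinearMap.ker δ := by
        refine ⟨⟨δ m, by rw [← Module.End.mul_apply, hβδ]⟩, ?_⟩
        show u m ∈ LinearMap.ker δ
        rw [LinearMap.mem_ker, ← Module.End.mul_apply, hdu, LinearMap.zero_apply]
      rw [g2, Submodule.mem_bot] at hm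
      rw [hm, LinearMap.zero_apply]
  · rw [D'.eq, ← hβ, hα']
    show β * δ - δ * β = a₀
    rw [hβδ, hδβ, ha₀, sub_neg_eq_add, add_comm]

omit h2 h3 in
theorem actSpace_congr {u : LinearMap.GeneralLinearGroup k M} (hu : u ∈ minimalQuadraticElements G)
    {w : LinearMap.GeneralLinearGroup k M} (hw : w ∈ minimalQuadraticElements G) (h : alpha u = alpha w) :
    u = w := Units.ext (by rw [alpha_add_one u, alpha_add_one w, h])

/-- The dimension of the space of the pure element. -/
theorem finrank_pure {σ'' : LinearMap.GeneralLinearGroup k M} (hσ : σ ∈ minimalQuadraticElements G)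
    (hτ : τ ∈ minimalQuadraticElements G) (hρ : ρ ∈ minimalQuadraticElements G)
    (hσ'' : σ'' ∈ minimalQuadraticElements G) (hn : IsNilPair (alpha σ'') (alpha ρ))
    (hb : bracket (alpha σ'') (alpha ρ) = alpha σ) :
    Module.finrank k (actSpace G ρ (sq_of_min hρ)) ≤ Module.finrank k (actSpace G σ (sq_of_min hσ)) := by
  have hne : bracket (alpha ρ) (alpha σ'') ≠ 0 := by
    rw [bracket_swap, hb, neg_ne_zero]; exact alpha_ne_zero hσ
  have h := finrank_le_of_bracket h2 h3 hρ hσ'' hn.symm hne (commData hρ hσ'' hn.symm hne).mem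
  refine h.trans (le_of_eq ?_)
  have he : alpha (commElt ρ σ'') = -alpha σ := by
    rw [(commData hρ hσ'' hn.symm hne).eq, bracket_swap, hb]
  have key : ∀ γ, γ ∈ actSpace G (commElt ρ σ'') (sq_of_min (commData hρ hσ'' hn.symm hne).mem) ↔
      γ ∈ actSpace G σ (sq_of_min hσ) := fun γ => by
    show (_ ∧ _ ∧ _) ↔ (_ ∧ _ ∧ _)
    rw [he, LinearMap.range_neg, LinearMap.ker_neg]
  rw [Submodule.ext key]

/-- **Every member of `E(ε)` is a commutator with a fixed member of `E(σ)`.** -/
theorem bracket_surjective (hG : IsQuadraticPair G) (hσ : σ ∈ minimalQuadraticElements G)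
    (hτ : τ ∈ minimalQuadraticElements G) (hn : IsNilPair (alpha σ) (alpha τ))
    (hne : bracket (alpha σ) (alpha τ) ≠ 0) (hρ : commElt σ τ ∈ minimalQuadraticElements G) :
    Module.finrank k (actSpace G (commElt σ τ) (sq_of_min hρ)) ≤
      Module.finrank k (actSpace G σ (sq_of_min hσ)) := by
  have D := commData hσ hτ hn hne
  obtain ⟨v, hv, e1, e2⟩ := exists_opposite' h2 h3 hG hρ
  rw [D.eq] at e1 e2
  obtain ⟨σ', hσ', hdiff, hn', hbr, σ'', hσ'', hnil'', hbr''⟩ := exists_pure h2 h3 hσ hτ hn hne hv hρ e1 e2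
  have hdim : ∀ {σ' σ''}, (hσ' : σ' ∈ minimalQuadraticElements G) → σ'' ∈ minimalQuadraticElements G →
      IsNilPair (alpha σ'') (bracket (alpha σ) (alpha τ)) →
      bracket (alpha σ'') (bracket (alpha σ) (alpha τ)) = alpha σ' →
      Module.finrank k (actSpace G (commElt σ τ) (sq_of_min hρ)) ≤ Module.finrank k (actSpace G σ' (sq_of_min hσ')) :=
    fun {σ' σ''} hσ' hσ'' h1 h4 =>
      finrank_pure h2 h3 hσ' hρ hρ hσ'' (by rw [D.eq]; exact h1) (by rw [D.eq]; exact h4)
  have hne' : bracket (alpha τ) (alpha σ') ≠ 0 := by rw [bracket_swap, hbr, neg_ne_zero]; exact hne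
  -- the symmetric pure element
  have hρ' : commElt τ σ' ∈ minimalQuadraticElements G := (commData hτ hσ' hn'.symm hne').mem
  have hea : alpha (commElt τ σ') = -bracket (alpha σ) (alpha τ) := by
    rw [(commData hτ hσ' hn'.symm hne').eq, bracket_swap, hbr]
  have e1' : bracket (alpha τ) (alpha σ') * alpha v⁻¹ * bracket (alpha τ) (alpha σ') = bracket (alpha τ) (alpha σ') ∧
      alpha v⁻¹ * bracket (alpha τ) (alpha σ') * alpha v⁻¹ = alpha v⁻¹ := by
    have hvi : alpha v⁻¹ = -alpha v := by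
      rw [alpha, inv_val_of_sq v (sq_of_min hv)]; abel
    rw [bracket_swap (alpha σ') (alpha τ), hbr, hvi]
    exact ⟨by simp [e1], by simp [e2]⟩
  have hvinv : v⁻¹ ∈ minimalQuadraticElements G :=
    (sameAction_eq_of_mem hv (inv_mem (self_mem_sameAction hv))
      (inv_ne_one.2 fun e => alpha_ne_zero hv (by rw [e, alpha_one]))).1
  obtain ⟨τ', hτ', -, hnτ, hbrτ, τ'', hτ'', hnilτ'', hbrτ''⟩ :=
    exists_pure h2 h3 hτ hσ' hn'.symm hne' hvinv hρ' e1'.1 e1'.2
  -- surjectivity for the pure pair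
  have hneP : bracket (alpha τ') (alpha σ') ≠ 0 := by rw [hbrτ]; exact hne'
  have hkey : ∀ γ, γ ∈ actSpace G (commElt τ' σ') (sq_of_min (commData hτ' hσ' hnτ hneP).mem) ↔
      γ ∈ actSpace G (commElt σ τ) (sq_of_min hρ) := fun γ => by
    have he : alpha (commElt τ' σ') = -alpha (commElt σ τ) := by
      rw [(commData hτ' hσ' hnτ hneP).eq, hbrτ, bracket_swap, hbr, D.eq]
    show (_ ∧ _ ∧ _) ↔ (_ ∧ _ ∧ _)
    rw [he, LinearMap.range_neg, LinearMap.ker_neg]
  let L : ↥(actSpace G τ' (sq_of_min hτ')) →ₗ[k] ↥(actSpace G (commElt σ τ) (sq_of_min hρ)) :=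
    { toFun := fun γ => ⟨bracket γ.1 (alpha σ'), (hkey _).1 (by
        have := (bracket_class h2 h3 hτ' hσ' hnτ hneP (oneAdd_mem_sameAction hτ' γ.2) (self_mem_sameAction hσ')).1
        simpa [alpha, oneAdd_val] using this)⟩
      map_add' := fun x y => Subtype.ext (by simp [bracket, add_mul, mul_add]; abel)
      map_smul' := fun c x => Subtype.ext (by simp [bracket, smul_sub]) }
  have hLinj : Function.Injective L := by
    rw [← LinearMap.ker_eq_bot, LinearMap.ker_eq_bot']
    rintro ⟨γ, hγ⟩ h0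
    by_contra hγ0
    exact (bracket_class h2 h3 hτ' hσ' hnτ hneP (oneAdd_mem_sameAction hτ' hγ) (self_mem_sameAction hσ')).2
      (fun e => hγ0 (Subtype.ext (by simpa [alpha, oneAdd_val] using congrArg alpha e)))
      (fun e => alpha_ne_zero hσ' (by rw [e, alpha_one]))
      (by simpa [alpha, oneAdd_val, L] using congrArg Subtype.val h0)
  have hdimτ : Module.finrank k (actSpace G (commElt σ τ) (sq_of_min hρ)) ≤
      Module.finrank k (actSpace G τ' (sq_of_min hτ')) := by
    have h := finrank_pure h2 h3 hτ' hρ' hρ' hτ'' (by rw [(commData hτ hσ' hn'.symm hne').eq]; exact hnilτ'')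
      (by rw [(commData hτ hσ' hn'.symm hne').eq]; exact hbrτ'')
    refine le_trans (le_of_eq ?_) h
    rw [Submodule.ext (p := actSpace G (commElt σ τ) (sq_of_min hρ)) (q := actSpace G (commElt τ σ') (sq_of_min hρ'))
      fun γ => ?_]
    show (_ ∧ _ ∧ _) ↔ (_ ∧ _ ∧ _)
    rw [hea, D.eq, LinearMap.range_neg, LinearMap.ker_neg]
  have hLsur : Function.Surjective L :=
    (LinearMap.injective_iff_surjective_of_finrank_eq_finrank
      (le_antisymm (LinearMap.finrank_le_finrank_of_injective hLinj) hdimτ)).1 hLinj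
  obtain ⟨⟨γ, hγ⟩, hγe⟩ := hLsur ⟨_, hdiff⟩
  have hγe' : bracket γ (alpha σ') = alpha σ - alpha σ' := congrArg Subtype.val hγe
  -- `σ` is a conjugate of `σ'`
  set g := oneAdd γ (actSpace_sq hγ) with hg
  have hαg : alpha g = γ := by simp [alpha, hg, oneAdd_val]
  have hgG : g ∈ G := sameAction_le hτ' (oneAdd_mem_sameAction hτ' hγ)
  have hnγ : IsNilPair γ (alpha σ') := by
    have := hnτ.of_class h2 h3 hτ' hσ' (oneAdd_mem_sameAction hτ' hγ) (self_mem_sameAction hσ')
    rwa [hαg] at this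
  have hconj : g * σ' * g⁻¹ = σ := by
    refine actSpace_congr (conj_mem_minimal hgG hσ') hσ ?_
    rw [alpha_conj, inv_val_of_sq g (by rw [hαg]; exact actSpace_sq hγ), alpha_add_one g, hαg]
    have : alpha σ = alpha σ' + (γ * alpha σ' - alpha σ' * γ) := by
      rw [show γ * alpha σ' - alpha σ' * γ = bracket γ (alpha σ') from rfl, hγe', add_sub_cancel]
    rw [this]
    simp only [add_mul, mul_sub, one_mul, mul_one, hnγ.1, add_zero, sub_zero]
    abel
  refine le_trans (hdim hσ' hσ'' hnil'' hbr'') ?_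
  let C : ↥(actSpace G σ' (sq_of_min hσ')) →ₗ[k] ↥(actSpace G σ (sq_of_min hσ)) :=
    { toFun := fun η => ⟨(g : M →ₗ[k] M) * η.1 * ((g⁻¹ : LinearMap.GeneralLinearGroup k M) : M →ₗ[k] M), by
        have hm : g * oneAdd η.1 (actSpace_sq η.2) * g⁻¹ ∈ sameActionSubgroup G σ := by
          have h5 : g * oneAdd η.1 (actSpace_sq η.2) * g⁻¹ ∈ conjBy (sameActionSubgroup G σ') g :=
            ⟨_, oneAdd_mem_sameAction hσ' η.2, rfl⟩
          rwa [conjBy_sameAction hgG, hconj] at h5
        have h6 := (mem_sameAction_iff hσ).1 hm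
        rw [alpha_conj] at h6
        simpa [alpha, oneAdd_val] using h6⟩
      map_add' := fun x y => Subtype.ext (by simp [mul_add, add_mul])
      map_smul' := fun c x => Subtype.ext (by simp) }
  refine LinearMap.finrank_le_finrank_of_injective (f := C) fun x y hxy => Subtype.ext ?_
  have h7 := congrArg (fun F : M →ₗ[k] M => ((g⁻¹ : LinearMap.GeneralLinearGroup k M) : M →ₗ[k] M) * F * (g : M →ₗ[k] M))
    (congrArg Subtype.val hxy)
  simpa [C, mul_assoc] using h7

end CfsgLib.QuadPair
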