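import Cfsg.Agent.Lib.QuadPair.Sep
import Cfsg.Agent.Lib.QuadPair.Conj

/-!
# Two subgroups `E(σ)`, `E(τ)`
-/

set_option autoImplicit false
set_option linter.style.haveILetI false

namespace CfsgLib.QuadPair

open Cfsg Polynomial
open scoped MatrixGroups

variable {k : Type*} [Field k] {M : Type*} [AddCommGroup M] [Module k M] [FiniteDimensional k M]
variable {G : Subgroup (LinearMap.GeneralLinearGroup k M)} {σ τ : LinearMap.GeneralLinearGroup k M}

/-- The pair is of the commuting-or-nilpotent kind. -/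
def IsNilPair (a b : M →ₗ[k] M) : Prop := a * b * a = 0 ∧ b * a * b = 0

theorem IsSepPair.left_geom {a b : M →ₗ[k] M} {f : k[X]} (h : IsSepPair a b f) :
    LinearMap.range b ⊓ LinearMap.ker a = ⊥ := by
  rw [eq_bot_iff]
  rintro v ⟨hv, hv'⟩
  rw [← h.map_range] at hv
  exact (Submodule.mem_bot k).2 (h.left_inj hv hv')

theorem IsSepPair.right_geom {a b : M →ₗ[k] M} {f : k[X]} (h : IsSepPair a b f) :
    LinearMap.range a ⊓ LinearMap.ker b = ⊥ := by
  rw [eq_bot_iff]
  rintro v ⟨hv, hv'⟩
  exact (Submodule.mem_bot k).2 (h.right_inj hv hv')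

theorem IsNilPair.not_geom {a b : M →ₗ[k] M} (h : IsNilPair a b) (hb : b ≠ 0)
    (hd : Module.finrank k (LinearMap.range a) = Module.finrank k (LinearMap.range b))
    (h1 : LinearMap.range b ⊓ LinearMap.ker a = ⊥) (h2 : LinearMap.range a ⊓ LinearMap.ker b = ⊥) : False := by
  have hinj : LinearMap.ker (b.domRestrict (LinearMap.range a)) = ⊥ := by
    rw [LinearMap.ker_eq_bot']
    rintro ⟨v, hv⟩ h0
    have : v ∈ LinearMap.range a ⊓ LinearMap.ker b := ⟨hv, h0⟩
    rw [h2, Submodule.mem_bot] at this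
    exact Subtype.ext this
  have h3 := LinearMap.finrank_range_add_finrank_ker (b.domRestrict (LinearMap.range a))
  rw [hinj, finrank_bot, add_zero, LinearMap.range_domRestrict] at h3
  have hmap : (LinearMap.range a).map b = LinearMap.range b :=
    Submodule.eq_of_le_of_finrank_le LinearMap.map_le_range (by omega)
  refine hb (LinearMap.ext fun m => ?_)
  have hm : b m ∈ LinearMap.range b ⊓ LinearMap.ker a := by
    refine ⟨LinearMap.mem_range_self b m, ?_⟩
    obtain ⟨_, ⟨v, rfl⟩, hv⟩ : b m ∈ (LinearMap.range a).map b := hmap.symm ▸ LinearMap.mem_range_self b m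
    show b m ∈ LinearMap.ker a
    rw [LinearMap.mem_ker, ← hv, ← Module.End.mul_apply, ← Module.End.mul_apply, h.1, LinearMap.zero_apply]
  rw [h1, Submodule.mem_bot] at hm
  rw [hm, LinearMap.zero_apply]

variable (h2 : (2 : k) ≠ 0) (h3 : Nat.card k ≠ 3)
include h2 h3

theorem dichotomy_root (hσ : σ ∈ minimalQuadraticElements G) (hτ : τ ∈ minimalQuadraticElements G) :
    IsNilPair (alpha σ) (alpha τ) ∨ ∃ f, IsSepPair (alpha σ) (alpha τ) f :=
  dichotomy' h2 h3 hσ hτ

/-- A nilpotent pair stays nilpotent inside the two classes. -/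
theorem IsNilPair.of_class (hσ : σ ∈ minimalQuadraticElements G) (hτ : τ ∈ minimalQuadraticElements G)
    (h : IsNilPair (alpha σ) (alpha τ)) {u v : LinearMap.GeneralLinearGroup k M}
    (hu : u ∈ sameActionSubgroup G σ) (hv : v ∈ sameActionSubgroup G τ) : IsNilPair (alpha u) (alpha v) := by
  by_cases hu1 : u = 1
  · subst hu1; simp [IsNilPair, alpha]
  by_cases hv1 : v = 1
  · subst hv1; simp [IsNilPair, alpha]
  have cu := mem_class_of_actSpace hσ ((mem_sameAction_iff hσ).1 hu)
    fun e => hu1 (Units.ext (by rw [alpha_add_one u, e, add_zero]; rfl))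
  have cv := mem_class_of_actSpace hτ ((mem_sameAction_iff hτ).1 hv)
    fun e => hv1 (Units.ext (by rw [alpha_add_one v, e, add_zero]; rfl))
  rcases dichotomy_root h2 h3 cu.1 cv.1 with h' | ⟨f, hf⟩
  · exact h'
  · exfalso
    have g1 := hf.left_geom
    have g2 := hf.right_geom
    have a1 : LinearMap.ker (alpha u) = LinearMap.ker (alpha σ) := cu.2.1
    have a2 : LinearMap.range (alpha u) = LinearMap.range (alpha σ) := cu.2.2
    have b1 : LinearMap.ker (alpha v) = LinearMap.ker (alpha τ) := cv.2.1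
    have b2 : LinearMap.range (alpha v) = LinearMap.range (alpha τ) := cv.2.2
    rw [b2, a1] at g1
    rw [a2, b1] at g2
    exact h.not_geom (alpha_ne_zero hτ) (le_antisymm (hσ.2 _ hτ.1) (hτ.2 _ hσ.1)) g1 g2

/-- A pair with `αβ` invertible stays such inside the two classes. -/
theorem IsSepPair.of_class (hσ : σ ∈ minimalQuadraticElements G) (hτ : τ ∈ minimalQuadraticElements G) {f : k[X]}
    (hf : IsSepPair (alpha σ) (alpha τ) f) {u v : LinearMap.GeneralLinearGroup k M}
    (hu : u ∈ sameActionSubgroup G σ) (hv : v ∈ sameActionSubgroup G τ) (hu1 : u ≠ 1) (hv1 : v ≠ 1) :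
    ∃ g, IsSepPair (alpha u) (alpha v) g := by
  obtain ⟨hu', hEu⟩ := sameAction_eq_of_mem hσ hu hu1
  obtain ⟨hv', hEv⟩ := sameAction_eq_of_mem hτ hv hv1
  rcases dichotomy_root h2 h3 hu' hv' with h' | h'
  · exfalso
    have hn := h'.of_class h2 h3 hu' hv' (hEu ▸ self_mem_sameAction hσ) (hEv ▸ self_mem_sameAction hτ)
    exact hn.not_geom (alpha_ne_zero hτ) hf.rank_eq hf.left_geom hf.right_geom
  · exact h'

/-- The nilpotent case generates a unipotent group. -/
theorem IsNilPair.unipotent (hσ : σ ∈ minimalQuadraticElements G) (hτ : τ ∈ minimalQuadraticElements G)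
    (h : IsNilPair (alpha σ) (alpha τ)) :
    IsUnipotentOn (sameActionSubgroup G σ ⊔ sameActionSubgroup G τ) := by
  rw [Subgroup.sup_eq_closure]
  set a := alpha σ with ha
  set b := alpha τ with hb
  set W1 := LinearMap.range a ⊔ LinearMap.range b with hW1
  let W : ℕ → Submodule k M := fun i =>
    if i = 0 then ⊤ else if i = 1 then W1 else if i = 2 then W1 ⊓ (LinearMap.ker a ⊓ LinearMap.ker b) else ⊥
  have e0 : W 0 = ⊤ := rfl
  have e1 : W 1 = W1 := rfl
  have e2 : W 2 = W1 ⊓ (LinearMap.ker a ⊓ LinearMap.ker b) := rfl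
  have e3 : ∀ i, W (i + 3) = ⊥ := fun i => rfl
  refine isUnipotentOn_of_flag 3 W (antitone_nat_of_succ_le fun i => ?_) e0 (e3 0) ?_
  · match i with
    | 0 => exact le_top
    | 1 => rw [e1, e2]; exact inf_le_left
    | i + 2 => rw [e3]; exact bot_le
  intro g hg i m hm
  have hg' : g ∈ sameActionSubgroup G σ ∨ g ∈ sameActionSubgroup G τ := hg
  match i, hm with
  | 0, _ =>
    rw [e1]
    rcases hg' with hg' | hg'
    · exact Submodule.mem_sup_left (((mem_sameAction_iff hσ).1 hg').1 (LinearMap.mem_range_self _ m))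
    · exact Submodule.mem_sup_right (((mem_sameAction_iff hτ).1 hg').1 (LinearMap.mem_range_self _ m))
  | 1, hm =>
    rw [e1, hW1, Submodule.mem_sup] at hm
    obtain ⟨x, hx, y, hy, rfl⟩ := hm
    rw [e2]
    rcases hg' with hg' | hg'
    · have hA := (mem_sameAction_iff hσ).1 hg'
      have hx0 : alpha g x = 0 := by
        obtain ⟨z, rfl⟩ := hx
        exact LinearMap.mem_ker.1 (hA.2.1 (by rw [LinearMap.mem_ker, ← Module.End.mul_apply, sq_of_min hσ, LinearMap.zero_apply]))
      rw [map_add, hx0, zero_add]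
      refine ⟨Submodule.mem_sup_left (hA.1 (LinearMap.mem_range_self _ y)), ?_, ?_⟩
      · obtain ⟨z, hz⟩ := hA.1 (LinearMap.mem_range_self _ y)
        show alpha g y ∈ LinearMap.ker a
        rw [LinearMap.mem_ker, ← hz, ← Module.End.mul_apply, sq_of_min hσ, LinearMap.zero_apply]
      · obtain ⟨z, rfl⟩ := hy
        show alpha g (b z) ∈ LinearMap.ker b
        have hn := (h.of_class h2 h3 hσ hτ hg' (self_mem_sameAction hτ)).2
        rw [LinearMap.mem_ker, ← Module.End.mul_apply, ← Module.End.mul_apply, hb, hn, LinearMap.zero_apply]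
    · have hB := (mem_sameAction_iff hτ).1 hg'
      have hy0 : alpha g y = 0 := by
        obtain ⟨z, rfl⟩ := hy
        exact LinearMap.mem_ker.1 (hB.2.1 (by rw [LinearMap.mem_ker, ← Module.End.mul_apply, sq_of_min hτ, LinearMap.zero_apply]))
      rw [map_add, hy0, add_zero]
      refine ⟨Submodule.mem_sup_right (hB.1 (LinearMap.mem_range_self _ x)), ?_, ?_⟩
      · obtain ⟨z, rfl⟩ := hx
        show alpha g (a z) ∈ LinearMap.ker a
        have hn := (h.of_class h2 h3 hσ hτ (self_mem_sameAction hσ) hg').1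
        rw [LinearMap.mem_ker, ← Module.End.mul_apply, ← Module.End.mul_apply, ha, hn, LinearMap.zero_apply]
      · obtain ⟨z, hz⟩ := hB.1 (LinearMap.mem_range_self _ x)
        show alpha g x ∈ LinearMap.ker b
        rw [LinearMap.mem_ker, ← hz, ← Module.End.mul_apply, sq_of_min hτ, LinearMap.zero_apply]
  | 2, hm =>
    rw [e2] at hm
    rw [e3]
    rcases hg' with hg' | hg'
    · exact (Submodule.mem_bot k).2 (((mem_sameAction_iff hσ).1 hg').2.1 hm.2.1)
    · exact (Submodule.mem_bot k).2 (((mem_sameAction_iff hτ).1 hg').2.1 hm.2.2)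
  | i + 3, hm =>
    rw [e3, Submodule.mem_bot] at hm
    subst hm
    rw [map_zero]
    exact zero_mem _

/-- Every polynomial matrix congruent to the unit triangular ones acts through the group. -/
theorem IsSepPair.act_mem {f : k[X]} (h : IsSepPair (alpha σ) (alpha τ) f) {g : SL(2, k[X])} (hg : g ∈ cong k) :
    ∃ u ∈ Subgroup.closure (scalarFamily σ ∪ scalarFamily τ), (u : M →ₗ[k] M) = act (alpha σ) (alpha τ) g := by
  haveI : Fact (Irreducible f) := ⟨h.irred⟩
  obtain ⟨y, hy, he⟩ : Matrix.SpecialLinearGroup.map (n := Fin 2) (AdjoinRoot.mk f) g ∈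
      (polyPair k).map (Matrix.SpecialLinearGroup.map (AdjoinRoot.mk f)) :=
    (polyPair_map_top h2 h3 h.not_dvd).symm ▸ Subgroup.mem_top _
  have hy' := polyPair_le hy
  refine ⟨rho h.sq_left h.sq_right ⟨y, hy⟩, ?_, ?_⟩
  · rw [← rho_range h.sq_left h.sq_right]; exact ⟨_, rfl⟩
  · rw [rho_val]
    have h1 : act (alpha σ) (alpha τ) (y⁻¹ * g) = 1 :=
      (act_eq_one_iff h (mul_mem (inv_mem hy') hg)).2 (by rw [map_mul, map_inv, he, inv_mul_cancel])
    have h4 := act_mul (alpha σ) (alpha τ) h.sq_left h.sq_right hy' (mul_mem (inv_mem hy') hg)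
    rw [h1, mul_one, mul_inv_cancel_left] at h4
    exact h4.symm

/-- The element of `E(τ)` opposite to `σ`. -/
theorem IsSepPair.exists_opposite (hσ : σ ∈ minimalQuadraticElements G) (hτ : τ ∈ minimalQuadraticElements G)
    {f : k[X]} (h : IsSepPair (alpha σ) (alpha τ) f) :
    ∃ v ∈ sameActionSubgroup G τ, alpha σ * alpha v * alpha σ = alpha σ ∧
      alpha v * alpha σ * alpha v = alpha v ∧ v ≠ 1 := by
  set a := alpha σ with ha
  set b := alpha τ with hb
  obtain ⟨P, hP⟩ := h.exists_inv
  set d := b * aeval (a * b) P with hd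
  have hcomm : a * b * aeval (a * b) P = aeval (a * b) P * (a * b) := by
    have h7 := congrArg (aeval (a * b)) (mul_comm (X : k[X]) P)
    rwa [map_mul, map_mul, aeval_X] at h7
  have hada : a * d * a = a := by
    rw [hd, ← mul_assoc a b, hcomm]
    exact hP
  have hdad : d * a * d = d := by
    have hf1 : f ∣ P * X - 1 := (h.ann.2 _).2 (by
      rw [map_sub, map_mul, aeval_X, map_one, sub_mul, one_mul, hP, sub_self])
    obtain ⟨w, hw⟩ := hf1
    have h5 : b * aeval (a * b) (P * X * P) = b * aeval (a * b) P := by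
      rw [show P * X * P = f * (w * P) + P by linear_combination P * hw, map_add, mul_add, map_mul, ← mul_assoc,
        h.right_mul, zero_mul, zero_add]
    rw [map_mul, map_mul, aeval_X] at h5
    rw [hd]
    simpa only [mul_assoc] using h5
  have hspace : d ∈ actSpace G τ (sq_of_min hτ) := by
    refine ⟨LinearMap.range_comp_le_range _ _, fun m hm => ?_, fun c => ?_⟩
    · rw [LinearMap.mem_ker] at hm ⊢
      have h6 : aeval (a * b) P m = P.coeff 0 • m := by
        conv_lhs => rw [eq_C_add_X_mul P]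
        rw [map_add, mul_comm, map_mul, aeval_X, LinearMap.add_apply, Module.End.mul_apply, Module.End.mul_apply,
          show b m = 0 from hm, map_zero, map_zero, add_zero, aeval_C]
        rfl
      rw [hd, Module.End.mul_apply, h6, map_smul, show b m = 0 from hm, smul_zero]
    · obtain ⟨u, hu, eu⟩ := h.act_mem h2 h3 (lower_mem_cong (C c * P))
      refine ⟨u, ((Subgroup.closure_le _).2 (Set.union_subset hσ.1.2.2 hτ.1.2.2)) hu, ?_⟩
      rw [eu, act_lower, map_mul, aeval_C, ← ha, ← hb, ← mul_assoc, ← Algebra.commutes, mul_assoc, hd,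
        ← Algebra.smul_def]
  have hsq : d * d = 0 := actSpace_sq hspace
  have halpha : alpha (oneAdd d hsq) = d := by simp [alpha, oneAdd_val]
  refine ⟨oneAdd d hsq, (mem_sameAction_iff hτ).2 (by rw [halpha]; exact hspace), by rw [halpha]; exact hada,
    by rw [halpha]; exact hdad, fun e => ?_⟩
  have : d = 0 := by rw [← halpha, e]; simp [alpha]
  rw [this, mul_zero, zero_mul] at hada
  exact alpha_ne_zero hσ hada.symm

end CfsgLib.QuadPair
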