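import Mathlib
import Cfsg.Prelude.Def_RootSubgroups

/-!
# Families of root subgroups inside the subgroup they generate
-/

set_option autoImplicit false

namespace CfsgLib.QuadPair

open Cfsg
open scoped commutatorElement

variable {Γ : Type*} [Group Γ] {X : Subgroup Γ}

theorem map_subgroupOf_le {A : Subgroup Γ} (hA : A ≤ X) : (A.subgroupOf X).map X.subtype = A := by
  rw [Subgroup.subgroupOf_map_subtype, inf_eq_left.2 hA]

theorem conjBy_subgroupOf (A : Subgroup Γ) (x : ↥X) :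
    conjBy (A.subgroupOf X) x = (conjBy A (x : Γ)).subgroupOf X := by
  refine le_antisymm ?_ ?_
  · rintro _ ⟨a, ha, rfl⟩
    exact ⟨(a : Γ), ha, by simp⟩
  · rintro z ⟨a, ha, hz⟩
    have haX : a ∈ X := by
      have e : a = (x : Γ)⁻¹ * (z : Γ) * (x : Γ) := by
        have hz' : (x : Γ) * a * (x : Γ)⁻¹ = (z : Γ) := by simpa using hz
        rw [← hz']; group
      rw [e]
      exact mul_mem (mul_mem (inv_mem x.2) z.2) x.2
    exact ⟨⟨a, haX⟩, ha, Subtype.ext (by simpa using hz)⟩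

theorem commutator_subgroupOf {A B : Subgroup Γ} (hA : A ≤ X) (hB : B ≤ X) :
    ⁅A.subgroupOf X, B.subgroupOf X⁆ = (⁅A, B⁆).subgroupOf X := by
  apply Subgroup.map_injective X.subtype_injective
  rw [Subgroup.map_commutator, map_subgroupOf_le hA, map_subgroupOf_le hB,
    map_subgroupOf_le ((Subgroup.commutator_mono hA hB).trans
      (Subgroup.commutator_le.2 fun a ha b hb => mul_mem (mul_mem (mul_mem ha hb) (inv_mem ha)) (inv_mem hb)))]

theorem rankOneCondition_subgroupOf {A B : Subgroup Γ} (hB : B ≤ X) (h : RankOneCondition A B) :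
    RankOneCondition (A.subgroupOf X) (B.subgroupOf X) := by
  intro a ha ha1
  obtain ⟨b, hb, hb1, e⟩ := h (a : Γ) ha (fun e => ha1 (Subtype.ext e))
  refine ⟨⟨b, hB hb⟩, hb, fun e => hb1 (congrArg Subtype.val e), ?_⟩
  rw [conjBy_subgroupOf, conjBy_subgroupOf]
  exact congrArg (fun Z : Subgroup Γ => Z.subgroupOf X) e

theorem rankOnePair_subgroupOf {A B : Subgroup Γ} (hA : A ≤ X) (hB : B ≤ X) (h : IsRankOnePair A B) :
    IsRankOnePair (A.subgroupOf X) (B.subgroupOf X) :=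
  haveI := h.nilpotent_left
  haveI := h.nilpotent_right
  ⟨fun e => h.ne (by rw [← map_subgroupOf_le hA, e, map_subgroupOf_le hB]),
    Group.nilpotent_of_mulEquiv (Subgroup.subgroupOfEquivOfLe hA).symm,
    Group.nilpotent_of_mulEquiv (Subgroup.subgroupOfEquivOfLe hB).symm,
    rankOneCondition_subgroupOf hB h.cond_left, rankOneCondition_subgroupOf hA h.cond_right⟩

theorem rankOnePair_of_subgroupOf {A B : Subgroup Γ} (hA : A ≤ X) (hB : B ≤ X)
    (h : IsRankOnePair (A.subgroupOf X) (B.subgroupOf X)) : IsRankOnePair A B := by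
  haveI := h.nilpotent_left
  haveI := h.nilpotent_right
  have hcond : ∀ {U V : Subgroup Γ}, U ≤ X → V ≤ X → RankOneCondition (U.subgroupOf X) (V.subgroupOf X) →
      RankOneCondition U V := by
    intro U V hU hV hh a ha ha1
    obtain ⟨b, hb, hb1, e⟩ := hh ⟨a, hU ha⟩ ha (fun e => ha1 (congrArg Subtype.val e))
    refine ⟨(b : Γ), hb, fun e => hb1 (Subtype.ext e), ?_⟩
    rw [conjBy_subgroupOf, conjBy_subgroupOf] at e
    have e' := congrArg (fun Z : Subgroup ↥X => Z.map X.subtype) e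
    rwa [map_subgroupOf_le, map_subgroupOf_le] at e'
    · rintro _ ⟨v, hv, rfl⟩
      simp only [MulEquiv.coe_toMonoidHom, MulAut.conj_apply]
      exact mul_mem (mul_mem (inv_mem (hU ha)) (hV hv)) (by simpa using hU ha)
    · rintro _ ⟨v, hv, rfl⟩
      simp only [MulEquiv.coe_toMonoidHom, MulAut.conj_apply]
      exact mul_mem (mul_mem (inv_mem b.2) (hU hv)) (by simp)
  exact ⟨fun e => h.ne (by rw [e]), Group.nilpotent_of_mulEquiv (Subgroup.subgroupOfEquivOfLe hA),
    Group.nilpotent_of_mulEquiv (Subgroup.subgroupOfEquivOfLe hB), hcond hA hB h.cond_left,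
    hcond hB hA h.cond_right⟩

theorem rootCommutatorCase_subgroupOf {S : Set (Subgroup Γ)} {A B : Subgroup Γ} (hA : A ≤ X) (hB : B ≤ X)
    (h : RootCommutatorCase S A B) :
    RootCommutatorCase ((fun A : Subgroup Γ => A.subgroupOf X) '' S) (A.subgroupOf X) (B.subgroupOf X) := by
  obtain ⟨h1, h2, h3, h4⟩ := h
  have hC : ⁅A, B⁆ ≤ X := (Subgroup.commutator_mono hA hB).trans
    (Subgroup.commutator_le.2 fun a ha b hb => mul_mem (mul_mem (mul_mem ha hb) (inv_mem ha)) (inv_mem hb))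
  refine ⟨⟨_, h1, (commutator_subgroupOf hA hB).symm⟩, fun c hc x hx => ?_, fun a ha ha1 => ?_, fun b hb hb1 => ?_⟩
  · rw [commutator_subgroupOf hA hB] at hc
    rw [← Subgroup.subgroupOf_sup hA hB] at hx
    exact Subtype.ext (h2 _ hc _ hx)
  · rw [commutator_subgroupOf hA hB]
    apply Subgroup.map_injective X.subtype_injective
    rw [MonoidHom.map_closure, map_subgroupOf_le hC, ← h3 (a : Γ) ha (fun e => ha1 (Subtype.ext e))]
    congr 1
    ext z
    constructor
    · rintro ⟨_, ⟨w, hw, rfl⟩, rfl⟩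
      exact ⟨(w : Γ), hw, rfl⟩
    · rintro ⟨w, hw, rfl⟩
      exact ⟨_, ⟨⟨w, hB hw⟩, hw, rfl⟩, rfl⟩
  · rw [commutator_subgroupOf hA hB]
    apply Subgroup.map_injective X.subtype_injective
    rw [MonoidHom.map_closure, map_subgroupOf_le hC, ← h4 (b : Γ) hb (fun e => hb1 (Subtype.ext e))]
    congr 1
    ext z
    constructor
    · rintro ⟨_, ⟨w, hw, rfl⟩, rfl⟩
      exact ⟨(w : Γ), hw, rfl⟩
    · rintro ⟨w, hw, rfl⟩
      exact ⟨_, ⟨⟨w, hA hw⟩, hw, rfl⟩, rfl⟩

/-- A family of subgroups satisfying the root subgroup axioms inside a larger group is a root subgroup set of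
the subgroup it generates. -/
theorem isRootSubgroupSet_subgroupOf {S : Set (Subgroup Γ)} (hX : X = ⨆ A ∈ S, A)
    (hcomm : ∀ A ∈ S, ∀ a ∈ A, ∀ b ∈ A, a * b = b * a) (hne : ∀ A ∈ S, A ≠ ⊥)
    (hconj : ∀ A ∈ S, ∀ g ∈ X, conjBy A g ∈ S)
    (hpair : ∀ A ∈ S, ∀ B ∈ S, ⁅A, B⁆ = ⊥ ∨ IsRankOnePair A B ∨ RootCommutatorCase S A B) :
    IsRootSubgroupSet ((fun A : Subgroup Γ => A.subgroupOf X) '' S) := by
  have hle : ∀ A ∈ S, A ≤ X := fun A hA => hX ▸ le_iSup₂_of_le A hA le_rfl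
  refine ⟨?_, ?_, ?_, ?_, ?_⟩
  · rintro _ ⟨A, hA, rfl⟩
    exact ⟨⟨fun a b => Subtype.ext (Subtype.ext (hcomm A hA _ a.2 _ b.2))⟩⟩
  · rintro _ ⟨A, hA, rfl⟩ h
    apply hne A hA
    rw [← map_subgroupOf_le (hle A hA)]
    simp only at h
    rw [h, Subgroup.map_bot]
  · apply Subgroup.map_injective X.subtype_injective
    rw [← MonoidHom.range_eq_map, Subgroup.range_subtype, iSup_image]
    simp only [Subgroup.map_iSup]
    exact (iSup_congr fun A => iSup_congr fun hA => map_subgroupOf_le (hle A hA)).trans hX.symm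
  · rintro _ ⟨A, hA, rfl⟩ g
    exact ⟨_, hconj A hA g g.2, (conjBy_subgroupOf A g).symm⟩
  · rintro _ ⟨A, hA, rfl⟩ _ ⟨B, hB, rfl⟩
    rcases hpair A hA B hB with h | h | h
    · exact Or.inl (by rw [commutator_subgroupOf (hle A hA) (hle B hB), h, Subgroup.bot_subgroupOf])
    · exact Or.inr (Or.inl (rankOnePair_subgroupOf (hle A hA) (hle B hB) h))
    · exact Or.inr (Or.inr (rootCommutatorCase_subgroupOf (hle A hA) (hle B hB) h))

end CfsgLib.QuadPair
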