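import Cfsg.Agent.Lib.QuadPair.ClassTwo
import Cfsg.Agent.Lib.QuadPair.Transfer
import Cfsg.Agent.Lib.QuadPair.SLTwo

/-!
# `Σ(G)` as a set of root subgroups, and the pairs of type `(P)SL₂`
-/

set_option autoImplicit false

namespace CfsgLib.QuadPair

open Cfsg Polynomial Matrix
open scoped commutatorElement MatrixGroups

variable {k : Type*} [Field k] {M : Type*} [AddCommGroup M] [Module k M] [FiniteDimensional k M]
variable {G : Subgroup (LinearMap.GeneralLinearGroup k M)} {σ τ : LinearMap.GeneralLinearGroup k M}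

/-- The map `SL₂ → End` attached to matrix units. -/
noncomputable def unitsFun (a d : M →ₗ[k] M) (m : Matrix (Fin 2) (Fin 2) k) : M →ₗ[k] M :=
  1 + (m 0 0 - 1) • (a * d) + m 0 1 • a + m 1 0 • d + (m 1 1 - 1) • (d * a)

theorem unitsFun_mul {a d : M →ₗ[k] M} (ha : a * a = 0) (hd : d * d = 0) (h1 : a * d * a = a)
    (h2 : d * a * d = d) (m n : Matrix (Fin 2) (Fin 2) k) :
    unitsFun a d (m * n) = unitsFun a d m * unitsFun a d n := by
  have e1 : a * (a * d) = 0 := by rw [← mul_assoc, ha, zero_mul]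
  have e2 : d * (d * a) = 0 := by rw [← mul_assoc, hd, zero_mul]
  have e3 : a * (d * a) = a := by rw [← mul_assoc, h1]
  have e4 : d * (a * d) = d := by rw [← mul_assoc, h2]
  have e5 : (a * d) * d = 0 := by rw [mul_assoc, hd, mul_zero]
  have e6 : (d * a) * a = 0 := by rw [mul_assoc, ha, mul_zero]
  have e7 : (a * d) * (a * d) = a * d := by rw [← mul_assoc, h1]
  have e8 : (d * a) * (d * a) = d * a := by rw [← mul_assoc, h2]
  have e9 : (a * d) * (d * a) = 0 := by rw [← mul_assoc, e5, zero_mul]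
  have e10 : (d * a) * (a * d) = 0 := by rw [← mul_assoc, e6, zero_mul]
  simp only [unitsFun, add_mul, mul_add, one_mul, mul_one, smul_mul_assoc, mul_smul_comm, smul_smul,
    e1, e2, e3, e4, e5, e6, e7, e8, e9, e10, ha, hd, h1, h2, smul_zero, add_zero, zero_add,
    Matrix.mul_apply, Fin.sum_univ_two]
  match_scalars <;> ring

theorem unitsFun_one (a d : M →ₗ[k] M) : unitsFun a d 1 = 1 := by
  simp [unitsFun]

/-- The homomorphism `SL₂(k) → GL(M)` attached to matrix units. -/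
noncomputable def unitsHom {a d : M →ₗ[k] M} (ha : a * a = 0) (hd : d * d = 0) (h1 : a * d * a = a)
    (h2 : d * a * d = d) : SL(2, k) →* LinearMap.GeneralLinearGroup k M :=
  MonoidHom.toHomUnits
    { toFun := fun g => unitsFun a d (g : Matrix (Fin 2) (Fin 2) k)
      map_one' := unitsFun_one a d
      map_mul' := fun g h => unitsFun_mul ha hd h1 h2 _ _ }

theorem unitsHom_injective {a d : M →ₗ[k] M} (ha : a * a = 0) (hd : d * d = 0) (h1 : a * d * a = a)
    (h2 : d * a * d = d) (ha0 : a ≠ 0) : Function.Injective (unitsHom ha hd h1 h2) := by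
  rw [← MonoidHom.ker_eq_bot_iff, Subgroup.eq_bot_iff_forall]
  intro g hg
  have h0 : unitsFun a d (g : Matrix (Fin 2) (Fin 2) k) = 1 :=
    congrArg Units.val (MonoidHom.mem_ker.1 hg)
  have hd0 : d ≠ 0 := fun e => ha0 (by rw [← h1, e, mul_zero, zero_mul])
  have e1 : a * (a * d) = 0 := by rw [← mul_assoc, ha, zero_mul]
  have e2 : d * (d * a) = 0 := by rw [← mul_assoc, hd, zero_mul]
  have e3 : a * (d * a) = a := by rw [← mul_assoc, h1]
  have e4 : d * (a * d) = d := by rw [← mul_assoc, h2]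
  have e5 : (a * d) * d = 0 := by rw [mul_assoc, hd, mul_zero]
  have e6 : (d * a) * a = 0 := by rw [mul_assoc, ha, mul_zero]
  have k1 := congrArg (fun z => a * z * a) h0
  have k2 := congrArg (fun z => d * z * d) h0
  have k3 := congrArg (fun z => a * d * z * a) h0
  have k4 := congrArg (fun z => d * a * z * d) h0
  simp only [unitsFun, add_mul, mul_add, mul_one, one_mul, smul_mul_assoc, mul_smul_comm, smul_zero,
    add_zero, zero_add, e1, e2, e3, e4, e5, e6, ha, hd, h1, h2, zero_mul] at k1 k2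
  have z10 : (g : Matrix (Fin 2) (Fin 2) k) 1 0 = 0 := (smul_eq_zero.1 k1).resolve_right ha0
  have z01 : (g : Matrix (Fin 2) (Fin 2) k) 0 1 = 0 := (smul_eq_zero.1 k2).resolve_right hd0
  have f1 : (a * d) * (a * d) = a * d := by rw [← mul_assoc, h1]
  have f2 : (d * a) * (d * a) = d * a := by rw [← mul_assoc, h2]
  have f3 : (a * d) * (d * a) = 0 := by rw [← mul_assoc, e5, zero_mul]
  have f4 : (d * a) * (a * d) = 0 := by rw [← mul_assoc, e6, zero_mul]
  simp only [unitsFun, z10, z01, zero_smul, add_zero, add_mul, mul_add, mul_one, smul_mul_assoc, mul_smul_comm,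
    f1, f2, f3, f4, smul_zero, zero_mul, h1, h2, e6, e5, zero_add] at k3 k4
  have z00 : (g : Matrix (Fin 2) (Fin 2) k) 0 0 = 1 :=
    sub_eq_zero.1 ((smul_eq_zero.1 (by simpa using k3)).resolve_right ha0)
  have z11 : (g : Matrix (Fin 2) (Fin 2) k) 1 1 = 1 :=
    sub_eq_zero.1 ((smul_eq_zero.1 (by simpa using k4)).resolve_right hd0)
  exact ext_two (by simpa using z00) (by simpa using z01) (by simpa using z10) (by simpa using z11)

/-- Two opposite elements give a pair of type `(P)SL₂(k)`. -/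
theorem psl2_of_opposite (hσ : σ ∈ minimalQuadraticElements G) (hτ : τ ∈ minimalQuadraticElements G)
    {v : LinearMap.GeneralLinearGroup k M} (hv : v ∈ sameActionSubgroup G τ)
    (h1 : alpha σ * alpha v * alpha σ = alpha σ) (h2 : alpha v * alpha σ * alpha v = alpha v) :
    ∃ A₀ B₀ : Subgroup (LinearMap.GeneralLinearGroup k M),
      A₀ ≤ sameActionSubgroup G σ ∧ B₀ ≤ sameActionSubgroup G τ ∧ IsPSL2PairOver k A₀ B₀ := by
  have ha := sq_of_min hσ
  have hd := alpha_mul_sameAction hτ hv hv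
  set φ := unitsHom ha hd h1 h2 with hφ
  have hval : ∀ g : SL(2, k), alpha (φ g) = unitsFun (alpha σ) (alpha v) (g : Matrix (Fin 2) (Fin 2) k) - 1 :=
    fun g => rfl
  refine ⟨(upperUnipotentSL2 k).map φ, (lowerUnipotentSL2 k).map φ, ?_, ?_, φ, ?_, ?_, rfl, rfl⟩
  · rw [upperUnipotentSL2, MonoidHom.map_closure, Subgroup.closure_le]
    rintro _ ⟨g, ⟨g10, g00, g11⟩, rfl⟩
    refine (mem_sameAction_iff hσ).2 ?_
    rw [hval, unitsFun, g10, g00, g11]
    simpa using Submodule.smul_mem _ _ (alpha_mem_actSpace hσ)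
  · rw [lowerUnipotentSL2, MonoidHom.map_closure, Subgroup.closure_le]
    rintro _ ⟨g, ⟨g01, g00, g11⟩, rfl⟩
    refine (mem_sameAction_iff hτ).2 ?_
    rw [hval, unitsFun, g01, g00, g11]
    simpa using Submodule.smul_mem _ _ ((mem_sameAction_iff hτ).1 hv)
  · rw [← Subgroup.map_sup, MonoidHom.range_eq_map]
    congr 1
    refine (eq_top_of_elementary _ (fun a => ?_) (fun a => ?_)).symm
    · exact Subgroup.mem_sup_left (Subgroup.subset_closure ⟨by simp [upper_val], by simp [upper_val], by simp [upper_val]⟩)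
    · exact Subgroup.mem_sup_right (Subgroup.subset_closure ⟨by simp [lower_val], by simp [lower_val], by simp [lower_val]⟩)
  · rw [(MonoidHom.ker_eq_bot_iff _).2 (unitsHom_injective ha hd h1 h2 (alpha_ne_zero hσ))]
    exact bot_le

theorem three_lt_encard {k : Type*} [Field k] (h2 : (2 : k) ≠ 0) (h3 : Nat.card k ≠ 3) : 3 < ENat.card k := by
  rcases finite_or_infinite k with hf | hi
  · have := five_le_card h2 h3
    rw [ENat.card_eq_coe_natCard]
    exact_mod_cast (by omega : 3 < Nat.card k)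
  · rw [ENat.card_eq_top_of_infinite]
    exact WithTop.coe_lt_top _

variable (h2 : (2 : k) ≠ 0) (h3 : Nat.card k ≠ 3)
include h2 h3

theorem rootCommutatorCase_of_nil (hG : IsQuadraticPair G) (hσ : σ ∈ minimalQuadraticElements G)
    (hτ : τ ∈ minimalQuadraticElements G) (hn : IsNilPair (alpha σ) (alpha τ))
    (hne : bracket (alpha σ) (alpha τ) ≠ 0) {S : Set (Subgroup (LinearMap.GeneralLinearGroup k M))}
    (hS : ⁅sameActionSubgroup G σ, sameActionSubgroup G τ⁆ ∈ S) :
    RootCommutatorCase S (sameActionSubgroup G σ) (sameActionSubgroup G τ) := by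
  obtain ⟨h0, -, h4, h5, -, h6, -⟩ := class_two h2 h3 hG hσ hτ hn hne
  refine ⟨hS, fun c hc x hx => ?_, h4, h5⟩
  rw [Subgroup.commutator_eq_bot_iff_le_centralizer] at h6
  exact (Subgroup.mem_centralizer_iff.1 (h6 (Subgroup.commutator_mono le_sup_left le_sup_right hc)) x hx).symm

theorem not_rankOne_of_nil (hG : IsQuadraticPair G) (hσ : σ ∈ minimalQuadraticElements G)
    (hτ : τ ∈ minimalQuadraticElements G) (hn : IsNilPair (alpha σ) (alpha τ))
    (hne : bracket (alpha σ) (alpha τ) ≠ 0) :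
    ¬ RankOneCondition (sameActionSubgroup G σ) (sameActionSubgroup G τ) := by
  intro h
  have hC := rootCommutatorCase_of_nil h2 h3 hG hσ hτ hn hne (S := Set.univ) trivial
  have hσ1 : σ ≠ 1 := fun e => alpha_ne_zero hσ (by rw [e, alpha_one])
  obtain ⟨b, hb, -, e⟩ := h σ (self_mem_sameAction hσ) hσ1
  have hmem : σ⁻¹ * τ * σ ∈ conjBy (sameActionSubgroup G τ) σ⁻¹ := ⟨τ, self_mem_sameAction hτ, by simp⟩
  rw [← e] at hmem
  obtain ⟨a, ha, hae⟩ := hmem
  have hae' : b⁻¹ * a * b = σ⁻¹ * τ * σ := by simpa using hae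
  set E := sameActionSubgroup G σ
  set F := sameActionSubgroup G τ
  have z1 : ⁅τ⁻¹, σ⁻¹⁆ ∈ ⁅E, F⁆ := by
    rw [Subgroup.commutator_comm]
    exact Subgroup.commutator_mem_commutator (inv_mem (self_mem_sameAction hτ)) (inv_mem (self_mem_sameAction hσ))
  have z2 : ⁅b⁻¹, a⁆ ∈ ⁅E, F⁆ := by
    rw [Subgroup.commutator_comm]
    exact Subgroup.commutator_mem_commutator (inv_mem hb) ha
  have hτe : τ = ⁅b⁻¹, a⁆ * a * ⁅τ⁻¹, σ⁻¹⁆⁻¹ := by
    have e' : ⁅b⁻¹, a⁆ * a = τ * ⁅τ⁻¹, σ⁻¹⁆ := by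
      calc ⁅b⁻¹, a⁆ * a = b⁻¹ * a * b := by rw [commutatorElement_def]; group
        _ = σ⁻¹ * τ * σ := hae'
        _ = τ * ⁅τ⁻¹, σ⁻¹⁆ := by rw [commutatorElement_def]; group
    rw [e', mul_inv_cancel_right]
  have hσX : σ ∈ E ⊔ F := Subgroup.mem_sup_left (self_mem_sameAction hσ)
  have hcomm : Commute σ τ := by
    rw [hτe]
    have c1 : Commute σ ⁅b⁻¹, a⁆ := (hC.2.1 _ z2 σ hσX).symm
    have c2 : Commute σ a := sameAction_comm hσ (self_mem_sameAction hσ) ha
    have c3 : Commute σ ⁅τ⁻¹, σ⁻¹⁆⁻¹ := (hC.2.1 _ (inv_mem z1) σ hσX).symm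
    exact (c1.mul_right c2).mul_right c3
  exact hne (bracket_of_comm hcomm)

/-- Rank one pairs of `Σ(G)` come from separated pairs. -/
theorem sep_of_rankOne (hG : IsQuadraticPair G) (hσ : σ ∈ minimalQuadraticElements G)
    (hτ : τ ∈ minimalQuadraticElements G)
    (h : IsRankOnePair (sameActionSubgroup G σ) (sameActionSubgroup G τ)) :
    ∃ f, IsSepPair (alpha σ) (alpha τ) f := by
  rcases root_pair_cases h2 h3 hσ hτ with hc | ⟨hn, hne⟩ | hf
  · exfalso
    rw [Subgroup.commutator_eq_bot_iff_le_centralizer] at hc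
    have hσ1 : σ ≠ 1 := fun e => alpha_ne_zero hσ (by rw [e, alpha_one])
    obtain ⟨b, hb, -, e⟩ := h.cond_left σ (self_mem_sameAction hσ) hσ1
    have fixE : conjBy (sameActionSubgroup G σ) b⁻¹ = sameActionSubgroup G σ := by
      refine le_antisymm ?_ fun x hx => ⟨x, hx, ?_⟩
      · rintro _ ⟨x, hx, rfl⟩
        have hc' : b * x = x * b := Subgroup.mem_centralizer_iff.1 (hc hx) b hb
        simp [mul_assoc, ← hc', SetLike.mem_coe.1 hx]
      · have hc' : b * x = x * b := Subgroup.mem_centralizer_iff.1 (hc hx) b hb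
        simp [mul_assoc, ← hc']
    have fixF : conjBy (sameActionSubgroup G τ) σ⁻¹ = sameActionSubgroup G τ := by
      refine le_antisymm ?_ fun x hx => ⟨x, hx, ?_⟩
      · rintro _ ⟨x, hx, rfl⟩
        have hc' : x * σ = σ * x := Subgroup.mem_centralizer_iff.1 (hc (self_mem_sameAction hσ)) x hx
        simp [mul_assoc, hc', SetLike.mem_coe.1 hx]
      · have hc' : x * σ = σ * x := Subgroup.mem_centralizer_iff.1 (hc (self_mem_sameAction hσ)) x hx
        simp [mul_assoc, hc']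
    exact h.ne (by rw [← fixE, e, fixF])
  · exact absurd h.cond_left (not_rankOne_of_nil h2 h3 hG hσ hτ hn hne)
  · exact hf

/-- A rank one pair of `Σ(G)` contains a pair of type `(P)SL₂(k)`. -/
theorem psl2_of_rankOne (hG : IsQuadraticPair G) {A B : Subgroup (LinearMap.GeneralLinearGroup k M)}
    (hA : A ∈ quadraticRootSubgroups G) (hB : B ∈ quadraticRootSubgroups G) (h : IsRankOnePair A B) :
    ∃ A₀ B₀ : Subgroup (LinearMap.GeneralLinearGroup k M), A₀ ≤ A ∧ B₀ ≤ B ∧ IsPSL2PairOver k A₀ B₀ := by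
  obtain ⟨σ, hσ, rfl⟩ := hA
  obtain ⟨τ, hτ, rfl⟩ := hB
  obtain ⟨f, hf⟩ := sep_of_rankOne h2 h3 hG hσ hτ h
  obtain ⟨v, hv, e1, e2, -⟩ := hf.exists_opposite h2 h3 hσ hτ
  exact psl2_of_opposite hσ hτ hv e1 e2

theorem root_trichotomy (hG : IsQuadraticPair G) {A B : Subgroup (LinearMap.GeneralLinearGroup k M)}
    (hA : A ∈ quadraticRootSubgroups G) (hB : B ∈ quadraticRootSubgroups G) :
    ⁅A, B⁆ = ⊥ ∨ IsSpecialRankOnePair A B ∨ RootCommutatorCase (quadraticRootSubgroups G) A B := by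
  obtain ⟨σ, hσ, rfl⟩ := hA
  obtain ⟨τ, hτ, rfl⟩ := hB
  rcases root_pair_cases h2 h3 hσ hτ with hc | ⟨hn, hne⟩ | ⟨f, hf⟩
  · exact Or.inl hc
  · exact Or.inr (Or.inr (rootCommutatorCase_of_nil h2 h3 hG hσ hτ hn hne (class_two h2 h3 hG hσ hτ hn hne).2.1))
  · exact Or.inr (Or.inl (isSpecialRankOnePair h2 h3 hσ hτ hf))

/-- Every member has a rank one partner among its conjugates. -/
theorem exists_rankOne_partner (hG : IsQuadraticPair G) {A : Subgroup (LinearMap.GeneralLinearGroup k M)}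
    (hA : A ∈ quadraticRootSubgroups G) :
    ∃ g ∈ G, conjBy A g ∈ quadraticRootSubgroups G ∧ IsRankOnePair A (conjBy A g) := by
  obtain ⟨σ, hσ, rfl⟩ := hA
  obtain ⟨g, hg, f, hf⟩ := exists_partner h2 h3 hG hσ
  refine ⟨g, hg, ?_⟩
  rw [conjBy_sameAction hg]
  exact ⟨⟨_, conj_mem_minimal hg hσ, rfl⟩, (isSpecialRankOnePair h2 h3 hσ (conj_mem_minimal hg hσ) hf).1⟩

omit h2 h3 in
theorem quadraticRoot_le {A : Subgroup (LinearMap.GeneralLinearGroup k M)} (hA : A ∈ quadraticRootSubgroups G) :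
    A ≤ G := by
  obtain ⟨σ, hσ, rfl⟩ := hA
  exact sameAction_le hσ

omit h2 h3 in
theorem conjBy_mem_quadraticRoot {A : Subgroup (LinearMap.GeneralLinearGroup k M)}
    (hA : A ∈ quadraticRootSubgroups G) {g : LinearMap.GeneralLinearGroup k M} (hg : g ∈ G) :
    conjBy A g ∈ quadraticRootSubgroups G := by
  obtain ⟨σ, hσ, rfl⟩ := hA
  exact ⟨_, conj_mem_minimal hg hσ, conjBy_sameAction hg⟩

omit h2 h3 in
theorem quadraticRoot_comm {A : Subgroup (LinearMap.GeneralLinearGroup k M)} (hA : A ∈ quadraticRootSubgroups G) :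
    ∀ a ∈ A, ∀ b ∈ A, a * b = b * a := by
  obtain ⟨σ, hσ, rfl⟩ := hA
  exact fun a ha b hb => sameAction_comm hσ ha hb

omit h2 h3 in
theorem quadraticRoot_ne_bot {A : Subgroup (LinearMap.GeneralLinearGroup k M)}
    (hA : A ∈ quadraticRootSubgroups G) : A ≠ ⊥ := by
  obtain ⟨σ, hσ, rfl⟩ := hA
  intro h
  have := self_mem_sameAction hσ
  rw [h, Subgroup.mem_bot] at this
  exact alpha_ne_zero hσ (by rw [this, alpha_one])

omit h2 h3 in
theorem iSup_quadraticRoot_le : (⨆ A ∈ quadraticRootSubgroups G, A) ≤ G :=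
  iSup₂_le fun _ hA => quadraticRoot_le hA

end CfsgLib.QuadPair
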