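import Cfsg.Agent.Lib.QuadPair.SLTwo

/-!
# `SL₂(k(x))` is generated by `upper k` and `lower (x k)`
-/

set_option autoImplicit false
set_option linter.style.haveILetI false

namespace CfsgLib.QuadPair

open Matrix Polynomial
open scoped MatrixGroups

variable {k K : Type*} [Field k] [CommRing K] [Algebra k K]

/-- The subgroup generated by `upper c` and `lower (c x)`, `c ∈ k`. -/
def pairGroup (k : Type*) {K : Type*} [Field k] [CommRing K] [Algebra k K] (x : K) : Subgroup SL(2, K) :=
  Subgroup.closure (Set.range (fun c : k => upper (algebraMap k K c)) ∪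
    Set.range (fun c : k => lower (algebraMap k K c * x)))

theorem upper_mem (x : K) (c : k) : upper (algebraMap k K c) ∈ pairGroup k x :=
  Subgroup.subset_closure (Or.inl ⟨c, rfl⟩)

theorem lower_mem (x : K) (c : k) : lower (algebraMap k K c * x) ∈ pairGroup k x :=
  Subgroup.subset_closure (Or.inr ⟨c, rfl⟩)

theorem scale_mem {x : K} (c : kˣ) {g : SL(2, K)} (hg : g ∈ pairGroup k x) :
    scale (Units.map (algebraMap k K).toMonoidHom c) g ∈ pairGroup k x := by
  induction hg using Subgroup.closure_induction with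
  | mem y hy =>
    rcases hy with ⟨d, rfl⟩ | ⟨d, rfl⟩
    · rw [scale_upper]
      convert upper_mem x ((c : k) * d) using 2
      simp
    · rw [scale_lower]
      convert lower_mem x ((↑c⁻¹ : k) * d) using 2
      simp [mul_assoc]
  | one => rw [map_one]; exact one_mem _
  | mul a b _ _ ha hb => rw [map_mul]; exact mul_mem ha hb
  | inv a _ ha => rw [map_inv]; exact inv_mem ha

/-- The `μ` with `upper μ` in the group. -/
def upperSet (k : Type*) {K : Type*} [Field k] [CommRing K] [Algebra k K] (x : K) : Submodule k K where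
  carrier := {μ | upper μ ∈ pairGroup k x}
  zero_mem' := by rw [Set.mem_setOf_eq, upper_zero]; exact one_mem _
  add_mem' := fun {a b} ha hb => by
    rw [Set.mem_setOf_eq] at ha hb ⊢
    rw [← upper_mul]
    exact mul_mem ha hb
  smul_mem' := fun c μ hμ => by
    rw [Set.mem_setOf_eq] at hμ ⊢
    rcases eq_or_ne c 0 with rfl | hc
    · rw [zero_smul, upper_zero]; exact one_mem _
    · have := scale_mem (Units.mk0 c hc) hμ
      rw [scale_upper] at this
      simpa [Algebra.smul_def] using this

/-- An element of the group fixing the point at infinity moves `upperSet` by the square of its corner. -/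
theorem upperSet_mul {x : K} {g : SL(2, K)} (hg : g ∈ pairGroup k x)
    (h10 : (g : Matrix (Fin 2) (Fin 2) K) 1 0 = 0) {μ : K} (hμ : μ ∈ upperSet k x) :
    (g : Matrix (Fin 2) (Fin 2) K) 0 0 ^ 2 * μ ∈ upperSet k x := by
  show upper ((g : Matrix (Fin 2) (Fin 2) K) 0 0 ^ 2 * μ) ∈ pairGroup k x
  rw [← conj_upper h10]
  exact mul_mem (mul_mem hg hμ) (inv_mem hg)

theorem one_mem_upperSet (x : K) : (1 : K) ∈ upperSet k x := by
  show upper (1 : K) ∈ pairGroup k x
  simpa using upper_mem (k := k) x 1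

/-- Two columns proportional by `u` give `u ^ 2 ∈ upperSet`. -/
theorem sq_mem_of_columns {x : K} {g g' : SL(2, K)} (hg : g ∈ pairGroup k x) (hg' : g' ∈ pairGroup k x) {u : K}
    (h0 : (g' : Matrix (Fin 2) (Fin 2) K) 0 0 = u * (g : Matrix (Fin 2) (Fin 2) K) 0 0)
    (h1 : (g' : Matrix (Fin 2) (Fin 2) K) 1 0 = u * (g : Matrix (Fin 2) (Fin 2) K) 1 0)
    {μ : K} (hμ : μ ∈ upperSet k x) : u ^ 2 * μ ∈ upperSet k x := by
  have hd := det_eq g
  set h := g⁻¹ * g' with hh
  have e0 : (h : Matrix (Fin 2) (Fin 2) K) 0 0 = u := by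
    simp [hh, Matrix.SpecialLinearGroup.coe_inv, Matrix.adjugate_fin_two, Matrix.mul_apply, Fin.sum_univ_two, h0, h1]
    linear_combination u * hd
  have e1 : (h : Matrix (Fin 2) (Fin 2) K) 1 0 = 0 := by
    simp [hh, Matrix.SpecialLinearGroup.coe_inv, Matrix.adjugate_fin_two, Matrix.mul_apply, Fin.sum_univ_two, h0, h1]
    ring
  have := upperSet_mul (mul_mem (inv_mem hg) hg') e1 hμ
  rwa [e0] at this

/-! ### The flag of powers and the forms on it -/

/-- The span of the first `j` powers of `x`. -/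
def powSpan (k : Type*) {K : Type*} [Field k] [CommRing K] [Algebra k K] (x : K) (j : ℕ) : Submodule k K :=
  Submodule.span k (Set.range fun i : Fin j => x ^ (i : ℕ))

theorem pow_mem_powSpan {x : K} {i j : ℕ} (h : i < j) : x ^ i ∈ powSpan k x j :=
  Submodule.subset_span ⟨⟨i, h⟩, rfl⟩

theorem powSpan_mono {x : K} {i j : ℕ} (h : i ≤ j) : powSpan k x i ≤ powSpan k x j :=
  Submodule.span_le.2 (by rintro _ ⟨a, rfl⟩; exact pow_mem_powSpan (lt_of_lt_of_le a.2 h))

theorem mul_pow_mem_powSpan {x : K} {i j : ℕ} {y : K} (hy : y ∈ powSpan k x i) :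
    y * x ^ j ∈ powSpan k x (i + j) := by
  induction hy using Submodule.span_induction with
  | mem z hz =>
    obtain ⟨a, rfl⟩ := hz
    show x ^ (a : ℕ) * x ^ j ∈ _
    rw [← pow_add]
    exact pow_mem_powSpan (by omega)
  | zero => simp
  | add a b _ _ ha hb => rw [add_mul]; exact add_mem ha hb
  | smul c a _ ha => rw [smul_mul_assoc]; exact Submodule.smul_mem _ _ ha

theorem one_mem_powSpan (x : K) (j : ℕ) : (1 : K) ∈ powSpan k x (j + 1) := by
  simpa using pow_mem_powSpan (k := k) (x := x) (Nat.succ_pos j)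

theorem powSpan_split {x : K} {j : ℕ} {y : K} (hy : y ∈ powSpan k x (j + 1)) :
    ∃ c : k, ∃ z ∈ powSpan k x j, y = c • (1 : K) + x * z := by
  induction hy using Submodule.span_induction with
  | mem z hz =>
    obtain ⟨⟨a, ha⟩, rfl⟩ := hz
    rcases a with _ | a
    · exact ⟨1, 0, zero_mem _, by simp⟩
    · exact ⟨0, x ^ a, pow_mem_powSpan (by omega), by simp [pow_succ']⟩
  | zero => exact ⟨0, 0, zero_mem _, by simp⟩
  | add a b _ _ ha hb =>
    obtain ⟨c, z, hz, rfl⟩ := ha
    obtain ⟨c', z', hz', rfl⟩ := hb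
    exact ⟨c + c', z + z', add_mem hz hz', by rw [add_smul, mul_add]; ring⟩
  | smul d a _ ha =>
    obtain ⟨c, z, hz, rfl⟩ := ha
    exact ⟨d * c, d • z, Submodule.smul_mem _ _ hz, by rw [smul_add, smul_smul, mul_smul_comm]⟩

theorem powSpan_split_top {x : K} {j : ℕ} {y : K} (hy : y ∈ powSpan k x (j + 1)) :
    ∃ c : k, ∃ z ∈ powSpan k x j, y = z + c • x ^ j := by
  induction hy using Submodule.span_induction with
  | mem z hz =>
    obtain ⟨⟨a, ha⟩, rfl⟩ := hz
    rcases eq_or_lt_of_le (Nat.lt_succ_iff.1 ha) with rfl | h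
    · exact ⟨1, 0, zero_mem _, by simp⟩
    · exact ⟨0, x ^ a, pow_mem_powSpan h, by simp⟩
  | zero => exact ⟨0, 0, zero_mem _, by simp⟩
  | add a b _ _ ha hb =>
    obtain ⟨c, z, hz, rfl⟩ := ha
    obtain ⟨c', z', hz', rfl⟩ := hb
    exact ⟨c + c', z + z', add_mem hz hz', by rw [add_smul]; abel⟩
  | smul d a _ ha =>
    obtain ⟨c, z, hz, rfl⟩ := ha
    exact ⟨d * c, d • z, Submodule.smul_mem _ _ hz, by rw [smul_add, smul_smul]⟩

/-- The form `(u, v) ↦ ψ (u v)` on the span of the first `j` powers. -/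
def gram (x : K) (ψ : Module.Dual k K) (j : ℕ) : powSpan k x j →ₗ[k] Module.Dual k (powSpan k x j) :=
  ((LinearMap.mul k K).compr₂ ψ).compl₁₂ (powSpan k x j).subtype (powSpan k x j).subtype

theorem gram_apply (x : K) (ψ : Module.Dual k K) (j : ℕ) (u v : powSpan k x j) :
    gram x ψ j u v = ψ ((u : K) * (v : K)) := rfl

/-- Nondegeneracy of that form. -/
def NonDeg (x : K) (ψ : Module.Dual k K) (j : ℕ) : Prop := Function.Injective (gram x ψ j)

theorem nonDeg_eq_zero {x : K} {ψ : Module.Dual k K} {j : ℕ} (h : NonDeg x ψ j) {y : K}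
    (hy : y ∈ powSpan k x j) (h0 : ∀ v ∈ powSpan k x j, ψ (y * v) = 0) : y = 0 := by
  have h1 : gram x ψ j ⟨y, hy⟩ = gram x ψ j 0 := by
    rw [map_zero]
    ext ⟨v, hv⟩
    exact h0 v hv
  exact congrArg Subtype.val (h h1)

theorem nonDeg_solve [FiniteDimensional k K] {x : K} {ψ : Module.Dual k K} {j : ℕ} (h : NonDeg x ψ j)
    (f : Module.Dual k K) : ∃ y ∈ powSpan k x j, ∀ v ∈ powSpan k x j, ψ (y * v) = f v := by
  obtain ⟨y, hy⟩ := (LinearMap.injective_iff_surjective_of_finrank_eq_finrank Subspace.dual_finrank_eq.symm).1 h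
    (f.comp (powSpan k x j).subtype)
  exact ⟨y, y.2, fun v hv => congrArg (fun g => g ⟨v, hv⟩) hy⟩

/-- The shifted functional `v ↦ ψ (x v)`. -/
def shift (x : K) (ψ : Module.Dual k K) : Module.Dual k K := ψ.comp (LinearMap.mulLeft k x)

section flag

variable (pb : PowerBasis k K)

/-- The coefficient of `x ^ i`. -/
noncomputable def coord (i : Fin pb.dim) : Module.Dual k K := pb.basis.coord i

theorem coord_pow (i : Fin pb.dim) {n : ℕ} (hn : n < pb.dim) :
    coord pb i (pb.gen ^ n) = if n = i then 1 else 0 := by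
  have := pb.basis_eq_pow ⟨n, hn⟩
  simp only at this
  rw [← this, coord, Module.Basis.coord_apply, Module.Basis.repr_self, Finsupp.single_apply]
  simp [Fin.ext_iff]

theorem coord_eq_zero_of_mem (i : Fin pb.dim) {y : K} (hy : y ∈ powSpan k pb.gen i) : coord pb i y = 0 := by
  induction hy using Submodule.span_induction with
  | mem z hz =>
    obtain ⟨a, rfl⟩ := hz
    rw [coord_pow pb i (a.2.trans i.2), if_neg (Nat.ne_of_lt a.2)]
  | zero => simp
  | add a b _ _ ha hb => rw [map_add, ha, hb, add_zero]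
  | smul c a _ ha => rw [map_smul, ha, smul_zero]

theorem coord_zero_mul {j : ℕ} (hj : j + 1 ≤ pb.dim) {y : K} (hy : y ∈ powSpan k pb.gen j) (h0 : 0 < pb.dim) :
    coord pb ⟨0, h0⟩ (pb.gen * y) = 0 := by
  induction hy using Submodule.span_induction with
  | mem z hz =>
    obtain ⟨a, rfl⟩ := hz
    rw [← pow_succ', coord_pow pb _ (by omega), if_neg (by simp)]
  | zero => simp
  | add a b _ _ ha hb => rw [mul_add, map_add, ha, hb, add_zero]
  | smul c a _ ha => rw [mul_smul_comm, map_smul, ha, smul_zero]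

theorem powSpan_dim : powSpan k pb.gen pb.dim = ⊤ := by
  rw [eq_top_iff, ← pb.basis.span_eq]
  refine Submodule.span_mono ?_
  rintro _ ⟨i, rfl⟩
  exact ⟨i, (pb.basis_eq_pow i).symm⟩

/-- The antitriangular functional is nondegenerate on the span of the first `j + 1` powers. -/
theorem nonDeg_coord {j : ℕ} (hj : j < pb.dim) : NonDeg pb.gen (coord pb ⟨j, hj⟩) (j + 1) := by
  have key : ∀ n ≤ j + 1, ∀ y ∈ powSpan k pb.gen n,
      (∀ w ∈ powSpan k pb.gen (j + 1), coord pb ⟨j, hj⟩ (y * w) = 0) → y = 0 := by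
    intro n
    induction n with
    | zero =>
      intro _ y hy _
      rwa [powSpan, Set.range_eq_empty, Submodule.span_empty, Submodule.mem_bot] at hy
    | succ n ih =>
      intro hn y hy h0
      obtain ⟨c, z, hz, rfl⟩ := powSpan_split_top hy
      have hc : c = 0 := by
        have h1 := h0 (pb.gen ^ (j - n)) (pow_mem_powSpan (by omega))
        rw [add_mul, map_add, smul_mul_assoc, ← pow_add, map_smul,
          coord_eq_zero_of_mem pb _ ((powSpan_mono (by simp; omega)) (mul_pow_mem_powSpan hz)),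
          coord_pow pb _ (by omega), if_pos (by simp; omega), zero_add, smul_eq_mul, mul_one] at h1
        exact h1
      rw [hc, zero_smul, add_zero] at h0 ⊢
      exact ih (by omega) z hz h0
  intro u v huv
  refine Subtype.ext (sub_eq_zero.1 (key (j + 1) le_rfl _ (sub_mem u.2 v.2) fun w hw => ?_))
  have h1 := congrArg (fun f => f ⟨w, hw⟩) huv
  simp only [gram_apply] at h1
  rw [sub_mul, map_sub, h1, sub_self]

/-- The conditions used to walk along the flag. -/
def Good (ψ : Module.Dual k K) : Prop :=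
  ∀ j < pb.dim, NonDeg pb.gen ψ (j + 1) ∧ (j + 1 < pb.dim → NonDeg pb.gen (shift pb.gen ψ) (j + 1))

/-- The walk: an element of the group sending infinity to `0`. -/
theorem exists_swap [FiniteDimensional k K] (hx : IsUnit pb.gen) {ψ : Module.Dual k K} (hψ : Good pb ψ)
    (h0 : 0 < pb.dim) : ∃ g ∈ pairGroup k pb.gen, ∃ C : K,
      (g : Matrix (Fin 2) (Fin 2) K) 0 0 = 0 ∧ (g : Matrix (Fin 2) (Fin 2) K) 1 0 = pb.gen * C ∧
      ∀ v, ψ (C * v) = coord pb ⟨0, h0⟩ v := by
  set x := pb.gen with hx'
  set e := coord pb ⟨0, h0⟩ with he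
  have e1 : e 1 = 1 := by
    rw [← pow_zero pb.gen, he, coord_pow pb _ h0]
    simp
  -- moving `A` by the upper subgroup
  have hstep : ∀ (j : ℕ) (A C A' : K), j < pb.dim → A ∈ powSpan k x (j + 1) → C ∈ powSpan k x (j + 1) → e A = 1 →
      (∀ v ∈ powSpan k x j, ψ (A * v) = 0) → (∀ v ∈ powSpan k x (j + 1), ψ (C * v) = e v) →
      (∃ y ∈ powSpan k x (j + 1), A' = 1 + x * y) → (∀ v ∈ powSpan k x j, ψ (A' * v) = 0) →
      ∃ a : k, A' = A + algebraMap k K a * (x * C) := by
    intro j A C A' hj hA hC hA1 hAo hCo ⟨y, hy, hA'⟩ hA'o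
    obtain ⟨c, y₀, hy₀, rfl⟩ := powSpan_split hA
    have hc : c = 1 := by
      rw [map_add, map_smul, e1, he, coord_zero_mul pb (by omega) hy₀ h0, add_zero, smul_eq_mul, mul_one] at hA1
      exact hA1
    subst hc hA'
    set z := y - y₀ with hz
    have hzm : z ∈ powSpan k x (j + 1) := sub_mem hy (powSpan_mono (by omega) hy₀)
    refine ⟨ψ z, ?_⟩
    have hr : z - ψ z • C = 0 := by
      refine nonDeg_eq_zero (hψ j hj).1 (sub_mem hzm (Submodule.smul_mem _ _ hC)) fun w hw => ?_
      obtain ⟨d, v, hv, rfl⟩ := powSpan_split (x := x) hw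
      have h1 : ψ (z * (x * v)) = 0 := by
        rw [show z * (x * v) = (1 + x * y) * v - ((1 : k) • (1 : K) + x * y₀) * v by rw [hz, one_smul]; ring,
          map_sub, hA'o v hv, hAo v hv, sub_zero]
      have hxv : x * v ∈ powSpan k x (j + 1) := by
        have := mul_pow_mem_powSpan (k := k) (j := 1) hv
        rwa [pow_one, mul_comm] at this
      have h2 : ψ (C * (x * v)) = 0 := by
        rw [hCo _ hxv, he, coord_zero_mul pb (by omega) hv h0]
      have h3 : ψ C = 1 := by
        have := hCo 1 (one_mem_powSpan x j)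
        rwa [mul_one, e1] at this
      simp only [mul_add, map_add, mul_smul_comm, mul_one, sub_mul, smul_mul_assoc, map_sub, map_smul, h1, h2, h3]
      simp
    rw [sub_eq_zero] at hr
    rw [one_smul, ← Algebra.smul_def, ← mul_smul_comm, ← hr, hz]
    ring
  have hwalk : ∀ j < pb.dim, ∃ g ∈ pairGroup k x, ∃ A C : K,
      (g : Matrix (Fin 2) (Fin 2) K) 0 0 = A ∧ (g : Matrix (Fin 2) (Fin 2) K) 1 0 = x * C ∧
      A ∈ powSpan k x (j + 1) ∧ C ∈ powSpan k x (j + 1) ∧ e A = 1 ∧
      (∀ v ∈ powSpan k x j, ψ (A * v) = 0) ∧ (∀ v ∈ powSpan k x (j + 1), ψ (C * v) = e v) := by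
    intro j
    induction j with
    | zero =>
      intro _
      obtain ⟨C, hC, hCo⟩ := nonDeg_solve (hψ 0 h0).1 e
      obtain ⟨c, z, hz, rfl⟩ := powSpan_split hC
      rw [powSpan, Set.range_eq_empty, Submodule.span_empty, Submodule.mem_bot] at hz
      subst hz
      refine ⟨lower (algebraMap k K c * x), lower_mem x c, 1, c • (1 : K) + x * 0, by simp [lower_val], ?_,
        one_mem_powSpan x 0, hC, e1, fun v hv => ?_, hCo⟩
      · simp [lower_val, Algebra.smul_def, mul_comm]
      · rw [powSpan, Set.range_eq_empty, Submodule.span_empty, Submodule.mem_bot] at hv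
        simp [hv]
    | succ j ih =>
      intro hj
      obtain ⟨g, hg, A, C, hA, hC, hAm, hCm, hA1, hAo, hCo⟩ := ih (by omega)
      obtain ⟨y, hy, hyo⟩ := nonDeg_solve ((hψ j (by omega)).2 hj) (-ψ)
      set A' := 1 + x * y with hA'
      have hA'm : A' ∈ powSpan k x (j + 1 + 1) := by
        refine add_mem (one_mem_powSpan x _) ?_
        have := mul_pow_mem_powSpan (k := k) (j := 1) hy
        rwa [pow_one, mul_comm] at this
      have hA'o : ∀ v ∈ powSpan k x (j + 1), ψ (A' * v) = 0 := by
        intro v hv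
        have h1 := hyo v hv
        simp only [shift, LinearMap.coe_comp, Function.comp_apply, LinearMap.mulLeft_apply, LinearMap.neg_apply] at h1
        rw [hA', add_mul, one_mul, mul_assoc, map_add, h1, add_neg_cancel]
      have hA'1 : e A' = 1 := by
        rw [hA', map_add, e1, he, coord_zero_mul pb (by omega) hy h0, add_zero]
      obtain ⟨a, ha⟩ := hstep j A C A' (by omega) hAm hCm hA1 hAo hCo ⟨y, hy, hA'⟩
        fun v hv => hA'o v (powSpan_mono (by omega) hv)
      obtain ⟨C', hC'm, hC'o⟩ := nonDeg_solve (hψ (j + 1) hj).1 e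
      set z := C' - C with hz
      obtain ⟨c, r, hr, hzr⟩ := powSpan_split
        (sub_mem (sub_mem hC'm (powSpan_mono (by omega) hCm)) (Submodule.smul_mem _ (e z) hA'm) :
          z - e z • A' ∈ powSpan k x (j + 1 + 1))
      have hc : c = 0 := by
        have h1 := congrArg e hzr
        rw [map_sub, map_smul, hA'1, smul_eq_mul, mul_one, sub_self, map_add, map_smul, e1, he,
          coord_zero_mul pb (by omega) hr h0, add_zero, smul_eq_mul, mul_one] at h1
        exact h1.symm
      have hr0 : r = 0 := by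
        refine nonDeg_eq_zero ((hψ j (by omega)).2 hj) hr fun v hv => ?_
        have h1 : ψ ((z - e z • A') * v) = 0 := by
          rw [sub_mul, map_sub, smul_mul_assoc, map_smul, hA'o v hv, smul_zero, sub_zero, hz, sub_mul, map_sub,
            hC'o v (powSpan_mono (by omega) hv), hCo v hv, sub_self]
        rw [hzr, hc, zero_smul, zero_add, mul_assoc] at h1
        exact h1
      rw [hc, hr0, zero_smul, mul_zero, add_zero, sub_eq_zero] at hzr
      refine ⟨lower (algebraMap k K (e z) * x) * (upper (algebraMap k K a) * g),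
        mul_mem (lower_mem x _) (mul_mem (upper_mem x a) hg), A', C', ?_, ?_, hA'm, hC'm, hA'1, hA'o, hC'o⟩
      · rw [lower_mul_fst, upper_mul_fst, hA, hC, ha]
      · have h2 : C' = C + algebraMap k K (e z) * A' := by
          rw [← Algebra.smul_def, ← hzr, hz]
          ring
        rw [lower_mul_snd, upper_mul_fst, upper_mul_snd, hA, hC, h2, ha]
        ring
  obtain ⟨g, hg, A, C, hA, hC, hAm, hCm, hA1, hAo, hCo⟩ := hwalk (pb.dim - 1) (by omega)
  have hdim : powSpan k x (pb.dim - 1 + 1) = ⊤ := by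
    rw [Nat.sub_add_cancel h0]
    exact powSpan_dim pb
  obtain ⟨a, ha⟩ := hstep (pb.dim - 1) A C 0 (by omega) hAm hCm hA1 hAo hCo
    ⟨-Ring.inverse x, hdim ▸ Submodule.mem_top, by rw [mul_neg, Ring.mul_inverse_cancel _ hx, add_neg_cancel]⟩
    (fun v _ => by simp)
  refine ⟨upper (algebraMap k K a) * g, mul_mem (upper_mem x a) hg, C, ?_, ?_,
    fun v => hCo v (hdim ▸ Submodule.mem_top)⟩
  · simp [upper_val, Matrix.mul_apply, Fin.sum_univ_two, hA, hC, ← ha]
  · simp [upper_val, Matrix.mul_apply, Fin.sum_univ_two, hC]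

theorem finite_bad_values {V W : Type*} [AddCommGroup V] [Module k V] [FiniteDimensional k V] [AddCommGroup W]
    [Module k W] [FiniteDimensional k W] (hd : Module.finrank k V = Module.finrank k W) (f₀ f₁ : V →ₗ[k] W)
    {t₀ : k} (h : Function.Injective (f₀ + t₀ • f₁)) :
    {t : k | ¬ Function.Injective (f₀ + t • f₁)}.Finite := by
  classical
  let e : W ≃ₗ[k] V := LinearEquiv.ofFinrankEq W V hd.symm
  let b := Module.finBasis k V
  set M₀ := LinearMap.toMatrix b b (e.toLinearMap ∘ₗ f₀) with hM0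
  set M₁ := LinearMap.toMatrix b b (e.toLinearMap ∘ₗ f₁) with hM1
  set p : k[X] := (Matrix.of fun i j => Polynomial.C (M₀ i j) + Polynomial.X * Polynomial.C (M₁ i j)).det with hp
  have heval : ∀ t, p.eval t = (LinearMap.toMatrix b b (e.toLinearMap ∘ₗ (f₀ + t • f₁))).det := by
    intro t
    rw [hp, ← Polynomial.coe_evalRingHom, RingHom.map_det, LinearMap.comp_add, LinearMap.comp_smul, map_add,
      map_smul, ← hM0, ← hM1]
    congr 1
    ext i j
    simp
    ring
  have hiff : ∀ t, p.eval t ≠ 0 ↔ Function.Injective (f₀ + t • f₁) := by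
    intro t
    rw [heval, LinearMap.det_toMatrix, ← isUnit_iff_ne_zero, ← LinearMap.isUnit_iff_isUnit_det,
      Module.End.isUnit_iff]
    constructor
    · intro hb
      exact Function.Injective.of_comp (f := e) hb.1
    · intro hi
      have h2 : Function.Injective (e.toLinearMap ∘ₗ (f₀ + t • f₁)) := e.injective.comp hi
      exact ⟨h2, LinearMap.injective_iff_surjective.1 h2⟩
  have hp0 : p ≠ 0 := fun e0 => (hiff t₀).2 h (by simp [e0])
  refine (Polynomial.finite_setOf_isRoot hp0).subset fun t ht => ?_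
  by_contra hroot
  exact ht ((hiff t).1 hroot)

theorem exists_common {ι V : Type*} [Infinite k] [AddCommGroup V] [Module k V] (P : ι → V → Prop)
    (hP : ∀ i, ∃ a, P i a) (hfin : ∀ i a b, P i a → {t : k | ¬ P i (a + t • b)}.Finite) (s : Finset ι) :
    ∃ a, ∀ i ∈ s, P i a := by
  classical
  induction s using Finset.induction with
  | empty => exact ⟨0, by simp⟩
  | @insert i s _ ih =>
    obtain ⟨a, ha⟩ := ih
    obtain ⟨b, hb⟩ := hP i
    have h1 : {t : k | ¬ P i (a + t • (b - a))}.Finite := by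
      refine ((hfin i b (b - a) hb).image (fun t => t + 1)).subset fun t ht => ⟨t - 1, ?_, sub_add_cancel t 1⟩
      simp only [Set.mem_setOf_eq] at ht ⊢
      rwa [show b + (t - 1) • (b - a) = a + t • (b - a) by rw [sub_smul, one_smul]; abel]
    have h2 : (⋃ j ∈ (s : Set ι), {t : k | ¬ P j (a + t • (b - a))}).Finite :=
      s.finite_toSet.biUnion fun j hj => hfin j a _ (ha j hj)
    obtain ⟨t, ht⟩ := (h1.union h2).exists_notMem
    simp only [Set.mem_union, Set.mem_iUnion, Set.mem_setOf_eq, not_or, not_exists, not_not] at ht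
    refine ⟨a + t • (b - a), fun j hj => ?_⟩
    rcases Finset.mem_insert.1 hj with rfl | hj
    · exact ht.1
    · exact ht.2 j hj

/-- The functional `v ↦ e (θ v)`. -/
def twist (e : Module.Dual k K) : K →ₗ[k] Module.Dual k K := (LinearMap.mul k K).compr₂ e

theorem twist_apply (e : Module.Dual k K) (θ v : K) : twist e θ v = e (θ * v) := rfl

theorem twist_injective (hx : IsUnit pb.gen) (h0 : 0 < pb.dim) :
    Function.Injective (twist (coord pb ⟨0, h0⟩)) := by
  set e := coord pb ⟨0, h0⟩ with he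
  have e1 : e 1 = 1 := by
    rw [← pow_zero pb.gen, he, coord_pow pb _ h0]
    simp
  have hlt : pb.dim - 1 < pb.dim := by omega
  set c := e (pb.gen ^ pb.dim) with hc
  have hrel : ∀ y, e (pb.gen * y) = c * coord pb ⟨pb.dim - 1, hlt⟩ y := by
    have h : e.comp (LinearMap.mulLeft k pb.gen) = c • coord pb ⟨pb.dim - 1, hlt⟩ := by
      refine pb.basis.ext fun i => ?_
      rw [pb.basis_eq_pow]
      simp only [LinearMap.coe_comp, Function.comp_apply, LinearMap.mulLeft_apply, LinearMap.smul_apply, smul_eq_mul]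
      rw [← pow_succ', coord_pow pb _ i.2]
      rcases eq_or_lt_of_le (show (i : ℕ) + 1 ≤ pb.dim by omega) with h | h
      · rw [if_pos (show (i : ℕ) = pb.dim - 1 by omega), mul_one, h]
      · rw [if_neg (show (i : ℕ) ≠ pb.dim - 1 by omega), mul_zero, he, coord_pow pb _ h, if_neg (by simp)]
    exact fun y => congrArg (fun f => f y) h
  have hc0 : c ≠ 0 := fun h => by
    obtain ⟨u, hu⟩ := hx
    have h1 := hrel ↑u⁻¹
    rw [← hu, Units.mul_inv, e1, h, zero_mul] at h1
    exact one_ne_zero h1
  rw [← LinearMap.ker_eq_bot, LinearMap.ker_eq_bot']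
  intro θ hθ
  refine nonDeg_eq_zero (nonDeg_coord pb hlt) (y := θ) ?_ fun v _ => ?_
  · rw [Nat.sub_add_cancel h0, powSpan_dim pb]
    exact Submodule.mem_top
  · have h1 := congrArg (fun f => f (pb.gen * v)) hθ
    simp only [twist_apply, LinearMap.zero_apply] at h1
    rw [mul_left_comm, hrel] at h1
    exact (mul_eq_zero.1 h1).resolve_left hc0

theorem twist_nonDeg_finite [FiniteDimensional k K] (e : Module.Dual k K) (x c : K) (j : ℕ) {a : K} (b : K)
    (h : NonDeg x (twist e (a * c)) j) :
    {t : k | ¬ NonDeg x (twist e ((a + t • b) * c)) j}.Finite := by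
  have hlin : ∀ t : k, gram x (twist e ((a + t • b) * c)) j =
      gram x (twist e (a * c)) j + t • gram x (twist e (b * c)) j := by
    intro t
    ext u v
    simp [gram_apply, twist_apply, add_mul, smul_mul_assoc]
  have h3 := finite_bad_values (k := k) Subspace.dual_finrank_eq.symm (gram x (twist e (a * c)) j)
    (gram x (twist e (b * c)) j) (t₀ := 0) (by rw [zero_smul, add_zero]; exact h)
  refine h3.subset fun t ht => ?_
  simp only [Set.mem_setOf_eq, NonDeg] at ht ⊢
  rwa [← hlin]

theorem nonDeg_twist_exists [FiniteDimensional k K] (hx : IsUnit pb.gen) (h0 : 0 < pb.dim) {c : K}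
    (hc : IsUnit c) {j : ℕ} (hj : j < pb.dim) :
    ∃ a, NonDeg pb.gen (twist (coord pb ⟨0, h0⟩) (a * c)) (j + 1) := by
  obtain ⟨a, ha⟩ := (LinearMap.injective_iff_surjective_of_finrank_eq_finrank Subspace.dual_finrank_eq.symm).1
    (twist_injective pb hx h0) (coord pb ⟨j, hj⟩)
  exact ⟨a * Ring.inverse c, by rw [mul_assoc, Ring.inverse_mul_cancel _ hc, mul_one, ha]; exact nonDeg_coord pb hj⟩

/-- Over an infinite field of characteristic not `2` every `μ` is in `upperSet`. -/
theorem upperSet_eq_top_of_infinite [Infinite k] [FiniteDimensional k K] (h2 : (2 : k) ≠ 0) (hx : IsUnit pb.gen) :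
    upperSet k pb.gen = ⊤ := by
  classical
  rcases subsingleton_or_nontrivial K with hs | hn
  · exact Submodule.eq_top_iff'.2 fun μ => by rw [Subsingleton.elim μ 0]; exact zero_mem _
  have h0 : 0 < pb.dim := pb.dim_pos
  set x := pb.gen with hx'
  set e := coord pb ⟨0, h0⟩ with he
  have e1 : e 1 = 1 := by
    rw [← pow_zero pb.gen, he, coord_pow pb _ h0]
    simp
  have hEinj := twist_injective pb hx h0
  set s : Bool → K := fun b => if b then x else 1 with hs
  set P : Fin pb.dim × Bool → K → Prop := fun i θ => NonDeg x (twist e (θ * s i.2)) ((i.1 : ℕ) + 1) with hP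
  have hPex : ∀ i, ∃ a, P i a := fun i =>
    nonDeg_twist_exists pb hx h0 (by cases i.2 <;> simp [hs, hx]) i.1.2
  have hfin : ∀ i a b, P i a → {t : k | ¬ P i (a + t • b)}.Finite := fun i a b hab =>
    twist_nonDeg_finite e x (s i.2) _ b hab
  have key := exists_common (k := k) (ι := Fin pb.dim × Bool) (V := K) P hPex hfin
  obtain ⟨θ, hθ⟩ := key Finset.univ
  have hgood : ∀ η, (∀ i, P i η) → ∃ g ∈ pairGroup k x, ∃ C : K, η * C = 1 ∧
      (g : Matrix (Fin 2) (Fin 2) K) 0 0 = 0 ∧ (g : Matrix (Fin 2) (Fin 2) K) 1 0 = x * C := by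
    intro η hη
    have hG : Good pb (twist e η) := fun j hj => ⟨by simpa [hP, hs] using hη (⟨j, hj⟩, false), fun _ => by
      have : shift x (twist e η) = twist e (η * x) := by
        ext v
        simp [shift, twist_apply, mul_assoc]
      rw [this]
      simpa [hP, hs] using hη (⟨j, hj⟩, true)⟩
    obtain ⟨g, hg, C, hg0, hg1, hC⟩ := exists_swap pb hx hG h0
    have h1 : η * C = 1 := hEinj (LinearMap.ext fun v => by
      rw [twist_apply, twist_apply, mul_assoc, one_mul, ← twist_apply]
      exact hC v)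
    exact ⟨g, hg, C, h1, hg0, hg1⟩
  obtain ⟨g, hg, C, hθC, hg0, hg1⟩ := hgood θ fun i => hθ i (Finset.mem_univ i)
  have hsq : ∀ η, (∀ i, P i η) → (η * C) ^ 2 ∈ upperSet k x := by
    intro η hη
    obtain ⟨g', hg', C', hηC, hg'0, hg'1⟩ := hgood η hη
    have := sq_mem_of_columns hg' hg (u := η * C) (by simp [hg0, hg'0])
      (by rw [hg1, hg'1]; linear_combination (-(x * C)) * hηC) (one_mem_upperSet x)
    rwa [mul_one] at this
  rw [eq_top_iff]
  intro μ _
  have hbad : ((⋃ i, {t : k | ¬ P i (θ + t • (μ * θ))}) ∪ ⋃ i, {t : k | ¬ P i (θ + t • -(μ * θ))}).Finite :=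
    (Set.finite_iUnion fun i => hfin i θ _ (hθ i (Finset.mem_univ i))).union
      (Set.finite_iUnion fun i => hfin i θ _ (hθ i (Finset.mem_univ i)))
  obtain ⟨t, ht⟩ := (hbad.insert 0).exists_notMem
  simp only [Set.mem_insert_iff, Set.mem_union, Set.mem_iUnion, Set.mem_setOf_eq, not_or, not_exists, not_not] at ht
  have h4 := sub_mem (hsq _ ht.2.1) (hsq _ ht.2.2)
  have heq : ((θ + t • (μ * θ)) * C) ^ 2 - ((θ + t • -(μ * θ)) * C) ^ 2 = (4 * t) • μ := by
    simp only [Algebra.smul_def, map_mul, map_ofNat]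
    linear_combination (4 * algebraMap k K t * μ * (θ * C + 1)) * hθC
  rw [heq] at h4
  have h5 : (4 * t) ≠ 0 := mul_ne_zero (by simpa [show (4 : k) = 2 * 2 by norm_num] using h2) ht.1
  have h6 := Submodule.smul_mem _ (4 * t)⁻¹ h4
  rwa [inv_smul_smul₀ h5] at h6

end flag

/-! ### The symmetry exchanging the two generating families -/

theorem lower_mem_iff {x : K} (hx : IsUnit x) (μ : K) :
    lower (μ * x) ∈ pairGroup k x ↔ μ ∈ upperSet k x := by
  classical
  have hxi : x * Ring.inverse x = 1 := Ring.mul_inverse_cancel _ hx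
  let σ : SL(2, K) → SL(2, K) := fun g => ⟨!![(g : Matrix (Fin 2) (Fin 2) K) 1 1,
    (g : Matrix (Fin 2) (Fin 2) K) 1 0 * Ring.inverse x;
    (g : Matrix (Fin 2) (Fin 2) K) 0 1 * x, (g : Matrix (Fin 2) (Fin 2) K) 0 0], by
      have h := det_eq g
      simp [Matrix.det_fin_two]
      linear_combination h - (g : Matrix (Fin 2) (Fin 2) K) 1 0 * (g : Matrix (Fin 2) (Fin 2) K) 0 1 * hxi⟩
  have hσval : ∀ g, (σ g : Matrix (Fin 2) (Fin 2) K) =
      !![(g : Matrix (Fin 2) (Fin 2) K) 1 1, (g : Matrix (Fin 2) (Fin 2) K) 1 0 * Ring.inverse x;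
        (g : Matrix (Fin 2) (Fin 2) K) 0 1 * x, (g : Matrix (Fin 2) (Fin 2) K) 0 0] := fun g => rfl
  have hmul : ∀ g h, σ (g * h) = σ g * σ h := by
    intro g h
    refine ext_two ?_ ?_ ?_ ?_ <;>
      simp only [hσval, Matrix.SpecialLinearGroup.coe_mul, Matrix.mul_apply, Fin.sum_univ_two,
        Matrix.of_apply, Matrix.cons_val', Matrix.cons_val_zero, Matrix.cons_val_one, Matrix.cons_val_fin_one,
        Matrix.empty_val']
    · linear_combination (-((g : Matrix (Fin 2) (Fin 2) K) 1 0 * (h : Matrix (Fin 2) (Fin 2) K) 0 1)) * hxi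
    · ring
    · ring
    · linear_combination (-((g : Matrix (Fin 2) (Fin 2) K) 0 1 * (h : Matrix (Fin 2) (Fin 2) K) 1 0)) * hxi
  let σh : SL(2, K) →* SL(2, K) := MonoidHom.mk' σ hmul
  have hU : ∀ a, σh (upper a) = lower (a * x) := fun a => by
    show σ (upper a) = _
    refine ext_two ?_ ?_ ?_ ?_ <;> simp [hσval, upper_val, lower_val]
  have hL : ∀ a, σh (lower (a * x)) = upper a := fun a => by
    show σ (lower (a * x)) = _
    refine ext_two ?_ ?_ ?_ ?_ <;> simp [hσval, upper_val, lower_val, mul_assoc, hxi]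
  have hmem : ∀ g ∈ pairGroup k x, σh g ∈ pairGroup k x := by
    intro g hg
    induction hg using Subgroup.closure_induction with
    | mem y hy =>
      rcases hy with ⟨d, rfl⟩ | ⟨d, rfl⟩
      · rw [hU]; exact lower_mem x d
      · rw [hL]; exact upper_mem x d
    | one => rw [map_one]; exact one_mem _
    | mul a b _ _ ha hb => rw [map_mul]; exact mul_mem ha hb
    | inv a _ ha => rw [map_inv]; exact inv_mem ha
  constructor
  · intro h
    have h1 := hmem _ h
    rw [hL] at h1
    exact h1
  · intro h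
    have h1 := hmem _ h
    rwa [hU] at h1

section Field

variable {K : Type*} [Field K] [Algebra k K]

theorem upperSet_eq_top {x : K} (hx : x ≠ 0) (h : upperSet k x = ⊤) : pairGroup k x = ⊤ := by
  have hU : ∀ μ, upper μ ∈ pairGroup k x := fun μ => by
    have : μ ∈ upperSet k x := h ▸ Submodule.mem_top
    exact this
  set g := upper (-x⁻¹) * lower (algebraMap k K 1 * x) with hg
  have hgH : g ∈ pairGroup k x := mul_mem (hU _) (lower_mem x 1)
  have h00 : (g : Matrix (Fin 2) (Fin 2) K) 0 0 = 0 := by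
    simp [hg, upper_val, lower_val, Matrix.mul_apply, Fin.sum_univ_two, hx]
  have h10 : (g : Matrix (Fin 2) (Fin 2) K) 1 0 = x := by
    simp [hg, upper_val, lower_val, Matrix.mul_apply, Fin.sum_univ_two]
  refine eq_top_of_elementary _ hU fun μ => ?_
  have h1 := mul_mem (mul_mem hgH (hU (-μ / x ^ 2))) (inv_mem hgH)
  rw [conj_upper_swap h00, h10] at h1
  convert h1 using 2
  field_simp

/-- An intermediate field inside `upperSet` gives the same group. -/
theorem pairGroup_intermediate {x : K} (hx : x ≠ 0) (F : IntermediateField k K)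
    (hF : ∀ c : F, (c : K) ∈ upperSet k x) : pairGroup F x = pairGroup k x := by
  refine le_antisymm ((Subgroup.closure_le _).2 ?_) ((Subgroup.closure_le _).2 ?_)
  · rintro _ (⟨c, rfl⟩ | ⟨c, rfl⟩)
    · exact hF c
    · exact (lower_mem_iff hx.isUnit _).2 (hF c)
  · rintro _ (⟨c, rfl⟩ | ⟨c, rfl⟩)
    · exact upper_mem (k := F) x (algebraMap k F c)
    · exact lower_mem (k := F) x (algebraMap k F c)

/-! ### The finite case: counting columns -/

theorem exists_columns [Fintype k] [DecidableEq k] (x : K) (n : ℕ) : ∃ s : Finset (k[X] × k[X]),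
    s.card = (Fintype.card k - 1) ^ (2 * n + 1) ∧ ∀ p ∈ s,
      p.1.natDegree ≤ n ∧ p.2.natDegree ≤ n ∧ p.2.coeff n ≠ 0 ∧ p.1.coeff 0 = 1 ∧
      ∃ g ∈ pairGroup k x, (g : Matrix (Fin 2) (Fin 2) K) 0 0 = Polynomial.aeval x p.1 ∧
        (g : Matrix (Fin 2) (Fin 2) K) 1 0 = x * Polynomial.aeval x p.2 := by
  classical
  induction n with
  | zero =>
    refine ⟨Finset.univ.image fun c : kˣ => ((1 : k[X]), Polynomial.C (c : k)), ?_, ?_⟩
    · rw [Finset.card_image_of_injective, Finset.card_univ, Fintype.card_units]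
      · simp
      · intro a b h
        exact Units.ext (Polynomial.C_injective (congrArg Prod.snd h))
    · intro p hp
      obtain ⟨c, -, rfl⟩ := Finset.mem_image.1 hp
      refine ⟨by simp, by simp, by simp, by simp, lower (algebraMap k K c * x), lower_mem x _, ?_, ?_⟩
      · simp [lower_val]
      · simp [lower_val, mul_comm]
  | succ n ih =>
    obtain ⟨s, hs, hp⟩ := ih
    let A' : (k[X] × k[X]) × (kˣ × kˣ) → k[X] := fun q =>
      q.1.1 + Polynomial.C (q.2.1 : k) * (Polynomial.X * q.1.2)
    let f : (k[X] × k[X]) × (kˣ × kˣ) → k[X] × k[X] := fun q => (A' q, q.1.2 + Polynomial.C (q.2.2 : k) * A' q)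
    have hdA : ∀ q, q.1 ∈ s → (A' q).natDegree ≤ n + 1 := fun q hq =>
      Polynomial.natDegree_add_le_of_degree_le ((hp _ hq).1.trans (Nat.le_succ n))
        ((Polynomial.natDegree_C_mul_le _ _).trans (Polynomial.natDegree_mul_le.trans (by
          have := (hp _ hq).2.1
          rw [Polynomial.natDegree_X]
          omega)))
    have hcA : ∀ q, q.1 ∈ s → (A' q).coeff (n + 1) = (q.2.1 : k) * q.1.2.coeff n := fun q hq => by
      show (q.1.1 + _).coeff (n + 1) = _
      rw [Polynomial.coeff_add, Polynomial.coeff_eq_zero_of_natDegree_lt (Nat.lt_succ_of_le (hp _ hq).1),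
        zero_add, Polynomial.coeff_C_mul, Polynomial.coeff_X_mul]
    have hdC : ∀ q, q.1 ∈ s → (f q).2.natDegree ≤ n + 1 := fun q hq =>
      Polynomial.natDegree_add_le_of_degree_le ((hp _ hq).2.1.trans (Nat.le_succ n))
        ((Polynomial.natDegree_C_mul_le _ _).trans (hdA q hq))
    have hcC : ∀ q, q.1 ∈ s → (f q).2.coeff (n + 1) = (q.2.2 : k) * (A' q).coeff (n + 1) := fun q hq => by
      show (q.1.2 + _).coeff (n + 1) = _
      rw [Polynomial.coeff_add, Polynomial.coeff_eq_zero_of_natDegree_lt (Nat.lt_succ_of_le (hp _ hq).2.1),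
        zero_add, Polynomial.coeff_C_mul]
    refine ⟨(s ×ˢ (Finset.univ : Finset (kˣ × kˣ))).image f, ?_, ?_⟩
    · rw [Finset.card_image_of_injOn, Finset.card_product, hs, Finset.card_univ, Fintype.card_prod,
        Fintype.card_units]
      · ring
      · intro q hq q' hq' h
        have hq1 := (Finset.mem_product.1 hq).1
        have hq1' := (Finset.mem_product.1 hq').1
        have hA : A' q = A' q' := congrArg Prod.fst h
        have hC : (f q).2 = (f q').2 := congrArg Prod.snd h
        have hne : (A' q).coeff (n + 1) ≠ 0 := by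
          rw [hcA q hq1]; exact mul_ne_zero (Units.ne_zero _) (hp _ hq1).2.2.1
        have hc : q.2.2 = q'.2.2 := by
          have h1 := congrArg (fun P => P.coeff (n + 1)) hC
          simp only [hcC q hq1, hcC q' hq1', ← hA] at h1
          exact Units.ext (mul_right_cancel₀ hne h1)
        have hC0 : q.1.2 = q'.1.2 := by
          have h1 : q.1.2 + Polynomial.C (q.2.2 : k) * A' q = q'.1.2 + Polynomial.C (q'.2.2 : k) * A' q' := hC
          rw [← hA, ← hc] at h1
          exact add_right_cancel h1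
        have ha : q.2.1 = q'.2.1 := by
          have h1 := congrArg (fun P => P.coeff (n + 1)) hA
          simp only [hcA q hq1, hcA q' hq1', ← hC0] at h1
          exact Units.ext (mul_right_cancel₀ (hp _ hq1).2.2.1 h1)
        have hA0 : q.1.1 = q'.1.1 := by
          have h1 : q.1.1 + Polynomial.C (q.2.1 : k) * (Polynomial.X * q.1.2) =
              q'.1.1 + Polynomial.C (q'.2.1 : k) * (Polynomial.X * q'.1.2) := hA
          rw [← ha, ← hC0] at h1
          exact add_right_cancel h1
        exact Prod.ext (Prod.ext hA0 hC0) (Prod.ext ha hc)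
    · intro p hpm
      obtain ⟨q, hq, rfl⟩ := Finset.mem_image.1 hpm
      have hq1 := (Finset.mem_product.1 hq).1
      obtain ⟨hd1, hd2, hc2, h10, g, hg, hg0, hg1⟩ := hp _ hq1
      refine ⟨hdA q hq1, hdC q hq1, ?_, ?_,
        lower (algebraMap k K q.2.2 * x) * (upper (algebraMap k K q.2.1) * g),
        mul_mem (lower_mem x _) (mul_mem (upper_mem x _) hg), ?_, ?_⟩
      · rw [hcC q hq1, hcA q hq1]
        exact mul_ne_zero (Units.ne_zero _) (mul_ne_zero (Units.ne_zero _) hc2)
      · show (q.1.1 + _).coeff 0 = 1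
        simp [h10, Polynomial.mul_coeff_zero]
      · rw [lower_mul_fst, upper_mul_fst, hg0, hg1]
        simp [f, A']
      · rw [lower_mul_snd, upper_mul_fst, upper_mul_snd, hg0, hg1]
        simp [f, A']
        ring

theorem card_inequality (q : ℕ) (hq : 5 ≤ q) (n : ℕ) (hn : 1 ≤ n) :
    2 * q ^ (n + 1) < (q - 1) ^ (2 * n + 1) := by
  induction n, hn using Nat.le_induction with
  | base =>
    obtain ⟨r, rfl⟩ : ∃ r, q = r + 1 := ⟨q - 1, by omega⟩
    have hr : 4 ≤ r := by omega
    simp only [add_tsub_cancel_right]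
    simp only [Nat.reduceMul, Nat.reduceAdd]
    nlinarith [Nat.mul_le_mul_right (r * r) hr, Nat.mul_le_mul_right r hr]
  | succ n hn ih =>
    have h1 : q ≤ (q - 1) ^ 2 := by
      obtain ⟨r, rfl⟩ : ∃ r, q = r + 1 := ⟨q - 1, by omega⟩
      simp only [add_tsub_cancel_right]
      nlinarith
    calc 2 * q ^ (n + 1 + 1) = (2 * q ^ (n + 1)) * q := by ring
      _ < (q - 1) ^ (2 * n + 1) * q := Nat.mul_lt_mul_of_pos_right ih (by omega)
      _ ≤ (q - 1) ^ (2 * n + 1) * (q - 1) ^ 2 := Nat.mul_le_mul_left _ h1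
      _ = _ := by ring

/-- In the finite case some square outside the base field stabilises `upperSet`. -/
theorem exists_sq_stabiliser [Finite k] (hq : 5 ≤ Nat.card k) (h2 : (2 : k) ≠ 0) (pb : PowerBasis k K)
    (hm : 2 ≤ pb.dim) :
    ∃ u : K, u ^ 2 ∉ Set.range (algebraMap k K) ∧
      ∀ μ ∈ upperSet k pb.gen, u ^ 2 * μ ∈ upperSet k pb.gen := by
  classical
  haveI := Fintype.ofFinite k
  haveI : Module.Finite k K := pb.finite
  haveI : Finite K := Module.finite_of_finite k
  haveI := Fintype.ofFinite K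
  set x := pb.gen with hxdef
  obtain ⟨s, hs, hp⟩ := exists_columns (k := k) x (pb.dim - 1)
  have hinj : ∀ P Q : k[X], P.natDegree ≤ pb.dim - 1 → Q.natDegree ≤ pb.dim - 1 →
      Polynomial.aeval x P = Polynomial.aeval x Q → P = Q := by
    intro P Q hP hQ h
    by_contra hne
    have h1 : Polynomial.aeval x (P - Q) = 0 := by rw [map_sub, h, sub_self]
    have := pb.dim_le_natDegree_of_root (sub_ne_zero.2 hne) h1
    have := Polynomial.natDegree_sub_le P Q
    omega
  by_contra hcon
  push Not at hcon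
  let F : k[X] × k[X] → K := fun p => Polynomial.aeval x p.2 / Polynomial.aeval x p.1
  have hA0 : ∀ p ∈ s, Polynomial.aeval x p.1 ≠ 0 := fun p hps h => by
    have := hinj p.1 0 (hp p hps).1 (by simp) (by simpa using h)
    have h1 := (hp p hps).2.2.2.1
    rw [this] at h1
    simp at h1
  have hfib : ∀ y, (s.filter fun p => F p = y).card ≤ 2 := by
    intro y
    by_contra hgt
    obtain ⟨p₀, hp₀, p₁, hp₁, p₂, hp₂, h01, h02, h12⟩ := Finset.two_lt_card.1 (not_le.1 hgt)
    simp only [Finset.mem_filter] at hp₀ hp₁ hp₂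
    let u : k[X] × k[X] → K := fun p => Polynomial.aeval x p.1 / Polynomial.aeval x p₀.1
    have husq : ∀ p ∈ s, F p = y → u p ^ 2 ∈ Set.range (algebraMap k K) := by
      intro p hps hFp
      by_contra hn
      obtain ⟨μ, hμ, hμ'⟩ := hcon (u p) hn
      obtain ⟨g, hg, hg0, hg1⟩ := (hp p hps).2.2.2.2
      obtain ⟨g₀, hg₀, hg₀0, hg₀1⟩ := (hp p₀ hp₀.1).2.2.2.2
      refine hμ' (sq_mem_of_columns hg₀ hg (u := u p) ?_ ?_ hμ)
      · rw [hg0, hg₀0]
        exact (div_mul_cancel₀ _ (hA0 p₀ hp₀.1)).symm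
      · rw [hg1, hg₀1]
        have e : Polynomial.aeval x p.2 = F p * Polynomial.aeval x p.1 := (div_mul_cancel₀ _ (hA0 p hps)).symm
        have e₀ : Polynomial.aeval x p₀.2 = F p₀ * Polynomial.aeval x p₀.1 :=
          (div_mul_cancel₀ _ (hA0 p₀ hp₀.1)).symm
        rw [e, e₀, hFp, hp₀.2]
        simp only [u]
        field_simp [hA0 p₀ hp₀.1]
    have huniq : ∀ p ∈ s, ∀ p' ∈ s, F p = y → F p' = y → ∀ r : k, u p = algebraMap k K r * u p' → p = p' := by
      intro p hps p' hps' hFp hFp' r hr
      have h1 : Polynomial.aeval x p.1 = algebraMap k K r * Polynomial.aeval x p'.1 := by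
        simp only [u] at hr
        field_simp [hA0 p₀ hp₀.1] at hr
        linear_combination hr
      rw [← Polynomial.aeval_C x r, ← map_mul] at h1
      have h2 := hinj p.1 _ (hp p hps).1 ((Polynomial.natDegree_C_mul_le _ _).trans (hp p' hps').1) h1
      have h3 := congrArg (fun P => P.coeff 0) h2
      simp only [Polynomial.coeff_C_mul, (hp p hps).2.2.2.1, (hp p' hps').2.2.2.1, mul_one] at h3
      rw [← h3, Polynomial.C_1, one_mul] at h2
      refine Prod.ext h2 (hinj _ _ (hp p hps).2.1 (hp p' hps').2.1 ?_)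
      have e : Polynomial.aeval x p.2 = F p * Polynomial.aeval x p.1 := (div_mul_cancel₀ _ (hA0 p hps)).symm
      have e' : Polynomial.aeval x p'.2 = F p' * Polynomial.aeval x p'.1 := (div_mul_cancel₀ _ (hA0 p' hps')).symm
      rw [e, e', hFp, hFp', h2]
    have hu0 : ∀ p ∈ s, u p ≠ 0 := fun p hps => div_ne_zero (hA0 p hps) (hA0 p₀ hp₀.1)
    have hpair : ∀ p ∈ s, ∀ p' ∈ s, F p = y → F p' = y →
        (u p ∈ Set.range (algebraMap k K) ↔ u p' ∈ Set.range (algebraMap k K)) → p = p' := by
      intro p hps p' hps' hFp hFp' hiff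
      by_cases hin : u p' ∈ Set.range (algebraMap k K)
      · obtain ⟨a, ha⟩ := hiff.2 hin
        obtain ⟨b, hb⟩ := hin
        refine huniq p hps p' hps' hFp hFp' (a / b) ?_
        rw [← ha, ← hb, map_div₀, div_mul_cancel₀]
        rw [hb]; exact hu0 p' hps'
      · obtain ⟨a, ha⟩ := husq p hps hFp
        obtain ⟨b, hb⟩ := husq p' hps' hFp'
        have hns : ∀ (v : K) (c : k), algebraMap k K c = v ^ 2 → v ∉ Set.range (algebraMap k K) →
            quadraticChar k c = -1 := by
          intro v c hc hv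
          rw [quadraticChar_neg_one_iff_not_isSquare]
          rintro ⟨d, rfl⟩
          have h' : (v - algebraMap k K d) * (v + algebraMap k K d) = 0 := by
            rw [map_mul] at hc
            linear_combination -hc
          rcases mul_eq_zero.1 h' with h' | h'
          · exact hv ⟨d, (sub_eq_zero.1 h').symm⟩
          · exact hv ⟨-d, by rw [map_neg, eq_neg_of_add_eq_zero_left h']⟩
        have hb0 : b ≠ 0 := fun e => pow_ne_zero 2 (hu0 p' hps') (by rw [← hb, e, map_zero])
        have ha0 : a ≠ 0 := fun e => pow_ne_zero 2 (hu0 p hps) (by rw [← ha, e, map_zero])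
        obtain ⟨d, hd⟩ := (quadraticChar_one_iff_isSquare (mul_ne_zero ha0 hb0)).1 (by
          rw [map_mul, hns _ a ha (fun h => hin (hiff.1 h)), hns _ b hb hin]
          norm_num)
        have h' : (u p * u p' - algebraMap k K d) * (u p * u p' + algebraMap k K d) = 0 := by
          have hd' := congrArg (algebraMap k K) hd
          rw [map_mul, map_mul, ha, hb] at hd'
          linear_combination hd'
        have hbne : algebraMap k K b ≠ 0 := by rw [hb]; exact pow_ne_zero 2 (hu0 p' hps')
        rcases mul_eq_zero.1 h' with h' | h'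
        · refine huniq p hps p' hps' hFp hFp' (d / b) ?_
          rw [map_div₀, ← sub_eq_zero.1 h', hb]
          field_simp [hu0 p' hps']
        · refine huniq p hps p' hps' hFp hFp' (-d / b) ?_
          rw [map_div₀, map_neg, ← eq_neg_of_add_eq_zero_left h', hb]
          field_simp [hu0 p' hps']
    by_cases h0 : u p₀ ∈ Set.range (algebraMap k K) <;> by_cases h1 : u p₁ ∈ Set.range (algebraMap k K) <;>
      by_cases h2' : u p₂ ∈ Set.range (algebraMap k K)
    all_goals first
      | exact h01 (hpair p₀ hp₀.1 p₁ hp₁.1 hp₀.2 hp₁.2 (by tauto))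
      | exact h02 (hpair p₀ hp₀.1 p₂ hp₂.1 hp₀.2 hp₂.2 (by tauto))
      | exact h12 (hpair p₁ hp₁.1 p₂ hp₂.1 hp₁.2 hp₂.2 (by tauto))
  have hK : Fintype.card K = Fintype.card k ^ pb.dim := by
    rw [Module.card_eq_pow_finrank (K := k) (V := K), pb.finrank]
  have h1 := Finset.card_le_mul_card_image (f := F) s 2 (fun y _ => hfib y)
  have h3 : (s.image F).card ≤ Fintype.card k ^ pb.dim := hK ▸ Finset.card_le_univ _
  rw [Nat.card_eq_fintype_card] at hq
  have h4 := card_inequality _ hq (pb.dim - 1) (by omega)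
  rw [Nat.sub_add_cancel (by omega : 1 ≤ pb.dim)] at h4
  omega

/-- **`SL₂(k(x))` is generated by `upper k` and `lower (x k)`.** -/
theorem pairGroup_eq_top [FiniteDimensional k K] (h2 : (2 : k) ≠ 0) (h3 : Nat.card k ≠ 3) {x : K} (hx : x ≠ 0)
    (htop : IntermediateField.adjoin k ({x} : Set K) = ⊤) : pairGroup k x = ⊤ := by
  classical
  haveI : WellFoundedGT (IntermediateField k K) := StrictMono.wellFoundedGT
    (f := fun F : IntermediateField k K => Subalgebra.toSubmodule F.toSubalgebra)
    (fun F F' h => (OrderEmbedding.strictMono Subalgebra.toSubmodule) h)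
  obtain ⟨F, hF, hmax⟩ := exists_maximal_of_wellFoundedGT (P := fun F : IntermediateField k K =>
    ∀ c : F, (c : K) ∈ upperSet k x) ⟨⊥, (by
      rintro ⟨c, hc⟩
      obtain ⟨a, rfl⟩ := IntermediateField.mem_bot.1 hc
      exact upper_mem x a)⟩
  have hFG := pairGroup_intermediate hx F hF
  have htopF : IntermediateField.adjoin F ({x} : Set K) = ⊤ := by
    apply IntermediateField.restrictScalars_injective k
    rw [IntermediateField.restrictScalars_top, IntermediateField.restrictScalars_adjoin, eq_top_iff, ← htop]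
    exact IntermediateField.adjoin.mono _ _ _ Set.subset_union_right
  rw [← hFG]
  refine upperSet_eq_top hx ?_
  by_cases hxF : x ∈ F
  · rw [eq_top_iff]
    intro μ _
    have hle : IntermediateField.adjoin k ({x} : Set K) ≤ F :=
      IntermediateField.adjoin_le_iff.2 (Set.singleton_subset_iff.2 hxF)
    rw [htop] at hle
    exact upper_mem (k := F) x ⟨μ, hle IntermediateField.mem_top⟩
  have hint : IsIntegral F x := Algebra.IsIntegral.isIntegral x
  let pb : PowerBasis F K := (IntermediateField.adjoin.powerBasis hint).map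
    ((IntermediateField.equivOfEq htopF).trans IntermediateField.topEquiv)
  have hgen : pb.gen = x := by simp [pb]
  have h2F : (2 : F) ≠ 0 := by
    intro e
    apply h2
    have := congrArg (algebraMap F K) e
    rw [map_ofNat, map_zero] at this
    exact (algebraMap k K).injective (by rw [map_ofNat, map_zero]; exact this)
  rcases finite_or_infinite F with hfin | hinf
  · exfalso
    have hm : 2 ≤ pb.dim := by
      by_contra hlt
      have hfr : Module.finrank F K = 1 := by
        have := pb.dim_pos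
        rw [pb.finrank]; omega
      obtain ⟨c, hc⟩ := (finrank_eq_one_iff_of_nonzero' (1 : K) one_ne_zero).1 hfr x
      exact hxF (by rw [← hc, Algebra.smul_def, mul_one]; exact c.2)
    haveI : Finite k := Finite.of_injective _ (algebraMap k F).injective
    have hq : 5 ≤ Nat.card F := by
      have hk : 5 ≤ Nat.card k := by
        haveI := Fintype.ofFinite k
        rw [Nat.card_eq_fintype_card] at h3 ⊢
        obtain ⟨n, hp, hn⟩ := FiniteField.card k (ringChar k)
        have h2' : ringChar k ≠ 2 := fun e => h2 (by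
          haveI := ringChar.of_eq e
          exact CharTwo.two_eq_zero)
        have := hp.two_le
        have hge : ringChar k ≤ Fintype.card k := by rw [hn]; exact Nat.le_self_pow n.ne_zero _
        by_contra hlt
        have h4 : Fintype.card k ≠ 4 := fun e => by
          have : ringChar k ∣ 2 ^ 2 := by
            rw [show (2 : ℕ) ^ 2 = Fintype.card k by rw [e]; norm_num, hn]
            exact dvd_pow_self _ n.ne_zero
          exact h2' ((Nat.prime_dvd_prime_iff_eq hp Nat.prime_two).1 (hp.dvd_of_dvd_pow this))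
        omega
      exact hk.trans (Nat.card_le_card_of_injective _ (algebraMap k F).injective)
    obtain ⟨u, hu, hstab⟩ := exists_sq_stabiliser hq h2F pb hm
    rw [hgen] at hstab
    have hsame : ∀ μ : K, μ ∈ upperSet F x ↔ μ ∈ upperSet k x := fun μ => by
      show upper μ ∈ pairGroup F x ↔ upper μ ∈ pairGroup k x
      rw [hFG]
    let A : Subalgebra k K :=
      { carrier := {a | ∀ μ ∈ upperSet k x, a * μ ∈ upperSet k x}
        mul_mem' := fun {a b} ha hb μ hμ => by rw [mul_assoc]; exact ha _ (hb μ hμ)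
        one_mem' := fun μ hμ => by rwa [one_mul]
        add_mem' := fun {a b} ha hb μ hμ => by rw [add_mul]; exact add_mem (ha μ hμ) (hb μ hμ)
        zero_mem' := fun μ _ => by rw [zero_mul]; exact zero_mem _
        algebraMap_mem' := fun c μ hμ => by rw [← Algebra.smul_def]; exact Submodule.smul_mem _ c hμ }
    set F' := IntermediateField.adjoin k (insert (u ^ 2) (F : Set K)) with hF'
    have hle : F'.toSubalgebra ≤ A := by
      rw [hF', IntermediateField.adjoin_toSubalgebra]
      refine Algebra.adjoin_le ?_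
      intro z hz μ hμ
      rcases Set.mem_insert_iff.1 hz with rfl | hz
      · exact (hsame _).1 (hstab μ ((hsame _).2 hμ))
      · exact (hsame _).1 (Submodule.smul_mem _ (⟨z, hz⟩ : F) ((hsame _).2 hμ))
    have hF'P : ∀ c : F', (c : K) ∈ upperSet k x := fun c => by
      have := hle c.2 1 (one_mem_upperSet x)
      rwa [mul_one] at this
    have hFF' : F ≤ F' := fun z hz => IntermediateField.subset_adjoin k _ (Set.mem_insert_of_mem _ hz)
    have := hmax hF'P hFF' (IntermediateField.subset_adjoin k _ (Set.mem_insert _ _))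
    exact hu ⟨⟨_, this⟩, rfl⟩
  · haveI : Module.Finite F K := pb.finite
    have := upperSet_eq_top_of_infinite pb h2F (by rw [hgen]; exact hx.isUnit)
    rwa [hgen] at this

end Field

end CfsgLib.QuadPair
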