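import Cfsg.Agent.Lib.QuadPair.Elements

/-!
# The subgroup `E(σ)`
-/

set_option autoImplicit false

namespace CfsgLib.QuadPair

open Cfsg

variable {k : Type*} [Field k] {M : Type*} [AddCommGroup M] [Module k M]
variable (G : Subgroup (LinearMap.GeneralLinearGroup k M)) (σ : LinearMap.GeneralLinearGroup k M)

theorem mul_eq_zero_of_ker {α γ δ : M →ₗ[k] M} (hα : α * α = 0) (hγ : LinearMap.ker α ≤ LinearMap.ker γ)
    (hδ : LinearMap.range δ ≤ LinearMap.range α) : γ * δ = 0 := by
  refine LinearMap.ext fun m => ?_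
  obtain ⟨v, hv⟩ := hδ (LinearMap.mem_range_self δ m)
  rw [Module.End.mul_apply, ← hv, LinearMap.zero_apply]
  refine hγ ?_
  rw [LinearMap.mem_ker, ← Module.End.mul_apply, hα, LinearMap.zero_apply]

/-- The endomorphisms `γ` with the kernel and image of `σ - 1` whose scalar family lies in `G`. -/
def actSpace (hσ : alpha σ * alpha σ = 0) : Submodule k (M →ₗ[k] M) where
  carrier := {γ | LinearMap.range γ ≤ LinearMap.range (alpha σ) ∧ LinearMap.ker (alpha σ) ≤ LinearMap.ker γ ∧
    ∀ c : k, ∃ u ∈ G, ((u : LinearMap.GeneralLinearGroup k M) : M →ₗ[k] M) = 1 + c • γ}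
  zero_mem' := by
    refine ⟨by simp, by simp, fun c => ⟨1, one_mem G, by simp⟩⟩
  add_mem' := fun {γ δ} hγ hδ => by
    refine ⟨(LinearMap.range_add_le γ δ).trans (sup_le hγ.1 hδ.1), fun m hm => ?_, fun c => ?_⟩
    · have h1 := hγ.2.1 hm
      have h2 := hδ.2.1 hm
      rw [LinearMap.mem_ker] at h1 h2 ⊢
      rw [LinearMap.add_apply, h1, h2, add_zero]
    · obtain ⟨u, hu, eu⟩ := hγ.2.2 c
      obtain ⟨v, hv, ev⟩ := hδ.2.2 c
      refine ⟨u * v, mul_mem hu hv, ?_⟩
      rw [Units.val_mul, eu, ev, add_mul, mul_add, one_mul, one_mul, smul_mul_assoc, mul_add, mul_one, mul_smul_comm,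
        mul_eq_zero_of_ker hσ hγ.2.1 hδ.1, smul_zero, add_zero, smul_add]
      abel
  smul_mem' := fun a γ hγ => by
    refine ⟨fun m hm => ?_, fun m hm => ?_, fun c => ?_⟩
    · obtain ⟨v, rfl⟩ := hm
      exact Submodule.smul_mem _ a (hγ.1 (LinearMap.mem_range_self γ v))
    · have h1 := hγ.2.1 hm
      rw [LinearMap.mem_ker] at h1 ⊢
      rw [LinearMap.smul_apply, h1, smul_zero]
    · obtain ⟨u, hu, eu⟩ := hγ.2.2 (c * a)
      exact ⟨u, hu, by rw [eu, smul_smul]⟩

variable {G σ}

theorem sq_of_min (hσ : σ ∈ minimalQuadraticElements G) : alpha σ * alpha σ = 0 := hσ.1.2.1.1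

theorem alpha_ne_zero (hσ : σ ∈ minimalQuadraticElements G) : alpha σ ≠ 0 := hσ.1.2.1.2

theorem alpha_mem_actSpace (hσ : σ ∈ minimalQuadraticElements G) : alpha σ ∈ actSpace G σ (sq_of_min hσ) := by
  refine ⟨le_rfl, le_rfl, fun c => ⟨oneAdd _ (smul_sq (sq_of_min hσ) c), ?_, rfl⟩⟩
  exact hσ.1.2.2 (oneAdd_mem_scalarFamily (sq_of_min hσ) c)

theorem actSpace_sq {γ : M →ₗ[k] M} {hσ : alpha σ * alpha σ = 0} (hγ : γ ∈ actSpace G σ hσ) : γ * γ = 0 :=
  mul_eq_zero_of_ker hσ hγ.2.1 hγ.1

variable [FiniteDimensional k M]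

/-- The nonzero members of the space are the `τ - 1`, `τ` in the class of `σ`. -/
theorem mem_class_of_actSpace (hσ : σ ∈ minimalQuadraticElements G) {u : LinearMap.GeneralLinearGroup k M}
    (hu : alpha u ∈ actSpace G σ (sq_of_min hσ)) (hne : alpha u ≠ 0) : u ∈ sameActionClass G σ := by
  have hfam : scalarFamily u ⊆ (G : Set (LinearMap.GeneralLinearGroup k M)) := by
    rintro v ⟨c, hc⟩
    obtain ⟨w, hw, ew⟩ := hu.2.2 c
    have : v = w := Units.ext (by rw [hc, ew]; rfl)
    rw [this]; exact hw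
  have hq : u ∈ quadraticElements G :=
    ⟨hfam (self_mem_scalarFamily u), ⟨actSpace_sq hu, hne⟩, hfam⟩
  have hle : Module.finrank k (LinearMap.range (alpha u)) ≤ Module.finrank k (LinearMap.range (alpha σ)) :=
    Submodule.finrank_mono hu.1
  have heq : Module.finrank k (LinearMap.range (alpha u)) = Module.finrank k (LinearMap.range (alpha σ)) :=
    le_antisymm hle (hσ.2 u hq)
  have hker : LinearMap.ker (alpha σ) = LinearMap.ker (alpha u) := by
    refine Submodule.eq_of_le_of_finrank_eq hu.2.1 ?_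
    have h1 := LinearMap.finrank_range_add_finrank_ker (alpha σ)
    have h2 := LinearMap.finrank_range_add_finrank_ker (alpha u)
    omega
  refine ⟨⟨hq, fun τ hτ => ?_⟩, hker.symm, Submodule.eq_of_le_of_finrank_eq hu.1 heq⟩
  show commutatorRank u ≤ _
  exact le_trans (le_of_eq heq) (hσ.2 τ hτ)

/-- **The elements of `E(σ)`.** -/
theorem mem_sameAction_iff (hσ : σ ∈ minimalQuadraticElements G) {u : LinearMap.GeneralLinearGroup k M} :
    u ∈ sameActionSubgroup G σ ↔ alpha u ∈ actSpace G σ (sq_of_min hσ) := by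
  constructor
  · intro hu
    induction hu using Subgroup.closure_induction with
    | mem v hv =>
      refine ⟨le_of_eq hv.2.2, le_of_eq hv.2.1.symm, fun c => ?_⟩
      exact ⟨oneAdd _ (smul_sq hv.1.1.2.1.1 c), hv.1.1.2.2 (oneAdd_mem_scalarFamily hv.1.1.2.1.1 c), rfl⟩
    | one =>
      have : alpha (1 : LinearMap.GeneralLinearGroup k M) = 0 := by simp [alpha]
      rw [this]; exact zero_mem _
    | mul v w _ _ hv hw =>
      have : alpha (v * w) = alpha v + alpha w := by
        have h0 := mul_eq_zero_of_ker (sq_of_min hσ) hv.2.1 hw.1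
        have h1 : ((v * w : LinearMap.GeneralLinearGroup k M) : M →ₗ[k] M) = (1 + alpha v) * (1 + alpha w) := by
          rw [Units.val_mul, ← alpha_add_one, ← alpha_add_one]
        rw [alpha, h1, add_mul, mul_add, one_mul, mul_add, mul_one, h0]
        simp only [one_mul]
        abel
      rw [this]; exact add_mem hv hw
    | inv v _ hv =>
      have : alpha v⁻¹ = -alpha v := by
        have h2 : ((v⁻¹ : LinearMap.GeneralLinearGroup k M) : M →ₗ[k] M) = 1 - alpha v := by
          refine Units.inv_eq_of_mul_eq_one_right ?_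
          rw [alpha_add_one v, show (1 + alpha v) * (1 - alpha v) = 1 - alpha v * alpha v by noncomm_ring,
            actSpace_sq hv, sub_zero]
        rw [alpha, h2]; abel
      rw [this]; exact neg_mem hv
  · intro hu
    by_cases h0 : alpha u = 0
    · have : u = 1 := Units.ext (by rw [alpha_add_one u, h0, add_zero]; rfl)
      rw [this]; exact one_mem _
    · exact Subgroup.subset_closure (mem_class_of_actSpace hσ hu h0)

theorem sameAction_le (hσ : σ ∈ minimalQuadraticElements G) : sameActionSubgroup G σ ≤ G :=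
  (Subgroup.closure_le _).2 fun _ hv => hv.1.1.1

theorem alpha_mul_sameAction (hσ : σ ∈ minimalQuadraticElements G) {u v : LinearMap.GeneralLinearGroup k M}
    (hu : u ∈ sameActionSubgroup G σ) (hv : v ∈ sameActionSubgroup G σ) : alpha u * alpha v = 0 :=
  mul_eq_zero_of_ker (sq_of_min hσ) ((mem_sameAction_iff hσ).1 hu).2.1 ((mem_sameAction_iff hσ).1 hv).1

theorem sameAction_comm (hσ : σ ∈ minimalQuadraticElements G) {u v : LinearMap.GeneralLinearGroup k M}
    (hu : u ∈ sameActionSubgroup G σ) (hv : v ∈ sameActionSubgroup G σ) : u * v = v * u := by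
  refine Units.ext ?_
  rw [Units.val_mul, Units.val_mul, alpha_add_one u, alpha_add_one v]
  simp only [add_mul, mul_add, one_mul, mul_one, alpha_mul_sameAction hσ hu hv, alpha_mul_sameAction hσ hv hu]
  abel

theorem self_mem_sameAction (hσ : σ ∈ minimalQuadraticElements G) : σ ∈ sameActionSubgroup G σ :=
  (mem_sameAction_iff hσ).2 (alpha_mem_actSpace hσ)

theorem sameAction_pow (hσ : σ ∈ minimalQuadraticElements G) {u : LinearMap.GeneralLinearGroup k M}
    (hu : u ∈ sameActionSubgroup G σ) :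
    ∀ n : ℕ, ((u ^ n : LinearMap.GeneralLinearGroup k M) : M →ₗ[k] M) = 1 + (n : k) • alpha u
  | 0 => by simp
  | n + 1 => by
      rw [pow_succ, Units.val_mul, sameAction_pow hσ hu n, alpha_add_one u, add_mul, mul_add, one_mul,
        smul_mul_assoc, mul_add, mul_one, alpha_mul_sameAction hσ hu hu, add_zero, Nat.cast_succ, add_smul, one_smul]
      simp only [one_mul]
      abel

/-- Members of the class give the same subgroup. -/
theorem sameAction_eq_of_mem (hσ : σ ∈ minimalQuadraticElements G) {u : LinearMap.GeneralLinearGroup k M}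
    (hu : u ∈ sameActionSubgroup G σ) (hne : u ≠ 1) :
    u ∈ minimalQuadraticElements G ∧ sameActionSubgroup G u = sameActionSubgroup G σ := by
  have hne' : alpha u ≠ 0 := fun h => hne (Units.ext (by rw [alpha_add_one u, h, add_zero]; rfl))
  have hc := mem_class_of_actSpace hσ ((mem_sameAction_iff hσ).1 hu) hne'
  refine ⟨hc.1, congrArg Subgroup.closure ?_⟩
  ext v
  exact ⟨fun ⟨a, b, c⟩ => ⟨a, b.trans hc.2.1, c.trans hc.2.2⟩,
    fun ⟨a, b, c⟩ => ⟨a, b.trans hc.2.1.symm, c.trans hc.2.2.symm⟩⟩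

end CfsgLib.QuadPair
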