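import Cfsg.Agent.Lib.QuadPair.Dichotomy

/-!
# Pairs with `αβ` invertible on `[M, σ]`, and the other pairs
-/

set_option autoImplicit false
set_option linter.style.haveILetI false

namespace CfsgLib.QuadPair

open Cfsg Polynomial
open scoped MatrixGroups

variable {k : Type*} [Field k] {M : Type*} [AddCommGroup M] [Module k M]

/-- The data of an invertible pair of square zero maps of equal rank. -/
structure IsSepPair (a b : M →ₗ[k] M) (f : k[X]) : Prop where
  sq_left : a * a = 0
  sq_right : b * b = 0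
  rank_eq : Module.finrank k (LinearMap.range a) = Module.finrank k (LinearMap.range b)
  ann : IsAnnPoly a b f
  irred : Irreducible f
  not_dvd : ¬ X ∣ f

namespace IsSepPair

variable {a b : M →ₗ[k] M} {f : k[X]}

/-- An inverse of `αβ` on `[M, σ]`. -/
theorem exists_inv (h : IsSepPair a b f) : ∃ P : k[X], aeval (a * b) P * (a * b) * a = a := by
  obtain ⟨P, Q, hPQ⟩ := (Polynomial.prime_X.irreducible.coprime_iff_not_dvd (n := f)).2 h.not_dvd
  refine ⟨P, ?_⟩
  have h1 := congrArg (fun q => aeval (a * b) q * a) hPQ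
  simp only [map_add, add_mul, map_mul, map_one, one_mul, aeval_X] at h1
  rwa [mul_assoc (aeval (a * b) Q), (h.ann.2 f).1 dvd_rfl, mul_zero, add_zero] at h1

/-- `β` is injective on `[M, σ]`. -/
theorem right_inj (h : IsSepPair a b f) {v : M} (hv : v ∈ LinearMap.range a) (h0 : b v = 0) : v = 0 := by
  obtain ⟨P, hP⟩ := h.exists_inv
  obtain ⟨x, rfl⟩ := hv
  have h1 := congrArg (fun F : M →ₗ[k] M => F x) hP
  simp only [Module.End.mul_apply, h0, map_zero] at h1
  exact h1.symm

/-- `α` is injective on `β [M, σ]`. -/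
theorem left_inj (h : IsSepPair a b f) {v : M} (hv : v ∈ (LinearMap.range a).map b) (h0 : a v = 0) : v = 0 := by
  obtain ⟨P, hP⟩ := h.exists_inv
  obtain ⟨_, ⟨x, rfl⟩, rfl⟩ := hv
  have h1 := congrArg (fun F : M →ₗ[k] M => F x) hP
  simp only [Module.End.mul_apply, h0, map_zero] at h1
  rw [← h1, map_zero]

theorem map_range (h : IsSepPair a b f) [FiniteDimensional k M] : (LinearMap.range a).map b = LinearMap.range b := by
  refine Submodule.eq_of_le_of_finrank_le LinearMap.map_le_range ?_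
  rw [← h.rank_eq]
  have h3 := LinearMap.finrank_range_add_finrank_ker (b.domRestrict (LinearMap.range a))
  have h4 : LinearMap.ker (b.domRestrict (LinearMap.range a)) = ⊥ := by
    rw [LinearMap.ker_eq_bot']
    rintro ⟨v, hv⟩ h0
    exact Subtype.ext (h.right_inj hv h0)
  rw [h4, finrank_bot, add_zero, LinearMap.range_domRestrict] at h3
  exact le_of_eq h3.symm

/-- `β` factors through `αβ`. -/
theorem right_mul (h : IsSepPair a b f) [FiniteDimensional k M] : b * aeval (a * b) f = 0 := by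
  refine LinearMap.ext fun m => ?_
  rw [LinearMap.zero_apply, Module.End.mul_apply]
  refine h.left_inj (h.map_range ▸ LinearMap.mem_range_self b _) ?_
  rw [← Module.End.mul_apply, ← Module.End.mul_apply]
  have hc : a * b * aeval (a * b) f = aeval (a * b) f * (a * b) := by
    have h7 := congrArg (aeval (a * b)) (mul_comm (X : k[X]) f)
    rwa [map_mul, map_mul, aeval_X] at h7
  rw [hc, ← mul_assoc, (h.ann.2 f).1 dvd_rfl, zero_mul, LinearMap.zero_apply]

theorem dvd_of_mul_X (h : IsSepPair a b f) {p : k[X]} (hp : aeval (a * b) p * (a * b) * a = 0) : f ∣ p := by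
  have h1 : f ∣ p * X := (h.ann.2 _).2 (by rw [map_mul, aeval_X, hp])
  exact (h.irred.prime.dvd_or_dvd h1).resolve_right fun hd =>
    h.not_dvd (Irreducible.associated_of_dvd h.irred Polynomial.irreducible_X hd).symm.dvd

/-- The action of a member is trivial exactly when it is congruent to `1` modulo `f`. -/
theorem phi_eq_zero_iff (h : IsSepPair a b f) [FiniteDimensional k M] (p q r s : k[X]) :
    phi a b p q r s = 0 ↔ f ∣ p ∧ f ∣ q ∧ f ∣ r ∧ f ∣ s := by
  have hfa : aeval (a * b) f * a = 0 := (h.ann.2 f).1 dvd_rfl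
  have hfb := h.right_mul
  have hb0 : ∀ r, f ∣ r → b * aeval (a * b) r = 0 := by
    rintro _ ⟨w, rfl⟩
    rw [map_mul, ← mul_assoc, hfb, zero_mul]
  have hP0 : ∀ p, f ∣ p → aeval (a * b) p * a = 0 := fun p => (h.ann.2 p).1
  constructor
  · intro h0
    set T := a * b with hT
    have haT : a * T = 0 := by rw [hT, ← mul_assoc, h.sq_left, zero_mul]
    have hal : ∀ u : k[X], a * aeval T u = u.coeff 0 • a := left_mul_aeval a b h.sq_left
    have hcomm : ∀ u : k[X], T * aeval T u = aeval T u * T := fun u => by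
      have h7 := congrArg (aeval T) (mul_comm (X : k[X]) u)
      rwa [map_mul, map_mul, aeval_X] at h7
    have e1 : a * phi a b p q r s * a = 0 := by rw [h0, mul_zero, zero_mul]
    simp only [phi, ← hT, mul_add, add_mul, ← mul_assoc, hal, smul_mul_assoc, h.sq_left, haT, zero_mul, smul_zero,
      zero_add] at e1
    rw [mul_assoc _ a a, h.sq_left, mul_zero, add_zero, hcomm] at e1
    have hr : f ∣ r := h.dvd_of_mul_X e1
    have e2 : phi a b p q r s * a = 0 := by rw [h0, zero_mul]
    simp only [phi, ← hT, add_mul, hb0 r hr, zero_mul, add_zero] at e2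
    rw [mul_assoc _ a a, h.sq_left, mul_zero, mul_assoc _ a a, h.sq_left, mul_zero, add_zero, add_zero] at e2
    have hp : f ∣ p := h.dvd_of_mul_X e2
    have hpT : aeval T p * T = 0 := by rw [hT, ← mul_assoc, hP0 p hp, zero_mul]
    have e3 : a * phi a b p q r s = 0 := by rw [h0, mul_zero]
    simp only [phi, ← hT, hpT, hb0 r hr, zero_add, add_zero, mul_add, ← mul_assoc, hal, smul_mul_assoc, h.sq_left,
      smul_zero] at e3
    rw [hcomm] at e3
    have hs : f ∣ s := h.dvd_of_mul_X e3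
    have hbs : b * aeval T s * a = 0 := by rw [mul_assoc, hP0 s hs, mul_zero]
    simp only [phi, ← hT, hpT, hb0 r hr, hbs, zero_add, add_zero] at h0
    exact ⟨hp, (h.ann.2 q).2 h0, hr, hs⟩
  · rintro ⟨hp, hq, hr, hs⟩
    simp only [phi]
    rw [← mul_assoc (aeval (a * b) p), hP0 p hp, hP0 q hq, hb0 r hr, mul_assoc b, hP0 s hs]
    simp

end IsSepPair

variable {σ τ : LinearMap.GeneralLinearGroup k M}

theorem dvd_sub_iff {f P : k[X]} {c : k} (hf : Irreducible f) (hX : ¬ X ∣ f) (hP : P.coeff 0 = c) :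
    f ∣ P.divX ↔ f ∣ P - C c := by
  have h1 := eq_C_add_X_mul P
  rw [hP] at h1
  rw [show P - C c = X * P.divX by linear_combination h1]
  refine ⟨fun h => h.mul_left X, fun h => (hf.prime.dvd_or_dvd h).resolve_left fun hd => ?_⟩
  exact hX (Irreducible.associated_of_dvd hf Polynomial.irreducible_X hd).symm.dvd

theorem act_eq_one_iff [FiniteDimensional k M] {a b : M →ₗ[k] M} {f : k[X]} (h : IsSepPair a b f)
    {g : SL(2, k[X])} (hg : g ∈ cong k) :
    act a b g = 1 ↔ Matrix.SpecialLinearGroup.map (n := Fin 2) (AdjoinRoot.mk f) g = 1 := by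
  have key : Matrix.SpecialLinearGroup.map (n := Fin 2) (AdjoinRoot.mk f) g = 1 ↔
      f ∣ (g : Matrix (Fin 2) (Fin 2) k[X]) 0 0 - C 1 ∧ f ∣ (g : Matrix (Fin 2) (Fin 2) k[X]) 0 1 ∧
        f ∣ (g : Matrix (Fin 2) (Fin 2) k[X]) 1 0 - C 0 ∧ f ∣ (g : Matrix (Fin 2) (Fin 2) k[X]) 1 1 - C 1 := by
    simp only [C_1, C_0, sub_zero]
    simp only [← AdjoinRoot.mk_eq_zero, map_sub, sub_eq_zero, map_one]
    constructor
    · intro e
      refine ⟨?_, ?_, ?_, ?_⟩
      · exact congrArg (fun y : SL(2, AdjoinRoot f) => (y : Matrix (Fin 2) (Fin 2) (AdjoinRoot f)) 0 0) e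
      · exact congrArg (fun y : SL(2, AdjoinRoot f) => (y : Matrix (Fin 2) (Fin 2) (AdjoinRoot f)) 0 1) e
      · exact congrArg (fun y : SL(2, AdjoinRoot f) => (y : Matrix (Fin 2) (Fin 2) (AdjoinRoot f)) 1 0) e
      · exact congrArg (fun y : SL(2, AdjoinRoot f) => (y : Matrix (Fin 2) (Fin 2) (AdjoinRoot f)) 1 1) e
    · rintro ⟨a0, a1, a2, a3⟩
      exact ext_two (by simpa using a0) (by simpa using a1) (by simpa using a2) (by simpa using a3)
  rw [key, act, add_eq_left, h.phi_eq_zero_iff, dvd_sub_iff h.irred h.not_dvd hg.1,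
    dvd_sub_iff h.irred h.not_dvd hg.2, dvd_sub_iff h.irred h.not_dvd (cong_coeff hg)]

theorem polyPair_map_top {f : k[X]} (h2 : (2 : k) ≠ 0) (h3 : Nat.card k ≠ 3) [Fact (Irreducible f)] (hX : ¬ X ∣ f) :
    (polyPair k).map (Matrix.SpecialLinearGroup.map (AdjoinRoot.mk f)) = ⊤ := by
  have hf : Irreducible f := Fact.out
  haveI : Module.Finite k (AdjoinRoot f) := (AdjoinRoot.powerBasis hf.ne_zero).finite
  have hroot : AdjoinRoot.root f ≠ 0 := by
    rw [← AdjoinRoot.mk_X, Ne, AdjoinRoot.mk_eq_zero]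
    exact fun hd => hX (Irreducible.associated_of_dvd hf Polynomial.irreducible_X hd).symm.dvd
  have himg : (polyPair k).map (Matrix.SpecialLinearGroup.map (AdjoinRoot.mk f)) =
      pairGroup k (AdjoinRoot.root f) := by
    rw [polyPair, pairGroup, MonoidHom.map_closure, Set.image_union, ← Set.range_comp, ← Set.range_comp]
    congr 2 <;> refine congrArg Set.range (funext fun c => ?_)
    · rw [Function.comp_apply, map_upper, AdjoinRoot.mk_C]; rfl
    · rw [Function.comp_apply, map_lower, map_mul, AdjoinRoot.mk_C, AdjoinRoot.mk_X]; rfl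
  rw [himg]
  refine pairGroup_eq_top h2 h3 hroot ?_
  rw [eq_top_iff]
  intro y _
  have hy : y ∈ Algebra.adjoin k ({AdjoinRoot.root f} : Set (AdjoinRoot f)) := by
    rw [AdjoinRoot.adjoinRoot_eq_top]; exact Algebra.mem_top
  exact IntermediateField.algebra_adjoin_le_adjoin k _ hy

/-- The isomorphism with `SL₂`. -/
theorem IsSepPair.equiv [FiniteDimensional k M] (h2 : (2 : k) ≠ 0) (h3 : Nat.card k ≠ 3) {f : k[X]}
    [Fact (Irreducible f)] (h : IsSepPair (alpha σ) (alpha τ) f) :
    Nonempty (↥(Subgroup.closure (scalarFamily σ ∪ scalarFamily τ)) ≃* SL(2, AdjoinRoot f)) := by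
  set ψ := ((Matrix.SpecialLinearGroup.map (n := Fin 2) (AdjoinRoot.mk f)).comp (polyPair k).subtype) with hψ
  have hsur : Function.Surjective ψ := by
    rw [← MonoidHom.range_eq_top, hψ, MonoidHom.range_comp, Subgroup.range_subtype]
    exact polyPair_map_top h2 h3 h.not_dvd
  have hker : (rho h.sq_left h.sq_right).ker = ψ.ker := by
    ext g
    rw [MonoidHom.mem_ker, MonoidHom.mem_ker, Units.ext_iff, rho_val, Units.val_one,
      act_eq_one_iff h (polyPair_le g.2)]
    rfl
  rw [← rho_range h.sq_left h.sq_right]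
  exact ⟨(QuotientGroup.quotientKerEquivRange _).symm.trans
    ((QuotientGroup.quotientMulEquivOfEq hker).trans (QuotientGroup.quotientKerEquivOfSurjective ψ hsur))⟩

theorem unipotent_of_triple_zero (hσ : alpha σ * alpha σ = 0) (hτ : alpha τ * alpha τ = 0)
    (h1 : alpha σ * alpha τ * alpha σ = 0) (h2 : alpha τ * alpha σ * alpha τ = 0) :
    IsUnipotentOn (Subgroup.closure (scalarFamily σ ∪ scalarFamily τ)) := by
  refine ⟨3, fun l hl hlen => ?_⟩
  obtain ⟨g₁, g₂, g₃, rfl⟩ : ∃ x y z, l = [x, y, z] := by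
    match l, hlen with
    | [x, y, z], _ => exact ⟨x, y, z, rfl⟩
  set a := alpha σ with ha
  set b := alpha τ with hb
  have hform : ∀ g ∈ Subgroup.closure (scalarFamily σ ∪ scalarFamily τ), ∃ x y z w : k,
      (g : M →ₗ[k] M) - 1 = x • (a * b) + y • a + z • b + w • (b * a) := by
    intro g hg
    rw [← rho_range hσ hτ] at hg
    obtain ⟨y, rfl⟩ := hg
    have hpol : ∀ p : k[X], aeval (a * b) p * a = p.coeff 0 • a ∧ b * aeval (a * b) p = p.coeff 0 • b ∧
        aeval (a * b) p * (a * b) = p.coeff 0 • (a * b) := by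
      intro p
      have hT : ∀ q : k[X], aeval (a * b) (X * q) * a = 0 ∧ b * aeval (a * b) (X * q) = 0 := by
        intro q
        refine ⟨?_, ?_⟩
        · rw [mul_comm, map_mul, aeval_X, mul_assoc, h1, mul_zero]
        · rw [map_mul, aeval_X, ← mul_assoc, ← mul_assoc, h2, zero_mul]
      have hs := eq_C_add_X_mul p
      have e1 : aeval (a * b) p * a = p.coeff 0 • a := by
        conv_lhs => rw [hs]
        rw [map_add, add_mul, (hT _).1, add_zero, aeval_C, Algebra.smul_def]
      refine ⟨e1, ?_, ?_⟩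
      · conv_lhs => rw [hs]
        rw [map_add, mul_add, (hT _).2, add_zero, aeval_C, ← Algebra.commutes, Algebra.smul_def]
      · rw [← mul_assoc, e1, smul_mul_assoc]
    refine ⟨(((y : SL(2, k[X])) : Matrix (Fin 2) (Fin 2) k[X]) 0 0).divX.coeff 0,
      (((y : SL(2, k[X])) : Matrix (Fin 2) (Fin 2) k[X]) 0 1).coeff 0,
      (((y : SL(2, k[X])) : Matrix (Fin 2) (Fin 2) k[X]) 1 0).divX.coeff 0,
      (((y : SL(2, k[X])) : Matrix (Fin 2) (Fin 2) k[X]) 1 1).divX.coeff 0, ?_⟩
    rw [rho_val, act, add_sub_cancel_left, phi, ← ha, ← hb]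
    rw [(hpol _).2.2, (hpol _).1, (hpol _).2.1, mul_assoc b, (hpol _).1, mul_smul_comm]
  obtain ⟨x, y, z, w, e1⟩ := hform g₁ (hl g₁ (by simp))
  obtain ⟨x', y', z', w', e2⟩ := hform g₂ (hl g₂ (by simp))
  obtain ⟨x'', y'', z'', w'', e3⟩ := hform g₃ (hl g₃ (by simp))
  have za : ∀ m, a * (a * m) = 0 := fun m => by rw [← mul_assoc, hσ, zero_mul]
  have zb : ∀ m, b * (b * m) = 0 := fun m => by rw [← mul_assoc, hτ, zero_mul]
  have zaba : ∀ m, a * (b * (a * m)) = 0 := fun m => by rw [← mul_assoc, ← mul_assoc, h1, zero_mul]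
  have zbab : ∀ m, b * (a * (b * m)) = 0 := fun m => by rw [← mul_assoc, ← mul_assoc, h2, zero_mul]
  have zaba' : a * (b * a) = 0 := by rw [← mul_assoc, h1]
  have zbab' : b * (a * b) = 0 := by rw [← mul_assoc, h2]
  simp only [List.pure_def, List.bind_eq_flatMap, List.flatMap_cons, List.flatMap_nil, List.cons_append, List.nil_append,
    List.map_cons, List.map_nil, List.prod_cons, List.prod_nil, mul_one, e1, e2, e3]
  simp [add_mul, mul_add, smul_mul_assoc, mul_smul_comm, mul_assoc, za, zb, zaba, zbab, zaba', zbab', hσ, hτ]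

/-- **Dichotomy, packaged.** -/
theorem dichotomy' [FiniteDimensional k M] {G : Subgroup (LinearMap.GeneralLinearGroup k M)} (h2 : (2 : k) ≠ 0)
    (h3 : Nat.card k ≠ 3) (hσ : σ ∈ minimalQuadraticElements G) (hτ : τ ∈ minimalQuadraticElements G) :
    (alpha σ * alpha τ * alpha σ = 0 ∧ alpha τ * alpha σ * alpha τ = 0) ∨ ∃ f, IsSepPair (alpha σ) (alpha τ) f := by
  rcases dichotomy h2 h3 hσ hτ with h | ⟨f, hf, hi, hX⟩
  · exact Or.inl h
  · exact Or.inr ⟨f, hσ.1.2.1.1, hτ.1.2.1.1, le_antisymm (hσ.2 _ hτ.1) (hτ.2 _ hσ.1), hf, hi, hX⟩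

end CfsgLib.QuadPair
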