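import Cfsg.Agent.Lib.QuadPair.RootPair

/-!
# Pairs generating special rank one groups
-/

set_option autoImplicit false

namespace CfsgLib.QuadPair

open Cfsg Polynomial
open scoped MatrixGroups

variable {k : Type*} [Field k] {M : Type*} [AddCommGroup M] [Module k M] [FiniteDimensional k M]
variable {G : Subgroup (LinearMap.GeneralLinearGroup k M)} {σ τ : LinearMap.GeneralLinearGroup k M}

theorem sameAction_nilpotent (hσ : σ ∈ minimalQuadraticElements G) :
    Group.IsNilpotent (sameActionSubgroup G σ) := by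
  letI : CommGroup (sameActionSubgroup G σ) :=
    { (inferInstance : Group (sameActionSubgroup G σ)) with
      mul_comm := fun u v => Subtype.ext (sameAction_comm hσ u.2 v.2) }
  exact CommGroup.isNilpotent

theorem conjBy_conjBy {Γ : Type*} [Group Γ] (A : Subgroup Γ) (g h : Γ) :
    conjBy (conjBy A g) h = conjBy A (h * g) := by
  rw [conjBy, conjBy, conjBy, Subgroup.map_map]
  congr 1
  ext x
  simp [mul_assoc]

theorem conjBy_one {Γ : Type*} [Group Γ] (A : Subgroup Γ) : conjBy A 1 = A := by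
  ext x; simp [conjBy]

theorem conjBy_self_sameAction (hσ : σ ∈ minimalQuadraticElements G) {u : LinearMap.GeneralLinearGroup k M}
    (hu : u ∈ sameActionSubgroup G σ) : conjBy (sameActionSubgroup G σ) u = sameActionSubgroup G σ := by
  ext x
  constructor
  · rintro ⟨y, hy, rfl⟩
    exact mul_mem (mul_mem hu hy) (inv_mem hu)
  · intro hx
    exact ⟨u⁻¹ * x * u, mul_mem (mul_mem (inv_mem hu) hx) hu, by simp [mul_assoc]⟩

/-- The braid relation of an opposite pair. -/
theorem braid {u v : LinearMap.GeneralLinearGroup k M} (hu : alpha u * alpha u = 0) (hv : alpha v * alpha v = 0)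
    (h1 : alpha u * alpha v * alpha u = alpha u) (h2 : alpha v * alpha u * alpha v = alpha v) :
    u * v⁻¹ * u = v⁻¹ * u * v⁻¹ := by
  have hvi : ((v⁻¹ : LinearMap.GeneralLinearGroup k M) : M →ₗ[k] M) = 1 - alpha v := by
    refine Units.inv_eq_of_mul_eq_one_right ?_
    rw [alpha_add_one v, show (1 + alpha v) * (1 - alpha v) = 1 - alpha v * alpha v by noncomm_ring, hv, sub_zero]
  refine Units.ext ?_
  simp only [Units.val_mul, hvi, alpha_add_one u]
  simp only [add_mul, mul_add, sub_mul, mul_sub, one_mul, mul_one, hu, hv, h1, h2]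
  abel

variable (h2 : (2 : k) ≠ 0) (h3 : Nat.card k ≠ 3)
include h2 h3

theorem not_nil_of_sep (hσ : σ ∈ minimalQuadraticElements G) (hτ : τ ∈ minimalQuadraticElements G) {f : k[X]}
    (hf : IsSepPair (alpha σ) (alpha τ) f) : ∃ g, IsSepPair (alpha τ) (alpha σ) g := by
  rcases dichotomy_root h2 h3 hτ hσ with h | h
  · exact absurd (IsNilPair.not_geom (a := alpha σ) (b := alpha τ) ⟨h.2, h.1⟩ (alpha_ne_zero hτ) hf.rank_eq
      hf.left_geom hf.right_geom) id
  · exact h

/-- The swap of the two subgroups. -/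
theorem conjBy_swap (hσ : σ ∈ minimalQuadraticElements G) (hτ : τ ∈ minimalQuadraticElements G)
    {u v : LinearMap.GeneralLinearGroup k M} (hu : u ∈ sameActionSubgroup G σ) (hv : v ∈ sameActionSubgroup G τ)
    (hu1 : u ≠ 1) (hv1 : v ≠ 1) (e1 : alpha u * alpha v * alpha u = alpha u)
    (e2 : alpha v * alpha u * alpha v = alpha v) :
    conjBy (sameActionSubgroup G σ) v⁻¹ = conjBy (sameActionSubgroup G τ) u⁻¹ := by
  have hb := braid (alpha_mul_sameAction hσ hu hu) (alpha_mul_sameAction hτ hv hv) e1 e2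
  have hwG : u * v⁻¹ * u ∈ G :=
    mul_mem (mul_mem (sameAction_le hσ hu) (inv_mem (sameAction_le hτ hv))) (sameAction_le hσ hu)
  have hw : u * v⁻¹ * u * u * (u * v⁻¹ * u)⁻¹ = v⁻¹ := by
    rw [mul_inv_eq_iff_eq_mul]
    calc u * v⁻¹ * u * u = v⁻¹ * u * v⁻¹ * u := by rw [hb]
      _ = v⁻¹ * (u * v⁻¹ * u) := by group
  have hEF : conjBy (sameActionSubgroup G σ) (u * v⁻¹ * u) = sameActionSubgroup G τ := by
    rw [← (sameAction_eq_of_mem hσ hu hu1).2, conjBy_sameAction hwG, hw,
      (sameAction_eq_of_mem hτ (inv_mem hv) (inv_ne_one.2 hv1)).2]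
  rw [← hEF, ← conjBy_conjBy (sameActionSubgroup G σ) u (u * v⁻¹), conjBy_self_sameAction hσ hu, conjBy_conjBy,
    ← mul_assoc, inv_mul_cancel, one_mul]

/-- **One direction of the rank one condition, with the special property.** -/
theorem rankOne_special (hσ : σ ∈ minimalQuadraticElements G) (hτ : τ ∈ minimalQuadraticElements G) {f : k[X]}
    (hf : IsSepPair (alpha σ) (alpha τ) f) :
    RankOneCondition (sameActionSubgroup G σ) (sameActionSubgroup G τ) ∧
      ∀ a ∈ sameActionSubgroup G σ, a ≠ 1 → ∀ b ∈ sameActionSubgroup G τ, b ≠ 1 →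
        conjBy (sameActionSubgroup G σ) b⁻¹ = conjBy (sameActionSubgroup G τ) a⁻¹ →
          b⁻¹ * a * b = a⁻¹ * b⁻¹ * a := by
  have key : ∀ u ∈ sameActionSubgroup G σ, u ≠ 1 → ∃ v ∈ sameActionSubgroup G τ, v ≠ 1 ∧
      alpha u * alpha v * alpha u = alpha u ∧ alpha v * alpha u * alpha v = alpha v := by
    intro u hu hu1
    obtain ⟨hu', hEu⟩ := sameAction_eq_of_mem hσ hu hu1
    obtain ⟨g, hg⟩ := hf.of_class h2 h3 hσ hτ hu (self_mem_sameAction hτ) hu1
      (fun e => alpha_ne_zero hτ (by rw [e]; simp [alpha]))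
    obtain ⟨v, hv, e1, e2, hv1⟩ := hg.exists_opposite h2 h3 hu' hτ
    exact ⟨v, hv, hv1, e1, e2⟩
  refine ⟨fun u hu hu1 => ?_, fun u hu hu1 v' hv' hv'1 hconj => ?_⟩
  · obtain ⟨v, hv, hv1, e1, e2⟩ := key u hu hu1
    exact ⟨v, hv, hv1, conjBy_swap h2 h3 hσ hτ hu hv hu1 hv1 e1 e2⟩
  · obtain ⟨v, hv, hv1, e1, e2⟩ := key u hu hu1
    have hc := conjBy_swap h2 h3 hσ hτ hu hv hu1 hv1 e1 e2
    have hy : conjBy (sameActionSubgroup G σ) (v * v'⁻¹) = sameActionSubgroup G σ := by
      rw [← conjBy_conjBy (sameActionSubgroup G σ) v'⁻¹ v, hconj, ← hc, conjBy_conjBy, mul_inv_cancel, conjBy_one]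
    have hyF : v * v'⁻¹ ∈ sameActionSubgroup G τ := mul_mem hv (inv_mem hv')
    set y := v * v'⁻¹ with hydef
    have hvv : v = v' := by
      rw [← mul_inv_eq_one, ← hydef]
      by_contra hy1
      have hys : y * σ * y⁻¹ ∈ sameActionSubgroup G σ := hy ▸ ⟨σ, self_mem_sameAction hσ, rfl⟩
      have hr : LinearMap.range (alpha (y * σ * y⁻¹)) ≤ LinearMap.range (alpha σ) := ((mem_sameAction_iff hσ).1 hys).1
      have hcy := mem_class_of_actSpace hτ ((mem_sameAction_iff hτ).1 hyF)
        fun e => hy1 (Units.ext (by rw [alpha_add_one y, e, add_zero]; rfl))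
      have hker : LinearMap.ker (alpha y) = LinearMap.ker (alpha τ) := hcy.2.1
      have hran : LinearMap.range (alpha y) = LinearMap.range (alpha τ) := hcy.2.2
      have hzero : LinearMap.range (alpha σ) ≤ LinearMap.ker (alpha y) := by
        intro x hx
        rw [range_alpha_conj] at hr
        have h5 : (y : M →ₗ[k] M) x - x ∈ LinearMap.range (alpha σ) :=
          sub_mem (hr (Submodule.mem_map_of_mem hx)) hx
        have h6 : alpha y x ∈ LinearMap.range (alpha σ) ⊓ LinearMap.ker (alpha τ) := by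
          refine ⟨h5, ?_⟩
          obtain ⟨z, hz⟩ := hran ▸ LinearMap.mem_range_self (alpha y) x
          show alpha y x ∈ LinearMap.ker (alpha τ)
          rw [LinearMap.mem_ker, ← hz, ← Module.End.mul_apply, sq_of_min hτ, LinearMap.zero_apply]
        rw [hf.right_geom, Submodule.mem_bot] at h6
        exact LinearMap.mem_ker.2 h6
      rw [hker] at hzero
      have hbot : LinearMap.range (alpha σ) = ⊥ := by
        rw [eq_bot_iff, ← hf.right_geom]; exact le_inf le_rfl hzero
      exact alpha_ne_zero hσ (LinearMap.range_eq_bot.1 hbot)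
    subst hvv
    have hb := braid (alpha_mul_sameAction hσ hu hu) (alpha_mul_sameAction hτ hv hv) e1 e2
    calc v⁻¹ * u * v = u⁻¹ * (u * v⁻¹ * u) * v := by group
      _ = u⁻¹ * (v⁻¹ * u * v⁻¹) * v := by rw [hb]
      _ = u⁻¹ * v⁻¹ * u := by group

/-- `(E(σ), E(τ))` is a special rank one pair. -/
theorem isSpecialRankOnePair (hσ : σ ∈ minimalQuadraticElements G) (hτ : τ ∈ minimalQuadraticElements G) {f : k[X]}
    (hf : IsSepPair (alpha σ) (alpha τ) f) :
    IsSpecialRankOnePair (sameActionSubgroup G σ) (sameActionSubgroup G τ) := by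
  obtain ⟨g, hg⟩ := not_nil_of_sep h2 h3 hσ hτ hf
  obtain ⟨hc, hs⟩ := rankOne_special h2 h3 hσ hτ hf
  refine ⟨⟨fun e => ?_, sameAction_nilpotent hσ, sameAction_nilpotent hτ, hc,
    (rankOne_special h2 h3 hτ hσ hg).1⟩, hs⟩
  have ha := (mem_sameAction_iff hτ).1 (e ▸ self_mem_sameAction hσ)
  have hle : LinearMap.range (alpha σ) ≤ LinearMap.ker (alpha τ) := fun x hx => by
    obtain ⟨z, hz⟩ := ha.1 hx
    rw [LinearMap.mem_ker, ← hz, ← Module.End.mul_apply, sq_of_min hτ, LinearMap.zero_apply]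
  refine alpha_ne_zero hσ (LinearMap.range_eq_bot.1 ?_)
  rw [eq_bot_iff, ← hf.right_geom]
  exact le_inf le_rfl hle

omit h2 h3 in
theorem alpha_sup_fixed (hσ : σ ∈ minimalQuadraticElements G) (hτ : τ ∈ minimalQuadraticElements G)
    {g : LinearMap.GeneralLinearGroup k M} (hg : g ∈ sameActionSubgroup G σ ⊔ sameActionSubgroup G τ) :
    LinearMap.range (alpha g) ≤ LinearMap.range (alpha σ) ⊔ LinearMap.range (alpha τ) ∧
      LinearMap.ker (alpha σ) ⊓ LinearMap.ker (alpha τ) ≤ LinearMap.ker (alpha g) := by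
  rw [Subgroup.sup_eq_closure] at hg
  induction hg using Subgroup.closure_induction with
  | mem y hy =>
    rcases hy with hy | hy
    · exact ⟨((mem_sameAction_iff hσ).1 hy).1.trans le_sup_left, inf_le_left.trans ((mem_sameAction_iff hσ).1 hy).2.1⟩
    · exact ⟨((mem_sameAction_iff hτ).1 hy).1.trans le_sup_right,
        inf_le_right.trans ((mem_sameAction_iff hτ).1 hy).2.1⟩
  | one =>
    have : alpha (1 : LinearMap.GeneralLinearGroup k M) = 0 := by simp [alpha]
    rw [this]; simp
  | mul x y _ _ hx hy =>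
    have e : alpha (x * y) = alpha x * (1 + alpha y) + alpha y := by
      simp only [alpha, Units.val_mul, mul_sub, sub_mul, mul_add, mul_one, one_mul]; abel
    rw [e]
    refine ⟨(LinearMap.range_add_le _ _).trans (sup_le ((LinearMap.range_comp_le_range _ _).trans hx.1) hy.1),
      fun m hm => ?_⟩
    have h1 := LinearMap.mem_ker.1 (hx.2 hm)
    have h2' := LinearMap.mem_ker.1 (hy.2 hm)
    rw [LinearMap.mem_ker, LinearMap.add_apply, Module.End.mul_apply, LinearMap.add_apply, Module.End.one_apply, h2']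
    simp [h1]
  | inv x _ hx =>
    have e : alpha x⁻¹ = -(alpha x * ((x⁻¹ : LinearMap.GeneralLinearGroup k M) : M →ₗ[k] M)) := by
      simp only [alpha, sub_mul, one_mul, Units.mul_inv]; abel
    refine ⟨?_, fun m hm => ?_⟩
    · rw [e, LinearMap.range_neg]; exact (LinearMap.range_comp_le_range _ _).trans hx.1
    · have h1 := LinearMap.mem_ker.1 (hx.2 hm)
      have hxm : (x : M →ₗ[k] M) m = m := by
        rw [alpha_add_one x, LinearMap.add_apply, h1, add_zero, Module.End.one_apply]
      rw [LinearMap.mem_ker, alpha, LinearMap.sub_apply, Module.End.one_apply, sub_eq_zero]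
      conv_lhs => rw [← hxm]
      exact inv_apply_apply x m

/-- **The central involution and the decomposition.** -/
theorem exists_involution (hσ : σ ∈ minimalQuadraticElements G) (hτ : τ ∈ minimalQuadraticElements G) {f : k[X]}
    (hf : IsSepPair (alpha σ) (alpha τ) f) :
    let X := sameActionSubgroup G σ ⊔ sameActionSubgroup G τ
    (∃! i : LinearMap.GeneralLinearGroup k M, i ∈ X ∧ i ≠ 1 ∧ i * i = 1 ∧
      (∀ x ∈ X, i * x = x * i) ∧ (∀ m ∈ commutatorSubmodule X, (i : M →ₗ[k] M) m = -m) ∧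
      (∀ m ∈ fixedSubmodule X, (i : M →ₗ[k] M) m = m)) ∧
    IsCompl (fixedSubmodule X) (commutatorSubmodule X) := by
  intro X
  obtain ⟨v, hv, e1, e2, hv1⟩ := hf.exists_opposite h2 h3 hσ hτ
  have hsa := sq_of_min hσ
  have hsd : alpha v * alpha v = 0 := alpha_mul_sameAction hτ hv hv
  have hcv := mem_class_of_actSpace hτ ((mem_sameAction_iff hτ).1 hv)
    fun e => hv1 (Units.ext (by rw [alpha_add_one v, e, add_zero]; rfl))
  have hker : LinearMap.ker (alpha v) = LinearMap.ker (alpha τ) := hcv.2.1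
  have hran : LinearMap.range (alpha v) = LinearMap.range (alpha τ) := hcv.2.2
  set a := alpha σ with ha
  set d := alpha v with hd
  set e := a * d + d * a with he
  have hC : fixedSubmodule X = LinearMap.ker a ⊓ LinearMap.ker d := by
    rw [hker]
    refine le_antisymm (le_inf (iInf₂_le σ (Subgroup.mem_sup_left (self_mem_sameAction hσ)))
      (iInf₂_le τ (Subgroup.mem_sup_right (self_mem_sameAction hτ)))) (le_iInf₂ fun g hg => ?_)
    exact (alpha_sup_fixed hσ hτ hg).2
  have hW : commutatorSubmodule X = LinearMap.range a ⊔ LinearMap.range d := by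
    rw [hran]
    refine le_antisymm (iSup₂_le fun g hg => (alpha_sup_fixed hσ hτ hg).1) (sup_le ?_ ?_)
    · exact le_iSup₂_of_le σ (Subgroup.mem_sup_left (self_mem_sameAction hσ)) le_rfl
    · exact le_iSup₂_of_le τ (Subgroup.mem_sup_right (self_mem_sameAction hτ)) le_rfl
  have hea : e * a = a := by rw [he, add_mul, e1, mul_assoc d a a, hsa, mul_zero, add_zero]
  have hed : e * d = d := by rw [he, add_mul, e2, mul_assoc a d d, hsd, mul_zero, zero_add]
  have hWe : ∀ m ∈ commutatorSubmodule X, e m = m := by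
    rw [hW]
    intro m hm
    obtain ⟨_, ⟨p, rfl⟩, _, ⟨q, rfl⟩, rfl⟩ := Submodule.mem_sup.1 hm
    rw [map_add, ← Module.End.mul_apply, ← Module.End.mul_apply, hea, hed]
  have hCe : ∀ m ∈ fixedSubmodule X, e m = 0 := by
    rw [hC]
    rintro m ⟨h1, h4⟩
    rw [he, LinearMap.add_apply, Module.End.mul_apply, Module.End.mul_apply, LinearMap.mem_ker.1 h1,
      LinearMap.mem_ker.1 h4, map_zero, map_zero, add_zero]
  have heW : ∀ m, e m ∈ commutatorSubmodule X := fun m => by
    rw [hW, he, LinearMap.add_apply]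
    exact add_mem (Submodule.mem_sup_left ⟨_, rfl⟩) (Submodule.mem_sup_right ⟨_, rfl⟩)
  have hrest : ∀ m, m - e m ∈ fixedSubmodule X := by
    have he1 : a * e = a := by rw [he, mul_add, ← mul_assoc, hsa, zero_mul, zero_add, ← mul_assoc, e1]
    have he2 : d * e = d := by rw [he, mul_add, ← mul_assoc, e2, ← mul_assoc, hsd, zero_mul, add_zero]
    intro m
    rw [hC]
    constructor <;> show m - e m ∈ LinearMap.ker _ <;> rw [LinearMap.mem_ker, map_sub, ← Module.End.mul_apply]
    · rw [he1, sub_self]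
    · rw [he2, sub_self]
  have hcompl : IsCompl (fixedSubmodule X) (commutatorSubmodule X) := by
    refine IsCompl.of_eq (eq_bot_iff.2 fun m hm => ?_) (eq_top_iff.2 fun m _ => ?_)
    · rw [Submodule.mem_bot, ← hWe m hm.2, hCe m hm.1]
    · rw [← sub_add_cancel m (e m)]
      exact Submodule.add_mem_sup (hrest m) (heW m)
  set w := σ * v⁻¹ * σ with hw
  have hwX : w ∈ X := mul_mem (mul_mem (Subgroup.mem_sup_left (self_mem_sameAction hσ))
    (inv_mem (Subgroup.mem_sup_right hv))) (Subgroup.mem_sup_left (self_mem_sameAction hσ))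
  have hvi : ((v⁻¹ : LinearMap.GeneralLinearGroup k M) : M →ₗ[k] M) = 1 - d := by
    refine Units.inv_eq_of_mul_eq_one_right ?_
    rw [alpha_add_one v, ← hd, show (1 + d) * (1 - d) = 1 - d * d by noncomm_ring, hsd, sub_zero]
  have hwv : (w : M →ₗ[k] M) = 1 - e + (a - d) := by
    rw [hw, Units.val_mul, Units.val_mul, hvi, alpha_add_one σ, ← ha, he]
    simp only [add_mul, mul_add, sub_mul, mul_sub, one_mul, mul_one, hsa, e1]
    abel
  have hi : ((w * w : LinearMap.GeneralLinearGroup k M) : M →ₗ[k] M) = 1 - e - e := by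
    rw [Units.val_mul, hwv]
    have hae : a * e = a := by rw [he, mul_add, ← mul_assoc, hsa, zero_mul, zero_add, ← mul_assoc, e1]
    have hde : d * e = d := by rw [he, mul_add, ← mul_assoc, e2, ← mul_assoc, hsd, zero_mul, add_zero]
    have hee : e * e = e := by
      conv_lhs => arg 2; rw [he]
      rw [mul_add, ← mul_assoc, hea, ← mul_assoc, hed, he]
    simp only [add_mul, mul_add, sub_mul, mul_sub, one_mul, mul_one, hsa, hsd, hea, hed, hae, hde, hee]
    rw [he]
    abel
  have hiW : ∀ m ∈ commutatorSubmodule X, ((w * w : LinearMap.GeneralLinearGroup k M) : M →ₗ[k] M) m = -m := by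
    intro m hm
    rw [hi, LinearMap.sub_apply, LinearMap.sub_apply, Module.End.one_apply, hWe m hm]; abel
  have hiC : ∀ m ∈ fixedSubmodule X, ((w * w : LinearMap.GeneralLinearGroup k M) : M →ₗ[k] M) m = m := by
    intro m hm
    rw [hi, LinearMap.sub_apply, LinearMap.sub_apply, Module.End.one_apply, hCe m hm, sub_zero, sub_zero]
  refine ⟨⟨w * w, ⟨mul_mem hwX hwX, fun h1 => ?_, ?_, fun x hx => ?_, hiW, hiC⟩, fun j hj => ?_⟩, hcompl⟩
  · apply alpha_ne_zero hσ
    refine LinearMap.ext fun m => ?_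
    have hm : a m ∈ commutatorSubmodule X := hW ▸ Submodule.mem_sup_left (LinearMap.mem_range_self a m)
    have h := hiW _ hm
    rw [h1, Units.val_one, Module.End.one_apply] at h
    have h' : (2 : k) • a m = 0 := by rw [two_smul]; nth_rewrite 1 [h]; exact neg_add_cancel _
    exact (smul_eq_zero.1 h').resolve_left h2
  · refine Units.ext (LinearMap.ext fun m => ?_)
    rw [Units.val_mul, Units.val_one, Module.End.mul_apply, Module.End.one_apply, ← sub_add_cancel m (e m), map_add,
      hiC _ (hrest m), hiW _ (heW m), map_add, hiC _ (hrest m), map_neg, hiW _ (heW m), neg_neg]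
  · refine Units.ext (LinearMap.ext fun m => ?_)
    have hxW : ∀ y ∈ commutatorSubmodule X, (x : M →ₗ[k] M) y ∈ commutatorSubmodule X := fun y hy => by
      rw [alpha_add_one x, LinearMap.add_apply, Module.End.one_apply, hW]
      refine add_mem (hW ▸ hy) ?_
      rw [hran]
      exact (alpha_sup_fixed hσ hτ hx).1 (LinearMap.mem_range_self _ y)
    have hxC : ∀ y ∈ fixedSubmodule X, (x : M →ₗ[k] M) y = y := fun y hy => by
      rw [hC, hker] at hy
      rw [alpha_add_one x, LinearMap.add_apply, LinearMap.mem_ker.1 ((alpha_sup_fixed hσ hτ hx).2 hy), add_zero,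
        Module.End.one_apply]
    generalize w * w = i at hiW hiC ⊢
    rw [Units.val_mul, Units.val_mul, Module.End.mul_apply, Module.End.mul_apply]
    rw [show (x : M →ₗ[k] M) m = (x : M →ₗ[k] M) (m - e m) + (x : M →ₗ[k] M) (e m) by
      rw [← map_add, sub_add_cancel], map_add, hxC _ (hrest m), hiC _ (hrest m), hiW _ (hxW _ (heW m))]
    conv_rhs => rw [← sub_add_cancel m (e m), map_add, hiC _ (hrest m), hiW _ (heW m), map_add, hxC _ (hrest m),
      map_neg]
  · refine Units.ext (LinearMap.ext fun m => ?_)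
    rw [← sub_add_cancel m (e m), map_add, map_add, hiC _ (hrest m), hiW _ (heW m), hj.2.2.2.2.1 _ (heW m),
      hj.2.2.2.2.2 _ (hrest m)]

end CfsgLib.QuadPair
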